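import Cfsg.Agent.Lib.DihedralPair.Fusion
import Cfsg.Agent.Lib.Transfer.WreathedOrSemidihedral

/-
Active boxes and the graphs they define (owner: helper76).

* `Box.active_spec` : an active box gives an element conjugate to the central involution
* `Setting.not_invariant` : transfer
* `Setting.closed_of_boxes` : strong closure
* `Setting.exists_active` : every class has an active box
-/

set_option autoImplicit false

namespace Cfsg.Agent.DihedralPair

open DihedralGroup Cfsg Cfsg.FusionSystem Cfsg.Agent.Fusion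

variable {G : Type*} [Group G] [Finite G] {a b : ℕ} {ι : DD a × DD b →* G} {T : Sylow 2 G}
  {i : ZMod (2 ^ (a + 1))} {j : ZMod (2 ^ (b + 1))} {R : Subgroup G}

/-- The odd part moves the centre off the axis. -/
def Active (B : Box ι T i j R) : Prop :=
  ∃ o ∈ oddAut R, ∃ v w, ((o B.z : R) : G) = ι (v, w) ∧ v ∉ rot a

/-- The group `{1, z, t, tz}` with `t = (sr i, w)`. -/
def InW (i : ZMod (2 ^ (a + 1))) (w : DD b) (p : DD a × DD b) : Prop :=
  p = 1 ∨ p = (zz a, 1) ∨ p = (sr i, w) ∨ p = (sr i * zz a, w)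

/-- The odd part preserves this group. -/
def Fixes (ι : DD a × DD b →* G) (R : Subgroup G) (i : ZMod (2 ^ (a + 1))) (w : DD b) : Prop :=
  ∀ o ∈ oddAut R, ∀ (q : R) (p p' : DD a × DD b),
    (q : G) = ι p → ((o q : R) : G) = ι p' → InW i w p → InW i w p'

/-- The central involution is conjugate to `(sr i, w)`, compatibly with the second one. -/
def Reach (ι : DD a × DD b →* G) (i : ZMod (2 ^ (a + 1))) (w : DD b) : Prop :=
  ∃ g : G, g * ι (zz a, 1) * g⁻¹ = ι (sr i, w) ∧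
    (1 ≤ b → g * ι (1, zz b) * g⁻¹ = ι (1, zz b))

namespace Box

theorem eq_el (B : Box ι T i j R) {q : R} {v : DD a} {w : DD b} (e : (q : G) = ι (v, w)) :
    v ∈ four i ∧ w ∈ four j := B.mem_iff.1 (e ▸ q.2)

theorem comm_of_not_active (B : Box ι T i j R) (ha : 1 ≤ a) (h : ¬ Active B) :
    ∀ o ∈ oddAut R, o * B.x ha * o⁻¹ = B.x ha := by
  intro o ho
  by_contra hne
  obtain ⟨v, w, -, -, e⟩ := B.exists_eq (o B.z)
  refine h ⟨o, ho, v, w, e, fun hv => (B.base ha).not_mem ho hne ((B.mem_ax e).2 hv)⟩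

theorem exists_moved (B : Box ι T i j R) (ha : 1 ≤ a) (h : Active B) :
    ∃ u, Lin.Moved (B.x ha) B.z B.ax (oddAut R) u := by
  obtain ⟨o, ho, v, w, e, hv⟩ := h
  refine (B.base ha).exists_inverted ho fun hx => hv ((B.mem_ax e).1 ?_)
  rw [((B.base ha).fix_of_comm hx).1]
  exact (B.transv ha).mem

theorem active_of_not_comm (B : Box ι T i j R) (ha : 1 ≤ a) {o : MulAut R} (ho : o ∈ oddAut R)
    (hne : o * B.x ha * o⁻¹ ≠ B.x ha) : Active B :=
  by_contra fun h => hne (B.comm_of_not_active ha h o ho)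

theorem active_spec (B : Box ι T i j R) (ha : 1 ≤ a) (h : Active B) :
    ∃ w ∈ four j, (1 ≤ b → w = 1 ∨ w = zz b) ∧ Fixes ι R i w ∧ Reach ι i w := by
  obtain ⟨u, M⟩ := B.exists_moved ha h
  obtain ⟨v, w, hv, hw, e⟩ := B.exists_eq (u B.z)
  have hvr : v ∉ rot a := fun hh => M.uz_not_mem ((B.mem_ax e).2 hh)
  have hsr : v = sr i ∨ v = sr i * zz a := by
    rcases mem_four.1 hv with rfl | rfl | rfl | rfl
    · exact absurd (one_mem _) hvr
    · exact absurd ⟨mid a, rfl⟩ hvr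
    · exact Or.inl rfl
    · exact Or.inr (by rw [zz, sr_mul_r])
  have hez : ((B.z * u B.z : R) : G) = ι (v * zz a, w) := by
    rw [Subgroup.coe_mul, e, zz_comm]
    show ι (zz a, 1) * ι (v, w) = _
    rw [← map_mul, Prod.mk_mul_mk, one_mul]
  have hzz : sr i * zz a * zz a = sr i := by rw [mul_assoc, zz_mul_self, mul_one]
  have hW : ∀ (q : R) (p : DD a × DD b), (q : G) = ι p → (q ∈ M.W ↔ InW i w p) := by
    intro q p hp
    have he : ∀ (r : R) (p' : DD a × DD b), (r : G) = ι p' → (q = r ↔ p = p') := fun r p' hr =>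
      ⟨fun hh => B.inj (hp.symm.trans (hh ▸ hr)), fun hh => Subtype.ext (hp.trans (hh ▸ hr.symm))⟩
    rw [M.mem_W, he 1 1 (map_one ι).symm, he B.z (zz a, 1) rfl, he _ _ e, he _ _ hez, InW]
    rcases hsr with rfl | rfl
    · tauto
    · rw [hzz]; tauto
  have hsecond : ∀ hb : 1 ≤ b, (w = 1 ∨ w = zz b) ∧ u B.swap.z = B.swap.z := by
    intro hb
    obtain ⟨h1, h2⟩ := M.W_le_second (B.swap.base hb) (B.comm_xy ha hb) B.z_ne B.swap.z_mem_ax
      B.z_mem_ax
    exact ⟨four_rot hw ((B.swap.mem_ax (q := u B.z) (v := w) (w := v) e).1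
      (h1 (M.mem_W.2 (Or.inr (Or.inr (Or.inl rfl)))))), h2⟩
  refine ⟨w, hw, fun hb => (hsecond hb).1, fun o ho q p p' hp hp' hin => ?_, ?_⟩
  · exact (hW _ _ hp').1 (M.mem_W_of_mem ho ((hW q p hp).2 hin))
  · obtain ⟨g, -, hg⟩ := mem_autInducedBy_iff.1 (oddAut_le R M.mem)
    have h1 : g * ι (zz a, 1) * g⁻¹ = ι (v, w) := (hg B.z).symm.trans e
    have h2 : 1 ≤ b → g * ι (1, zz b) * g⁻¹ = ι (1, zz b) := fun hb =>
      (hg B.swap.z).symm.trans (congrArg Subtype.val (hsecond hb).2)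
    rcases hsr with rfl | rfl
    · exact ⟨g, h1, h2⟩
    · refine ⟨ι (r (quarter a), 1) * g, ?_, fun hb => ?_⟩
      · rw [show ι (r (quarter a), 1) * g * ι (zz a, 1) * (ι (r (quarter a), 1) * g)⁻¹ =
          ι (r (quarter a), 1) * (g * ι (zz a, 1) * g⁻¹) * (ι (r (quarter a), 1))⁻¹ by group, h1,
          ← map_inv, ← map_mul, ← map_mul]
        congr 1
        refine Prod.ext ?_ (by simp)
        show r (quarter a) * (sr i * zz a) * (r (quarter a))⁻¹ = sr i
        rw [← conj_mul, quarter_conj_sr ha, zz_comm (r (quarter a)), mul_inv_cancel_right, hzz]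
      · rw [show ι (r (quarter a), 1) * g * ι (1, zz b) * (ι (r (quarter a), 1) * g)⁻¹ =
          ι (r (quarter a), 1) * (g * ι (1, zz b) * g⁻¹) * (ι (r (quarter a), 1))⁻¹ by group, h2 hb,
          ← map_inv, ← map_mul, ← map_mul]
        simp

end Box

theorem map_quad_conj {i' : ZMod (2 ^ (a + 1))} {d : DD a} (hd : d * sr i * d⁻¹ = sr i')
    (j : ZMod (2 ^ (b + 1))) :
    (quad ι i j).map (MulAut.conj (ι (d, 1))).toMonoidHom = quad ι i' j := by
  have hiff : ∀ x, x ∈ four i ↔ d * x * d⁻¹ ∈ four i' := fun x => by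
    rw [four, four, Subgroup.mem_centralizer_singleton_iff, Subgroup.mem_centralizer_singleton_iff,
      ← hd, conj_mul, conj_mul, mul_left_inj, mul_right_inj]
  ext g
  constructor
  · rintro ⟨_, ⟨⟨v, w⟩, ⟨hv, hw⟩, rfl⟩, rfl⟩
    refine ⟨(d * v * d⁻¹, w), ⟨(hiff v).1 hv, hw⟩, ?_⟩
    show _ = ι (d, 1) * ι (v, w) * (ι (d, 1))⁻¹
    rw [← map_inv, ← map_mul, ← map_mul]; simp
  · rintro ⟨⟨v, w⟩, ⟨hv, hw⟩, rfl⟩
    refine ⟨ι (d⁻¹ * v * d, w), ⟨(d⁻¹ * v * d, w), ⟨(hiff _).2 ?_, hw⟩, rfl⟩, ?_⟩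
    · rwa [show d * (d⁻¹ * v * d) * d⁻¹ = v by group]
    · show ι (d, 1) * ι (d⁻¹ * v * d, w) * (ι (d, 1))⁻¹ = _
      rw [← map_inv, ← map_mul, ← map_mul]; simp [mul_assoc]

theorem Setting.active_conj (S : Setting ι T) {i' : ZMod (2 ^ (a + 1))} (h : par i = par i')
    (hA : Active (S.box i j)) : Active (S.box i' j) := by
  obtain ⟨d, hd⟩ := exists_conj_of_par h.symm
  obtain ⟨o, ho, v, w, e, hv⟩ := hA
  obtain ⟨o', ho', hoo⟩ := oddAut_conj (map_quad_conj (ι := ι) hd j) ho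
  obtain ⟨v', w', -, -, e'⟩ := (S.box i' j).exists_eq (o' (S.box i' j).z)
  refine ⟨o', ho', v', w', e', fun hr => hv ?_⟩
  have h1 := hoo (S.box i' j).z (S.box i j).z (by
    show ι (zz a, 1) = ι (d, 1) * ι (zz a, 1) * (ι (d, 1))⁻¹
    rw [← map_inv, ← map_mul, ← map_mul]; simp [zz_comm d])
  rw [e, e', ← map_inv, ← map_mul, ← map_mul] at h1
  have h2 : v = d * v' * d⁻¹ := congrArg Prod.fst (S.inj h1)
  rw [h2, mul_mem_rot_iff, mul_mem_rot_iff, inv_mem_iff]
  tauto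

theorem InW.conj {i' : ZMod (2 ^ (a + 1))} {w : DD b} {d : DD a} (hd : d * sr i * d⁻¹ = sr i')
    {p : DD a × DD b} (hp : InW i w p) : InW i' w (d * p.1 * d⁻¹, p.2) := by
  have hz : d * zz a * d⁻¹ = zz a := by rw [zz_comm, mul_inv_cancel_right]
  rcases hp with rfl | rfl | rfl | rfl
  · exact Or.inl (by simp [Prod.mk_one_one])
  · exact Or.inr (Or.inl (by rw [hz]))
  · exact Or.inr (Or.inr (Or.inl (by rw [hd])))
  · exact Or.inr (Or.inr (Or.inr (by rw [← conj_mul, hd, hz])))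

theorem Setting.fixes_conj (S : Setting ι T) {i' : ZMod (2 ^ (a + 1))} {w : DD b}
    (h : par i = par i') (hF : Fixes ι (quad ι i j) i w) : Fixes ι (quad ι i' j) i' w := by
  obtain ⟨d, hd⟩ := exists_conj_of_par h
  intro o ho q p p' hp hp' hin
  obtain ⟨o', ho', hoo⟩ := oddAut_conj (map_quad_conj (ι := ι) hd j) ho
  have hd' : d⁻¹ * sr i' * d⁻¹⁻¹ = sr i := by rw [← hd]; group
  have hback := hin.conj hd'
  have hmem : ι (d⁻¹ * p.1 * d⁻¹⁻¹, p.2) ∈ quad ι i j := by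
    have h2 := (S.box i' j).mem_iff.1 (hp ▸ q.2)
    refine (S.box i j).mem_iff.2 ⟨?_, h2.2⟩
    have := h2.1
    rw [four, Subgroup.mem_centralizer_singleton_iff, ← hd] at this
    rw [four, Subgroup.mem_centralizer_singleton_iff]
    calc d⁻¹ * p.1 * d⁻¹⁻¹ * sr i = d⁻¹ * (p.1 * (d * sr i * d⁻¹)) * d := by group
      _ = d⁻¹ * (d * sr i * d⁻¹ * p.1) * d := by rw [this]
      _ = sr i * (d⁻¹ * p.1 * d⁻¹⁻¹) := by group
  set q0 : quad ι i j := ⟨_, hmem⟩
  obtain ⟨r, hr⟩ := S.exists_rep ((S.box i j).le (o' q0).2)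
  have h1 := hoo q0 q (by
    rw [hp, ← map_inv, ← map_mul, ← map_mul]
    congr 1
    exact Prod.ext (by simp [mul_assoc]) (by simp))
  rw [hp', ← hr, ← map_inv, ← map_mul, ← map_mul] at h1
  have h3 : p' = (d * r.1 * d⁻¹, r.2) := by
    rw [S.inj h1]; exact Prod.ext rfl (by simp)
  rw [h3]
  exact (hF o' ho' q0 _ r rfl hr.symm hback).conj hd

theorem Setting.reach_conj (S : Setting ι T) {i' : ZMod (2 ^ (a + 1))} {w : DD b}
    (h : par i = par i') (hR : Reach ι i w) : Reach ι i' w := by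
  obtain ⟨d, hd⟩ := exists_conj_of_par h
  obtain ⟨g, h1, h2⟩ := hR
  have hstep : ∀ x y : DD a × DD b, g * ι x * g⁻¹ = ι y →
      ι (d, 1) * g * ι x * (ι (d, 1) * g)⁻¹ = ι ((d, 1) * y * (d, 1)⁻¹) := fun x y e => by
    rw [map_mul, map_mul, map_inv, ← e]; group
  refine ⟨ι (d, 1) * g, ?_, fun hb => ?_⟩
  · rw [hstep _ _ h1]; simp [hd]
  · rw [hstep _ _ (h2 hb)]; simp

theorem Setting.reach_unique (S : Setting ι T) (ha : 1 ≤ a) (hb : 1 ≤ b) {w w' : DD b}
    (hw : w = 1 ∨ w = zz b) (hw' : w' = 1 ∨ w' = zz b) (h : Reach ι i w) (h' : Reach ι i w') :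
    w = w' := by
  by_contra hne
  have hw2 : w' = w * zz b := by
    rcases hw with rfl | rfl <;> rcases hw' with rfl | rfl <;> simp_all [zz_mul_self]
  obtain ⟨g, h1, h2⟩ := h
  obtain ⟨g', h1', -⟩ := h'
  have h3 : g * ι (zz a, zz b) * g⁻¹ = ι (sr i, w') := by
    rw [show ((zz a, zz b) : DD a × DD b) = (zz a, 1) * (1, zz b) by simp, map_mul, ← conj_mul, h1,
      h2 hb, ← map_mul, hw2]
    simp
  have h4 : g'⁻¹ * g * ι (zz a, zz b) * (g'⁻¹ * g)⁻¹ = ι (zz a, 1) := by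
    rw [show g'⁻¹ * g * ι (zz a, zz b) * (g'⁻¹ * g)⁻¹ = g'⁻¹ * (g * ι (zz a, zz b) * g⁻¹) * g' by
      group, h3, ← h1']
    group
  exact zz_ne_one b (congrArg Prod.snd
    (S.not_conj ha hb (p := (zz a, zz b)) (q := (zz a, 1)) ⟨Or.inr rfl, Or.inr rfl⟩
      ⟨Or.inr rfl, Or.inl rfl⟩ h4))

/-- A subgroup containing the boxes of a side form is everything. -/
theorem side_gen {E : Subgroup (DD a × DD b)} (hE : SideForm E) (K : Subgroup E)
    (h : ∀ e : E, ∀ i j, (four i).prod (four j) ≤ E →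
      (e : DD a × DD b) ∈ (four i).prod (four j) → e ∈ K) (e : E) : e ∈ K := by
  rcases hE with ⟨i, rfl⟩ | ⟨j, rfl⟩
  · have key : ∀ (x : ↥((four i).prod (⊤ : Subgroup (DD b)))) (l : ZMod (2 ^ (b + 1))),
        (x : DD a × DD b).2 ∈ four l → x ∈ K :=
      fun x l hl => h x i l (Subgroup.prod_mono le_rfl le_top) ⟨x.2.1, hl⟩
    obtain ⟨⟨v, w⟩, hv, -⟩ := e
    cases w with
    | sr l => exact key _ l (sr_mem_four l)
    | r k =>
      rw [show (⟨(v, r k), hv, trivial⟩ : ↥((four i).prod (⊤ : Subgroup (DD b)))) =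
        ⟨(1, sr 0), one_mem _, trivial⟩ * ⟨(v, sr k), hv, trivial⟩ from
          Subtype.ext (by simp)]
      exact mul_mem (key _ 0 (sr_mem_four 0)) (key _ k (sr_mem_four k))
  · have key : ∀ (x : ↥((⊤ : Subgroup (DD a)).prod (four j))) (l : ZMod (2 ^ (a + 1))),
        (x : DD a × DD b).1 ∈ four l → x ∈ K :=
      fun x l hl => h x l j (Subgroup.prod_mono le_top le_rfl) ⟨hl, x.2.2⟩
    obtain ⟨⟨v, w⟩, -, hw⟩ := e
    cases v with
    | sr l => exact key _ l (sr_mem_four l)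
    | r k =>
      rw [show (⟨(r k, w), trivial, hw⟩ : ↥((⊤ : Subgroup (DD a)).prod (four j))) =
        ⟨(sr 0, 1), trivial, one_mem _⟩ * ⟨(sr k, w), trivial, hw⟩ from
          Subtype.ext (by simp)]
      exact mul_mem (key _ 0 (sr_mem_four 0)) (key _ k (sr_mem_four k))

/-- Transfer. -/
theorem Setting.not_invariant (S : Setting ι T) (hab : 1 ≤ a ∨ 1 ≤ b)
    (h2 : ∀ H : Subgroup G, H.index ≠ 2) (χ : DD a × DD b →* Multiplicative (ZMod 2))
    {p₀ : DD a × DD b} (hp₀ : χ p₀ ≠ 1)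
    (hbox : ∀ i j, ∀ o ∈ oddAut (quad ι i j), ∀ (x : quad ι i j) (p q : DD a × DD b),
      (x : G) = ι p → (o x : G) = ι q → χ p = χ q) : False := by
  let e : DD a × DD b ≃* (T : Subgroup G) :=
    (MonoidHom.ofInjective S.inj).trans (MulEquiv.subgroupCongr S.range)
  obtain ⟨H, hH⟩ := Transfer.not_index_two_of_invariant T (χ.comp e.symm.toMonoidHom)
    (fun q g hq hgq => by
      have he : ∀ p, ((e p : (T : Subgroup G)) : G) = ι p := fun _ => rfl
      show χ (e.symm ⟨_, hgq⟩) = χ (e.symm ⟨q, hq⟩)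
      refine (S.fusion_induct hab (fun p q => χ p = χ q) (fun _ _ _ => Eq.trans)
        (fun p u => by rw [map_mul, map_mul, mul_comm (χ u), mul_assoc, ← map_mul, mul_inv_cancel,
          map_one, mul_one]) hbox ?_ (g := g) ?_).symm
      · intro E hE f hf e'
        exact side_gen hE (MonoidHom.eqLocus (χ.comp E.subtype) (χ.comp f))
          (fun v i j hle hv => hf v i j hle hv) e'
      · rw [← he, ← he, MulEquiv.apply_symm_apply, MulEquiv.apply_symm_apply])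
    (x := e p₀) (by
      rw [MonoidHom.mem_ker]
      show χ (e.symm (e p₀)) ≠ 1
      rwa [MulEquiv.symm_apply_apply])
  exact h2 H hH

/-- Strong closure from the boxes. -/
theorem Setting.closed_of_boxes (S : Setting ι T) (hab : 1 ≤ a ∨ 1 ≤ b)
    (X : Subgroup (DD a × DD b)) [X.Normal]
    (hbox : ∀ i j, ∀ o ∈ oddAut (quad ι i j), ∀ (x : quad ι i j) (p q : DD a × DD b),
      (x : G) = ι p → (o x : G) = ι q → p ∈ X → q ∈ X)
    (hgen : ∀ E, SideForm E → ∀ p ∈ E, p ∈ X → p ∈ Subgroup.closure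
      {r | r ∈ X ∧ ∃ i j, (four i).prod (four j) ≤ E ∧ r ∈ (four i).prod (four j)}) :
    IsStronglyClosed (X.map ι) (T : Subgroup G) := by
  refine ⟨fun x ⟨p, _, e⟩ => e ▸ S.mem p, ?_⟩
  rintro _ ⟨p, hp, rfl⟩ g hg
  obtain ⟨q, hq⟩ := S.exists_rep hg
  refine ⟨q, S.fusion_induct hab (fun p q => p ∈ X → q ∈ X) (fun _ _ _ h h' => h' ∘ h)
    (fun p u hp => ‹X.Normal›.conj_mem p hp u) hbox ?_ hq.symm hp, hq⟩
  intro E hE f hf e' he
  have : ∀ r ∈ Subgroup.closure
      {r | r ∈ X ∧ ∃ i j, (four i).prod (four j) ≤ E ∧ r ∈ (four i).prod (four j)},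
      ∃ hr : r ∈ E, f ⟨r, hr⟩ ∈ X := by
    intro r hr
    induction hr using Subgroup.closure_induction with
    | mem r hr =>
      obtain ⟨hX, i, j, hle, hm⟩ := hr
      exact ⟨hle hm, hf ⟨r, hle hm⟩ i j hle hm hX⟩
    | one => exact ⟨one_mem E, by rw [show (⟨1, one_mem E⟩ : E) = 1 from rfl, map_one]; exact one_mem X⟩
    | mul x y _ _ hx hy =>
      obtain ⟨h1, h1'⟩ := hx
      obtain ⟨h2, h2'⟩ := hy
      exact ⟨mul_mem h1 h2, by
        rw [show (⟨x * y, mul_mem h1 h2⟩ : E) = ⟨x, h1⟩ * ⟨y, h2⟩ from rfl, map_mul]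
        exact mul_mem h1' h2'⟩
    | inv x _ hx =>
      obtain ⟨h1, h1'⟩ := hx
      exact ⟨inv_mem h1, by
        rw [show (⟨x⁻¹, inv_mem h1⟩ : E) = ⟨x, h1⟩⁻¹ from rfl, map_inv]; exact inv_mem h1'⟩
  obtain ⟨_, h⟩ := this _ (hgen E hE e' e'.2 he)
  exact h

theorem exists_par (n : ℕ) (ε : ZMod 2) : ∃ l : ZMod (2 ^ (n + 1)), par l = ε :=
  ⟨(ε.val : ZMod (2 ^ (n + 1))), by rw [map_natCast, ZMod.natCast_zmod_val]⟩

/-- Each class has an active box. -/
theorem Setting.exists_active (S : Setting ι T) (ha : 1 ≤ a) (h2 : ∀ H : Subgroup G, H.index ≠ 2)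
    (ε : ZMod 2) : ∃ i j, par i = ε ∧ Active (S.box i j) := by
  by_contra hne
  push Not at hne
  obtain ⟨l, hl⟩ := exists_par a ε
  refine S.not_invariant (Or.inl ha) h2 ((parHom ε).comp (MonoidHom.fst (DD a) (DD b)))
    (p₀ := (sr l, 1)) ?_ ?_
  · show parHom ε (sr l) ≠ 1
    rw [parHom_sr, hl]
    exact (by decide : ∀ e : ZMod 2, Multiplicative.ofAdd (e + e + 1) ≠ 1) ε
  · intro i j o ho x p q hp hq
    set B := S.box i j
    obtain ⟨v, w⟩ := p
    obtain ⟨v', w'⟩ := q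
    have hv := (B.eq_el hp).1
    have hv' := (B.eq_el hq).1
    show parHom ε v = parHom ε v'
    have hz : parHom ε (zz a) = 1 := by rw [zz, parHom_r, par_mid ha]; rfl
    by_cases hi : par i = ε
    · have hax : x * o x ∈ B.ax := Lin.commutator_mem_axis (B.base ha)
        (B.comm_of_not_active ha (hne i j hi) o ho) x
      have e : ((x * o x : quad ι i j) : G) = ι (v * v', w * w') := by
        rw [Subgroup.coe_mul, hp, hq, ← map_mul]; rfl
      rcases four_rot (mul_mem hv hv') ((B.mem_ax e).1 hax) with h | h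
      · rw [show v' = v⁻¹ from eq_inv_of_mul_eq_one_right h, inv_eq_of_mul_eq_one_right (four_mul_self hv)]
      · rw [show v' = v * zz a by rw [← h, ← mul_assoc, four_mul_self hv, one_mul], map_mul, hz, mul_one]
    · have hk : ∀ u ∈ four i, parHom ε u = 1 := by
        intro u hu
        have hs : parHom ε (sr i) = 1 := by
          rw [parHom_sr]
          exact (by decide : ∀ c e : ZMod 2, c ≠ e → Multiplicative.ofAdd (c + e + 1) = 1) _ _ hi
        rcases mem_four.1 hu with rfl | rfl | rfl | rfl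
        · exact map_one _
        · exact hz
        · exact hs
        · rw [show sr (i + mid a) = sr i * zz a by rw [zz, sr_mul_r], map_mul, hs, hz, mul_one]
      rw [hk v hv, hk v' hv']

end Cfsg.Agent.DihedralPair
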