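import Cfsg.Agent.Lib.DihedralPair.List

/-
Automorphisms of odd order (owner: helper76).

* `gen_of_sylow` : a group is generated by a Sylow `2`-subgroup and the elements of odd order
* `odd_trivial` : a product of two nonabelian dihedral groups has no odd automorphism
* `class_fix` : odd automorphisms of a four group times a dihedral group fix the classes
-/

set_option autoImplicit false

namespace Cfsg.Agent.DihedralPair

open DihedralGroup

/-- A subgroup containing a Sylow `2`-subgroup and all elements of odd order is everything. -/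
theorem eq_top_of_sylow_odd {H : Type*} [Group H] [Finite H] (K : Subgroup H) (R : Sylow 2 H)
    (hR : (R : Subgroup H) ≤ K) (hodd : ∀ h : H, Odd (orderOf h) → h ∈ K) : K = ⊤ := by
  rw [← Subgroup.index_eq_one]
  by_contra hne
  obtain ⟨p, hp, hpK⟩ := Nat.exists_prime_and_dvd hne
  have := Fact.mk hp
  rcases eq_or_ne p 2 with rfl | h2
  · exact R.not_dvd_index (hpK.trans (Subgroup.index_dvd_of_le hR))
  · obtain ⟨P⟩ := (inferInstance : Nonempty (Sylow p H))
    have hP : (P : Subgroup H) ≤ K := by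
      intro x hx
      obtain ⟨k, hk⟩ := IsPGroup.iff_orderOf.1 P.isPGroup' ⟨x, hx⟩
      rw [Subgroup.orderOf_mk] at hk
      exact hodd x (hk ▸ (hp.odd_of_ne_two h2).pow)
    exact P.not_dvd_index (hpK.trans (Subgroup.index_dvd_of_le hP))

/-- An automorphism of odd order that moves `e` by a fixed element of two-power order fixes `e`. -/
theorem fix_of_odd {E : Type*} [Group E] {α : MulAut E} (hα : Odd (orderOf α)) {e k : E} {N : ℕ}
    (hN : k ^ 2 ^ N = 1) (hk : α k = k) (h : α e = e * k) : α e = e := by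
  have h2 : ∀ n : ℕ, (α ^ n) e = e * k ^ n := by
    intro n
    induction n with
    | zero => simp
    | succ n ih => rw [pow_succ', MulAut.mul_apply, ih, map_mul, map_pow, hk, h, mul_assoc, ← pow_succ']
  have h1 := h2 (orderOf α)
  rw [pow_orderOf_eq_one] at h1
  have h3 : k ^ orderOf α = 1 := mul_eq_left.1 h1.symm
  have hd1 := orderOf_dvd_of_pow_eq_one h3
  have hd2 := orderOf_dvd_of_pow_eq_one hN
  have h4 : orderOf k = 1 := Nat.eq_one_of_dvd_coprimes
    (Nat.Coprime.pow_right N hα.coprime_two_right) hd1 hd2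
  rw [h, orderOf_eq_one_iff.1 h4, mul_one]

theorem iterate_odd {π : ZMod 2 → ZMod 2} {m : ℕ} (hm : Odd m) (h : π^[m] = id) (x : ZMod 2) :
    π x = x := by
  have h3 : ∀ (π : ZMod 2 → ZMod 2) (x : ZMod 2), π (π (π x)) = π x := by decide
  obtain ⟨k, rfl⟩ := hm
  suffices π^[2 * k + 1] x = π x by rw [← this, h, id]
  clear h
  induction k with
  | zero => rfl
  | succ k ih =>
    rw [show 2 * (k + 1) + 1 = 2 + (2 * k + 1) by ring, Function.iterate_add_apply, ih]
    exact h3 π x

theorem pow_two_pow {n : ℕ} (d : DD n) : d ^ 2 ^ (n + 2) = 1 := by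
  have := pow_card_eq_one' (G := DD n) (x := d)
  rwa [DihedralGroup.nat_card, ← pow_succ'] at this

theorem pow_two_pow_prod {a b : ℕ} (p : DD a × DD b) : p ^ 2 ^ ((a + 2) + (b + 2)) = 1 := by
  rw [show (2 : ℕ) ^ ((a + 2) + (b + 2)) = 2 ^ (a + 2) * 2 ^ (b + 2) from pow_add 2 _ _]
  refine Prod.ext ?_ ?_
  · rw [Prod.pow_fst, pow_mul, pow_two_pow, one_pow]; rfl
  · rw [Prod.pow_snd, Nat.mul_comm, pow_mul, pow_two_pow, one_pow]; rfl

section Prod

variable {a b : ℕ}

/-- Both entries outside the rotations. -/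
def Both (e : DD a × DD b) : Prop := e.1 ∉ rot a ∧ e.2 ∉ rot b

/-- The pairs of rotations. -/
def InC (e : DD a × DD b) : Prop := e.1 ∈ rot a ∧ e.2 ∈ rot b

theorem mul_mem_rot_iff {n : ℕ} {x y : DD n} : x * y ∈ rot n ↔ (x ∈ rot n ↔ y ∈ rot n) := by
  cases x with
  | r i => cases y with
    | r j => simp [mem_rot]
    | sr j => simp [mem_rot]
  | sr i => cases y with
    | r j => simp [mem_rot]
    | sr j => simp [mem_rot]

theorem inC_map (ha : 1 ≤ a) (hb : 1 ≤ b) (α : MulAut (DD a × DD b)) {e : DD a × DD b}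
    (he : InC e) : InC (α e) := by
  have := (invariant_rot (E := ⊤) ha hb trivial trivial)
    (Subgroup.topEquiv.trans (α.trans Subgroup.topEquiv.symm)) ⟨e, trivial⟩ ⟨trivial, he⟩
  exact this.2

theorem inC_iff (ha : 1 ≤ a) (hb : 1 ≤ b) (α : MulAut (DD a × DD b)) {e : DD a × DD b} :
    InC (α e) ↔ InC e :=
  ⟨fun h => by simpa using inC_map ha hb α⁻¹ h, inC_map ha hb α⟩

theorem both_iff (ha : 1 ≤ a) (hb : 1 ≤ b) {e : DD a × DD b} :
    Both e ↔ ¬ InC e ∧ ∀ c, InC c → e * c * (e * c) = 1 := by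
  obtain ⟨e1, e2⟩ := e
  constructor
  · rintro ⟨h1, h2⟩
    refine ⟨fun h => h1 h.1, fun ⟨c1, c2⟩ ⟨hc1, hc2⟩ => ?_⟩
    have k1 : e1 * c1 ∉ rot a := fun h => h1 ((mul_mem_rot_iff.1 h).2 hc1)
    have k2 : e2 * c2 ∉ rot b := fun h => h2 ((mul_mem_rot_iff.1 h).2 hc2)
    exact Prod.ext (by by_contra hh; exact k1 (sq_rot hh)) (by by_contra hh; exact k2 (sq_rot hh))
  · rintro ⟨h, hsq⟩
    refine ⟨fun h1 => ?_, fun h2 => ?_⟩
    · have h2 : e2 ∉ rot b := fun h2 => h ⟨h1, h2⟩
      have := congrArg Prod.fst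
        (hsq (e1⁻¹ * r (quarter a), 1) ⟨mul_mem (inv_mem h1) ⟨_, rfl⟩, one_mem _⟩)
      simp [quarter_sq ha, zz_ne_one] at this
    · have h1 : e1 ∉ rot a := fun h1 => h ⟨h1, h2⟩
      have := congrArg Prod.snd
        (hsq (1, e2⁻¹ * r (quarter b)) ⟨one_mem _, mul_mem (inv_mem h2) ⟨_, rfl⟩⟩)
      simp [quarter_sq hb, zz_ne_one] at this

theorem both_map (ha : 1 ≤ a) (hb : 1 ≤ b) (α : MulAut (DD a × DD b)) {e : DD a × DD b} :
    Both (α e) ↔ Both e := by
  rw [both_iff ha hb, both_iff ha hb, inC_iff ha hb]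
  refine and_congr_right fun _ => ⟨fun h c hc => α.injective ?_, fun h c hc => ?_⟩
  · rw [map_mul, map_mul, map_one]; exact h _ ((inC_iff ha hb α).2 hc)
  · have := congrArg α (h (α⁻¹ c) ((inC_iff ha hb α⁻¹).2 hc))
    simpa using this

/-- The class of an element modulo the pairs of rotations. -/
def cls (e : DD a × DD b) : Prop × Prop := (e.1 ∈ rot a, e.2 ∈ rot b)

theorem rot_key {n : ℕ} {x s y t : DD n} (h : (s * x)⁻¹ * (t * y) ∈ rot n) (h' : s⁻¹ * t ∈ rot n) :
    x⁻¹ * y ∈ rot n := by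
  simp only [mul_mem_rot_iff, inv_mem_iff] at h h' ⊢
  tauto

theorem coset_fix (ha : 1 ≤ a) (hb : 1 ≤ b) {α : MulAut (DD a × DD b)} (hα : Odd (orderOf α))
    (e : DD a × DD b) : InC (e⁻¹ * α e) := by
  have hrule : ∀ (β : MulAut (DD a × DD b)), (β ((sr 0, 1) : DD a × DD b)).1 ∈ rot a →
      ∀ d : DD a × DD b, d.1 ∉ rot a → d.2 ∈ rot b → (β d).1 ∈ rot a ∧ (β d).2 ∉ rot b := by
    intro β h d h1 h2
    have hC : InC ((sr 0, 1) * d) :=
      ⟨mul_mem_rot_iff.2 (iff_of_false (sr_not_mem_rot _) h1), by simpa using h2⟩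
    obtain ⟨c1, c2⟩ := (inC_iff ha hb β).2 hC
    rw [map_mul, Prod.fst_mul, mul_mem_rot_iff] at c1
    rw [map_mul, Prod.snd_mul, mul_mem_rot_iff] at c2
    have hnot : ¬ InC (β (sr 0, 1)) := fun hh => sr_not_mem_rot _ ((inC_iff ha hb β).1 hh).1
    exact ⟨c1.1 h, fun hh => hnot ⟨h, c2.2 hh⟩⟩
  -- the element `(sr 0, 1)` keeps its class
  have h10 : (α ((sr 0, 1) : DD a × DD b)).1 ∉ rot a := by
    intro h
    have hsnd : (α ((sr 0, 1) : DD a × DD b)).2 ∉ rot b := fun hh =>
      sr_not_mem_rot (0 : ZMod (2 ^ (a + 1))) ((inC_iff ha hb α).1 ⟨h, hh⟩).1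
    have hswap : ∀ d : DD a × DD b, d.1 ∈ rot a → d.2 ∉ rot b →
        (α d).1 ∉ rot a ∧ (α d).2 ∈ rot b := by
      intro d h1 h2
      have hB : Both (α ((sr 0, 1) * d)) := (both_map ha hb α).2
        ⟨fun hh => sr_not_mem_rot _ ((mul_mem_rot_iff.1 hh).2 h1), by simpa using h2⟩
      obtain ⟨c1, c2⟩ := hB
      rw [map_mul, Prod.fst_mul, mul_mem_rot_iff] at c1
      rw [map_mul, Prod.snd_mul, mul_mem_rot_iff] at c2
      tauto
    have key : ∀ n : ℕ, Odd n → ((α ^ n) ((sr 0, 1) : DD a × DD b)).1 ∈ rot a ∧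
        ((α ^ n) ((sr 0, 1) : DD a × DD b)).2 ∉ rot b := by
      rintro _ ⟨k, rfl⟩
      induction k with
      | zero => simpa using ⟨h, hsnd⟩
      | succ k ih =>
        rw [show 2 * (k + 1) + 1 = 1 + (1 + (2 * k + 1)) by ring, pow_add α, pow_one α, pow_add α,
          pow_one α]
        obtain ⟨i1, i2⟩ := hswap _ ih.1 ih.2
        exact hrule α h _ i1 i2
    have := (key _ hα).1
    rw [pow_orderOf_eq_one] at this
    exact sr_not_mem_rot _ this
  have e10 : InC (((sr 0, 1) : DD a × DD b)⁻¹ * α (sr 0, 1)) := by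
    have hnB : ¬ Both (α ((sr 0, 1) : DD a × DD b)) := fun hh =>
      ((both_map ha hb α).1 hh).2 (one_mem _)
    exact ⟨mul_mem_rot_iff.2 (iff_of_false (fun hh => sr_not_mem_rot _ (inv_mem_iff.1 hh)) h10),
      by simpa using not_not.1 fun hh => hnB ⟨h10, hh⟩⟩
  have hs : ∀ d : DD a × DD b, (Both d ∨ InC d) → InC (d⁻¹ * α d) := by
    rintro d (hd | hd)
    · obtain ⟨c1, c2⟩ := (both_map ha hb α).2 hd
      exact ⟨mul_mem_rot_iff.2 (iff_of_false (fun hh => hd.1 (inv_mem_iff.1 hh)) c1),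
        mul_mem_rot_iff.2 (iff_of_false (fun hh => hd.2 (inv_mem_iff.1 hh)) c2)⟩
    · obtain ⟨c1, c2⟩ := inC_map ha hb α hd
      exact ⟨mul_mem (inv_mem hd.1) c1, mul_mem (inv_mem hd.2) c2⟩
  by_cases he : Both e ∨ InC e
  · exact hs e he
  · have hg : Both ((sr 0, 1) * e) ∨ InC ((sr 0, 1) * e) := by
      simp only [Both, InC, Prod.fst_mul, Prod.snd_mul, mul_mem_rot_iff, one_mul] at he ⊢
      simp only [sr_not_mem_rot, false_iff]
      tauto
    obtain ⟨c1, c2⟩ := hs _ hg
    rw [map_mul] at c1 c2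
    exact ⟨rot_key c1 e10.1, rot_key c2 e10.2⟩

theorem snd_rot (ha : 1 ≤ a) (hb : 1 ≤ b) {α : MulAut (DD a × DD b)} (hα : Odd (orderOf α))
    (j : ZMod (2 ^ (b + 1))) :
    ((α (1, r j)).1 = 1 ∨ (α (1, r j)).1 = zz a) ∧ (α (1, r j)).2 ∈ rot b := by
  have hC := inC_map ha hb α (e := (1, r j)) ⟨one_mem _, ⟨j, rfl⟩⟩
  refine ⟨?_, hC.2⟩
  have hs := coset_fix ha hb hα (sr 0, 1)
  have hs1 : (α ((sr 0, 1) : DD a × DD b)).1 ∉ rot a := fun h => sr_not_mem_rot _
    (inv_mem_iff.1 ((mul_mem_rot_iff.1 hs.1).2 h))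
  have hcomm := congrArg (fun p => (α p).1)
    (show ((sr 0, 1) : DD a × DD b) * (1, r j) = (1, r j) * (sr 0, 1) by simp)
  simp only [map_mul, Prod.fst_mul] at hcomm
  obtain ⟨k, hk⟩ := hC.1
  rw [hk] at hcomm ⊢
  generalize (α ((sr 0, 1) : DD a × DD b)).1 = s at hs1 hcomm
  cases s with
  | r i => exact absurd ⟨i, rfl⟩ hs1
  | sr i =>
    rcases mem_four.1 (Subgroup.mem_centralizer_singleton_iff.2 hcomm.symm : r k ∈ four i)
      with e | e | e | e
    · exact Or.inl e
    · exact Or.inr e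
    · simp at e
    · simp at e

theorem fst_rot (ha : 1 ≤ a) (hb : 1 ≤ b) {α : MulAut (DD a × DD b)} (hα : Odd (orderOf α))
    (j : ZMod (2 ^ (a + 1))) :
    ((α (r j, 1)).2 = 1 ∨ (α (r j, 1)).2 = zz b) ∧ (α (r j, 1)).1 ∈ rot a := by
  let σ : DD b × DD a ≃* DD a × DD b := MulEquiv.prodComm
  have hβ : Odd (orderOf (MulAut.congr σ.symm α)) := by rwa [MulEquiv.orderOf_eq]
  exact snd_rot hb ha hβ j

theorem zz_fix (ha : 1 ≤ a) (hb : 1 ≤ b) {α : MulAut (DD a × DD b)} (hα : Odd (orderOf α)) :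
    α (1, zz b) = (1, zz b) := by
  obtain ⟨h, k, hk⟩ := snd_rot ha hb hα (quarter b)
  have he : α (1, zz b) = α (1, r (quarter b)) * α (1, r (quarter b)) := by
    rw [← map_mul]; simp [quarter_sq hb]
  have h1 : (α (1, zz b)).1 = 1 := by
    rw [he, Prod.fst_mul]; rcases h with e | e <;> simp [e, zz_mul_self]
  have hne : (α (1, zz b)).2 ≠ 1 := fun e => zz_ne_one b (congrArg Prod.snd
    (α.injective ((Prod.ext h1 e : α (1, zz b) = 1).trans (map_one α).symm)))
  have h4 : (α (1, zz b)).2 * (α (1, zz b)).2 = 1 := by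
    rw [← Prod.snd_mul, ← map_mul]; simp [zz_mul_self, Prod.mk_one_one]
  refine Prod.ext h1 ?_
  rw [he, Prod.snd_mul] at hne h4 ⊢
  exact sq_of_order_four hne h4

theorem rot_fix (ha : 1 ≤ a) (hb : 1 ≤ b) {α : MulAut (DD a × DD b)} (hα : Odd (orderOf α))
    (j : ZMod (2 ^ (b + 1))) : α (1, r j) = (1, r j) := by
  obtain ⟨k, hk⟩ := (snd_rot ha hb hα 1).2
  have hz : α (zz a, 1) = (zz a, 1) := by
    let σ : DD b × DD a ≃* DD a × DD b := MulEquiv.prodComm
    have hβ : Odd (orderOf (MulAut.congr σ.symm α)) := by rwa [MulEquiv.orderOf_eq]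
    exact σ.symm.injective (zz_fix hb ha hβ)
  have hpow : ∀ i : ZMod (2 ^ (b + 1)), (α (1, r i)).2 = r (k * i) := by
    intro i
    obtain ⟨n, rfl⟩ : ∃ n : ℕ, (n : ZMod (2 ^ (b + 1))) = i := ⟨i.val, ZMod.natCast_zmod_val i⟩
    have : ((1, r (n : ZMod (2 ^ (b + 1)))) : DD a × DD b) = ((1, r 1) : DD a × DD b) ^ n := by
      simp [Prod.pow_mk, r_one_pow]
    rw [this, map_pow, Prod.pow_snd, hk, r_pow, mul_comm]
  have hit : ∀ n : ℕ, ((α ^ n) (1, r 1)).2 = r (k ^ n) ∧
      (((α ^ n) (1, r 1)).1 = 1 ∨ ((α ^ n) (1, r 1)).1 = zz a) := by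
    intro n
    induction n with
    | zero => simp
    | succ n ih =>
      rw [pow_succ' α n, MulAut.mul_apply]
      obtain ⟨i1, i2⟩ := ih
      generalize (α ^ n) (1, r 1) = v at i1 i2
      obtain ⟨v1, v2⟩ := v
      simp only at i1 i2
      subst i1
      have : α (v1, r (k ^ n)) = α (v1, 1) * α (1, r (k ^ n)) := by rw [← map_mul]; simp
      rw [this, Prod.snd_mul, Prod.fst_mul, hpow, pow_succ' k n]
      rcases (snd_rot ha hb hα (k ^ n)).1 with e | e <;>
        rcases i2 with rfl | rfl <;> simp [hz, e, zz_mul_self, Prod.mk_one_one]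
  have hk1 : k = 1 := by
    have h1 := (hit (orderOf α)).1
    rw [pow_orderOf_eq_one] at h1
    have h2 : k ^ orderOf α = 1 := (r.inj h1).symm
    have hu : IsUnit k := IsUnit.of_pow_eq_one h2 hα.pos.ne'
    obtain ⟨u, rfl⟩ := hu
    have h3 : u ^ 2 ^ b = 1 := by
      have := pow_card_eq_one' (G := (ZMod (2 ^ (b + 1)))ˣ) (x := u)
      rwa [Nat.card_eq_fintype_card, ZMod.card_units_eq_totient,
        Nat.totient_prime_pow Nat.prime_two (Nat.succ_pos b), Nat.succ_sub_one,
        show (2 : ℕ) - 1 = 1 from rfl, mul_one] at this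
    have h4 : u ^ orderOf α = 1 := by ext; simpa using h2
    have := Nat.eq_one_of_dvd_coprimes (Nat.Coprime.pow_right b hα.coprime_two_right)
      (orderOf_dvd_of_pow_eq_one h4) (orderOf_dvd_of_pow_eq_one h3)
    rw [orderOf_eq_one_iff.1 this, Units.val_one]
  have h := hpow j
  rw [hk1, one_mul] at h
  rcases (snd_rot ha hb hα j).1 with e | e
  · exact Prod.ext e h
  · refine fix_of_odd hα (pow_two_pow_prod _) hz (k := (zz a, 1)) ?_
    refine Prod.ext ?_ ?_
    · simp [e]
    · simp [h]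

/-- A product of two nonabelian dihedral groups has no odd automorphism. -/
theorem odd_trivial (ha : 1 ≤ a) (hb : 1 ≤ b) {α : MulAut (DD a × DD b)} (hα : Odd (orderOf α)) :
    α = 1 := by
  have hC : ∀ c, InC c → α c = c := by
    rintro ⟨c1, c2⟩ ⟨⟨i, hi⟩, ⟨j, hj⟩⟩
    obtain rfl : c1 = r i := hi
    obtain rfl : c2 = r j := hj
    let σ : DD b × DD a ≃* DD a × DD b := MulEquiv.prodComm
    have hβ : Odd (orderOf (MulAut.congr σ.symm α)) := by rwa [MulEquiv.orderOf_eq]
    have h1 : α (r i, 1) = (r i, 1) := σ.symm.injective (rot_fix hb ha hβ i)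
    have : ((r i, r j) : DD a × DD b) = (r i, 1) * (1, r j) := by simp
    rw [this, map_mul, h1, rot_fix ha hb hα]
  refine MulEquiv.ext fun e => ?_
  exact fix_of_odd hα (pow_two_pow_prod _) (hC _ (coset_fix ha hb hα e))
    (k := e⁻¹ * α e) (mul_inv_cancel_left e (α e)).symm

end Prod

section Side

variable {a b : ℕ} (i : ZMod (2 ^ (a + 1)))

/-- A four group times the whole second factor. -/
abbrev sideE : Subgroup (DD a × DD b) := (four i).prod ⊤

variable {i}

theorem side_rot (hb : 1 ≤ b) (α : MulAut (sideE i (b := b))) {e : sideE i (b := b)} :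
    ((α e : sideE i) : DD a × DD b).2 ∈ rot b ↔ (e : DD a × DD b).2 ∈ rot b := by
  have key : ∀ (β : MulAut (sideE i (b := b))) (e : sideE i (b := b)),
      (e : DD a × DD b).2 ∈ rot b → ((β e : sideE i) : DD a × DD b).2 ∈ rot b := by
    intro β e he
    have hq : ((1, r (quarter b)) : DD a × DD b) ∈ sideE i := ⟨one_mem _, trivial⟩
    set q : sideE i (b := b) := ⟨_, hq⟩ with hqdef
    have hc : β.symm q * e = e * β.symm q := by
      set w := β.symm q with hw
      have hw4 : (w : DD a × DD b).2 ∈ rot b := by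
        refine sq_rot fun hh => ?_
        have h1 : w * w = 1 := Subtype.ext (Prod.ext (four_mul_self w.2.1) hh)
        have h2 : q * q = 1 := by
          have := congrArg β h1
          rwa [map_mul, map_one, hw, MulEquiv.apply_symm_apply] at this
        have := congrArg (fun v : sideE i (b := b) => (v : DD a × DD b).2) h2
        simp [hqdef, quarter_sq hb, zz_ne_one] at this
      exact Subtype.ext (Prod.ext (four_comm w.2.1 e.2.1) (rot_comm hw4 he))
    have h2 := congrArg β hc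
    rw [map_mul, map_mul, MulEquiv.apply_symm_apply] at h2
    exact mem_rot_of_comm_quarter hb (congrArg (fun v : sideE i (b := b) => (v : DD a × DD b).2) h2)
  exact ⟨fun h => by simpa using key α⁻¹ _ h, key α e⟩

/-- The reflection `(1, sr l)`. -/
def refl2 (i : ZMod (2 ^ (a + 1))) (l : ZMod (2 ^ (b + 1))) : sideE i (b := b) :=
  ⟨(1, sr l), one_mem _, trivial⟩

theorem exists_image (hb : 1 ≤ b) (α : MulAut (sideE i (b := b))) (l : ZMod (2 ^ (b + 1))) :
    ∃ l', ((α (refl2 i l) : sideE i) : DD a × DD b).2 = sr l' := by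
  cases h : ((α (refl2 i l) : sideE i) : DD a × DD b).2 with
  | sr l' => exact ⟨l', rfl⟩
  | r j => exact absurd ((side_rot hb α).1 ⟨j, h⟩) (sr_not_mem_rot l)

theorem par_image (hb : 1 ≤ b) (α : MulAut (sideE i (b := b))) {l m l' m' : ZMod (2 ^ (b + 1))}
    (hlm : par l = par m) (hl : ((α (refl2 i l) : sideE i) : DD a × DD b).2 = sr l')
    (hm : ((α (refl2 i m) : sideE i) : DD a × DD b).2 = sr m') : par l' = par m' := by
  obtain ⟨d, hd⟩ := exists_conj_of_par hlm
  let de : sideE i (b := b) := ⟨(1, d), one_mem _, trivial⟩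
  have : refl2 i m = de * refl2 i l * de⁻¹ := Subtype.ext (Prod.ext (by simp [refl2, de]) hd.symm)
  rw [this, map_mul, map_mul, map_inv] at hm
  simp only [Subgroup.coe_mul, Subgroup.coe_inv, Prod.snd_mul, Prod.snd_inv, hl] at hm
  obtain ⟨n, hn, e⟩ := conj_par ((α de : sideE i) : DD a × DD b).2 l'
  rw [e] at hm
  rw [← hn, sr.inj hm]

/-- Odd automorphisms fix both classes of four groups. -/
theorem class_fix (hb : 1 ≤ b) {α : MulAut (sideE i (b := b))} (hα : Odd (orderOf α))
    (l : ZMod (2 ^ (b + 1))) : ∃ l', par l' = par l ∧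
      ∀ e : sideE i (b := b), (e : DD a × DD b).2 ∈ four l →
        ((α e : sideE i) : DD a × DD b).2 ∈ four l' := by
  obtain ⟨l', hl'⟩ := exists_image hb α l
  refine ⟨l', ?_, fun e he => ?_⟩
  · have hsurj : ∀ ε : ZMod 2, ∃ m : ZMod (2 ^ (b + 1)), par m = ε := fun ε =>
      ⟨(ε.val : ZMod (2 ^ (b + 1))), by rw [map_natCast, ZMod.natCast_zmod_val]⟩
    choose rep hrep using hsurj
    choose img himg using fun (β : MulAut (sideE i (b := b))) (m : ZMod (2 ^ (b + 1))) =>
      exists_image hb β m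
    set π : ZMod 2 → ZMod 2 := fun ε => par (img α (rep ε))
    have hπ : ∀ n : ℕ, ∀ m, par (img (α ^ n) m) = π^[n] (par m) := by
      intro n
      induction n with
      | zero =>
        intro m
        have h := himg (α ^ 0) m
        rw [pow_zero] at h ⊢
        rw [← (sr.inj h : m = _)]; rfl
      | succ n ih =>
        intro m
        rw [Function.iterate_succ_apply', ← ih m]
        set v := (α ^ n) (refl2 i m)
        have hv : (v : DD a × DD b).2 = sr (img (α ^ n) m) := himg (α ^ n) m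
        let w : sideE i (b := b) := ⟨((v : DD a × DD b).1, 1), v.2.1, trivial⟩
        have hvw : (α ^ n) (refl2 i m) = w * refl2 i (img (α ^ n) m) :=
          Subtype.ext (Prod.ext (mul_one _).symm (hv.trans (one_mul _).symm))
        have hm := himg (α ^ (n + 1)) m
        have hw : ((α w : sideE i) : DD a × DD b).2 ∈ rot b := (side_rot hb α).2 (one_mem _)
        have hwz : ((α w : sideE i) : DD a × DD b).2 = 1 ∨ ((α w : sideE i) : DD a × DD b).2 = zz b := by
          have hc : w * refl2 i m = refl2 i m * w :=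
            Subtype.ext (Prod.ext (by simp [w, refl2]) (by simp [w, refl2]))
          have h2 := congrArg (fun q : sideE i (b := b) => ((α q : sideE i) : DD a × DD b).2) hc
          simp only [map_mul, Subgroup.coe_mul, Prod.snd_mul, himg α m] at h2
          obtain ⟨k, hk⟩ := hw
          rw [hk] at h2 ⊢
          rcases mem_four.1 (Subgroup.mem_centralizer_singleton_iff.2 h2 :
            r k ∈ four (img α m)) with e | e | e | e
          · exact Or.inl e
          · exact Or.inr e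
          · simp at e
          · simp at e
        rw [pow_succ' α n] at hm ⊢
        rw [MulAut.mul_apply, hvw, map_mul, Subgroup.coe_mul, Prod.snd_mul,
          himg α] at hm
        have h1 : par (img α (img (α ^ n) m)) = π (par (img (α ^ n) m)) :=
          par_image hb α (hrep _).symm (himg α _) (himg α _)
        rcases hwz with e | e
        · rw [e, one_mul] at hm; rw [← sr.inj hm, h1]
        · rw [e, zz, r_mul_sr] at hm
          rw [← sr.inj hm, map_sub, par_mid hb, sub_zero, h1]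
    have hid : π^[orderOf α] = id := by
      funext ε
      have h := hπ (orderOf α) (rep ε)
      have h2 := himg (α ^ orderOf α) (rep ε)
      rw [pow_orderOf_eq_one] at h h2
      rw [← (sr.inj h2 : rep ε = _), hrep] at h
      exact h.symm
    rw [← iterate_odd hα hid (par l)]
    exact par_image hb α (hrep _).symm hl' (himg α _)
  · have hc : refl2 i l * e = e * refl2 i l :=
      Subtype.ext (Prod.ext (by simp [refl2]) (Subgroup.mem_centralizer_singleton_iff.1 he).symm)
    have h2 := congrArg (fun q : sideE i (b := b) => ((α q : sideE i) : DD a × DD b).2) hc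
    simp only [map_mul, Subgroup.coe_mul, Prod.snd_mul, hl'] at h2
    exact Subgroup.mem_centralizer_singleton_iff.2 h2.symm

theorem side_fix_zz (hb : 1 ≤ b) (α : MulAut (sideE i (b := b))) :
    ((α ⟨(1, zz b), one_mem _, trivial⟩ : sideE i) : DD a × DD b) = (1, zz b) := by
  set q : sideE i (b := b) := ⟨(1, r (quarter b)), one_mem _, trivial⟩
  have hq : q * q = (⟨(1, zz b), one_mem _, trivial⟩ : sideE i (b := b)) :=
    Subtype.ext (Prod.ext (by simp [q]) (by simp [q, quarter_sq hb]))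
  rw [← hq, map_mul, Subgroup.coe_mul]
  refine Prod.ext (four_mul_self (α q).2.1) (sq_of_order_four (fun hh => ?_) ?_)
  · have : α q * α q = 1 := Subtype.ext (Prod.ext (four_mul_self (α q).2.1) hh)
    rw [← map_mul, ← map_one α] at this
    have := congrArg (fun v : sideE i (b := b) => (v : DD a × DD b).2) (α.injective this)
    simp [q, quarter_sq hb, zz_ne_one] at this
  · have : q * q * (q * q) = 1 := by
      rw [hq]; exact Subtype.ext (Prod.ext (by simp) (by simp [zz_mul_self]))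
    have := congrArg (fun v : sideE i (b := b) => ((α v : sideE i) : DD a × DD b).2) this
    simpa using this

theorem side_center (hb : 1 ≤ b) (α : MulAut (sideE i (b := b))) {e : sideE i (b := b)}
    (he : (e : DD a × DD b).2 = 1 ∨ (e : DD a × DD b).2 = zz b) :
    ((α e : sideE i) : DD a × DD b).2 = 1 ∨ ((α e : sideE i) : DD a × DD b).2 = zz b := by
  have hr : ((α e : sideE i) : DD a × DD b).2 ∈ rot b := (side_rot hb α).2 (by
    rcases he with e' | e' <;> rw [e']
    exacts [one_mem _, ⟨mid b, rfl⟩])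
  obtain ⟨l, hl⟩ := exists_image hb α⁻¹ 0
  have hc : α⁻¹ (refl2 i 0) * e = e * α⁻¹ (refl2 i 0) :=
    Subtype.ext (Prod.ext (four_comm (α⁻¹ (refl2 i 0)).2.1 e.2.1) (by
      rcases he with e' | e' <;> simp [e', zz_comm]))
  have h2 := congrArg α hc
  rw [map_mul, map_mul, MulAut.apply_inv_self] at h2
  have h3 := congrArg (fun v : sideE i (b := b) => (v : DD a × DD b).2) h2
  simp only [Subgroup.coe_mul, Prod.snd_mul, refl2] at h3
  obtain ⟨k, hk⟩ := hr
  rw [hk] at h3 ⊢
  rcases mem_four.1 (Subgroup.mem_centralizer_singleton_iff.2 h3.symm :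
    r k ∈ four (0 : ZMod (2 ^ (b + 1)))) with e | e | e | e
  · exact Or.inl e
  · exact Or.inr e
  · simp at e
  · simp at e

end Side

end Cfsg.Agent.DihedralPair
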