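import Mathlib

/-
Odd groups normalised by a transvection of an elementary abelian group of order 16 (owner: helper76).

* `Transv` : a transvection with centre and axis
* `Base.orbit` : at most three conjugates under the odd group
* `Base.exists_inverted` : a moved transvection gives an inverted element of order three
* `Base.Moved` : the structure that such an element gives
-/

set_option autoImplicit false

namespace Cfsg.Agent.DihedralPair.Lin

variable {Q : Type*} [Group Q]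

/-- The transvection with centre `z` and axis `A`. -/
structure Transv (x : MulAut Q) (z : Q) (A : Subgroup Q) : Prop where
  ne : z ≠ 1
  mem : z ∈ A
  fix : ∀ a ∈ A, x a = a
  move : ∀ q, q ∉ A → x q = q * z
  index : A.index = 2

theorem Transv.mem_iff {x : MulAut Q} {z : Q} {A : Subgroup Q} (T : Transv x z A) {q : Q} :
    q ∈ A ↔ x q = q := by
  refine ⟨T.fix q, fun h => ?_⟩
  by_contra hq
  exact T.ne (by simpa [h] using T.move q hq)

theorem Transv.exists_not_mem {x : MulAut Q} {z : Q} {A : Subgroup Q} (T : Transv x z A) :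
    ∃ q, q ∉ A := by
  by_contra h
  have h2 := T.index
  rw [(Subgroup.eq_top_iff' A).2 (fun q => by_contra fun hq => h ⟨q, hq⟩), Subgroup.index_top] at h2
  exact absurd h2 (by norm_num)

theorem Transv.step {x : MulAut Q} {z : Q} {A : Subgroup Q} (T : Transv x z A) (q : Q) :
    x q = q ∨ x q = q * z :=
  (em (q ∈ A)).imp (T.fix q) (T.move q)

theorem Transv.unique {x : MulAut Q} {z z' : Q} {A A' : Subgroup Q} (T : Transv x z A)
    (T' : Transv x z' A') : z = z' ∧ A = A' := by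
  have hA : A = A' := by ext q; rw [T.mem_iff, T'.mem_iff]
  obtain ⟨q, hq⟩ := T.exists_not_mem
  exact ⟨mul_left_cancel ((T.move q hq).symm.trans (T'.move q (hA ▸ hq))), hA⟩

theorem Transv.ext {x x' : MulAut Q} {z : Q} {A : Subgroup Q} (T : Transv x z A)
    (T' : Transv x' z A) : x = x' := by
  refine MulEquiv.ext fun q => ?_
  by_cases h : q ∈ A
  · rw [T.fix q h, T'.fix q h]
  · rw [T.move q h, T'.move q h]

theorem Transv.conj {x : MulAut Q} {z : Q} {A : Subgroup Q} (T : Transv x z A) (g : MulAut Q) :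
    Transv (g * x * g⁻¹) (g z) (A.map g.toMonoidHom) where
  ne h := T.ne (g.injective (h.trans (map_one g).symm))
  mem := ⟨z, T.mem, rfl⟩
  fix := by
    rintro _ ⟨a, ha, rfl⟩
    show g (x (g⁻¹ (g a))) = g a
    rw [MulAut.inv_apply_self, T.fix a ha]
  move q hq := by
    have h : g⁻¹ q ∉ A := fun h => hq ⟨_, h, MulAut.apply_inv_self Q g q⟩
    show g (x (g⁻¹ q)) = q * g z
    rw [T.move _ h, map_mul, MulAut.apply_inv_self]
  index := (Subgroup.index_map_equiv A g).trans T.index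

theorem mem_map_aut {A : Subgroup Q} {g : MulAut Q} {q : Q} :
    q ∈ A.map g.toMonoidHom ↔ g⁻¹ q ∈ A :=
  ⟨fun ⟨a, ha, e⟩ => by rw [← e]; show g⁻¹ (g a) ∈ A; rwa [MulAut.inv_apply_self],
    fun h => ⟨_, h, MulAut.apply_inv_self Q g q⟩⟩

section

variable (hq : ∀ q : Q, q * q = 1)
include hq

theorem qcomm (a b : Q) : a * b = b * a :=
  calc a * b = (a * b) * (a * b) * (a * b)⁻¹ := by group
    _ = (a * b)⁻¹ := by rw [hq, one_mul]
    _ = b⁻¹ * a⁻¹ := mul_inv_rev a b
    _ = b * a := by rw [inv_eq_of_mul_eq_one_left (hq b), inv_eq_of_mul_eq_one_left (hq a)]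

theorem qinv (a : Q) : a⁻¹ = a := inv_eq_of_mul_eq_one_left (hq a)

/-- The subgroup generated by two elements. -/
def klein (a b : Q) : Subgroup Q where
  carrier := {q | q = 1 ∨ q = a ∨ q = b ∨ q = a * b}
  one_mem' := Or.inl rfl
  inv_mem' := by intro q h; rwa [qinv hq]
  mul_mem' := by
    intro p q hp hq'
    have e1 : a * (a * b) = b := by rw [← mul_assoc, hq, one_mul]
    have e2 : b * (a * b) = a := by rw [qcomm hq a b, ← mul_assoc, hq, one_mul]
    have e3 : a * b * a = b := by rw [qcomm hq (a * b), e1]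
    have e4 : a * b * b = a := by rw [mul_assoc, hq, mul_one]
    have e5 : b * a = a * b := qcomm hq b a
    rcases hp with rfl | rfl | rfl | rfl <;> rcases hq' with rfl | rfl | rfl | rfl <;>
      simp [hq, e1, e2, e3, e4, e5]

theorem mem_klein {a b q : Q} : q ∈ klein hq a b ↔ q = 1 ∨ q = a ∨ q = b ∨ q = a * b := Iff.rfl

theorem card_klein {a b : Q} (ha : a ≠ 1) (hb : b ≠ 1) (hab : a ≠ b) :
    Nat.card (klein hq a b) = 4 := by
  classical
  have h : (klein hq a b : Set Q) = ↑({1, a, b, a * b} : Finset Q) := by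
    ext q; simp [mem_klein hq]
  show Nat.card ↥(klein hq a b : Set Q) = 4
  rw [h, Nat.card_coe_set_eq, Set.ncard_coe_finset]
  have h1 : a * b ≠ 1 := fun e => hab (by rw [eq_inv_of_mul_eq_one_left e, qinv hq])
  have h2 : a * b ≠ a := fun e => hb (mul_eq_left.1 e)
  have h3 : a * b ≠ b := fun e => ha (mul_eq_right.1 e)
  simp [ha.symm, hb.symm, hab, h1.symm, h2.symm, h3.symm]

end

/-- A transvection normalising an odd group of automorphisms. -/
structure Base (x : MulAut Q) (z : Q) (A : Subgroup Q) (O : Subgroup (MulAut Q)) : Prop where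
  sq : ∀ q : Q, q * q = 1
  card : Nat.card Q = 16
  tv : Transv x z A
  odd : Odd (Nat.card O)
  norm : ∀ o ∈ O, x * o * x⁻¹ ∈ O

variable {x : MulAut Q} {z : Q} {A : Subgroup Q} {O : Subgroup (MulAut Q)}

theorem Base.x_sq (B : Base x z A O) : x * x = 1 := by
  refine MulEquiv.ext fun q => ?_
  show x (x q) = q
  by_cases h : q ∈ A
  · rw [B.tv.fix q h, B.tv.fix q h]
  · rw [B.tv.move q h, map_mul, B.tv.fix z B.tv.mem, B.tv.move q h, mul_assoc, B.sq, mul_one]

theorem Base.x_inv (B : Base x z A O) : x⁻¹ = x := inv_eq_of_mul_eq_one_left B.x_sq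

theorem Base.orderOdd (B : Base x z A O) {o : MulAut Q} (ho : o ∈ O) : Odd (orderOf o) := by
  have h : orderOf o ∣ Nat.card O := by
    rw [show o = ((⟨o, ho⟩ : O) : MulAut Q) from rfl, Subgroup.orderOf_coe]
    exact orderOf_dvd_natCard _
  exact B.odd.of_dvd_nat h

theorem Base.eq_one_of_sq (B : Base x z A O) {o : MulAut Q} (ho : o ∈ O) (h : o * o = 1) :
    o = 1 := by
  obtain ⟨k, hk⟩ := B.orderOdd ho
  have := pow_orderOf_eq_one o
  rw [hk, pow_succ, pow_mul, pow_two, h, one_pow, one_mul] at this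
  exact this

/-- An odd automorphism moving `q` by a point that it fixes fixes `q`. -/
theorem Base.fix_of_step (B : Base x z A O) {o : MulAut Q} (ho : o ∈ O) {q k : Q} (hk : o k = k)
    (h : o q = q * k) : o q = q := by
  have h2 : ∀ n : ℕ, (o ^ n) q = q * k ^ n := by
    intro n
    induction n with
    | zero => simp
    | succ n ih => rw [pow_succ', MulAut.mul_apply, ih, map_mul, map_pow, hk, h, mul_assoc, ← pow_succ']
  obtain ⟨m, hm⟩ := B.orderOdd ho
  have := h2 (orderOf o)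
  rw [pow_orderOf_eq_one, hm, pow_succ, pow_mul, pow_two, B.sq, one_pow, one_mul] at this
  rw [h]; exact this.symm

/-- An element fixing centre and axis commutes. -/
theorem Base.comm_of_fix (B : Base x z A O) {o : MulAut Q} (h1 : o z = z)
    (h2 : ∀ a ∈ A, o⁻¹ a ∈ A) (h3 : ∀ a ∈ A, o a ∈ A) : o * x * o⁻¹ = x := by
  have T := B.tv.conj o
  have hA : A.map o.toMonoidHom = A := by
    ext q
    rw [mem_map_aut]
    exact ⟨fun h => by simpa using h3 _ h, h2 q⟩
  rw [h1, hA] at T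
  exact T.ext B.tv

theorem Base.fix_of_comm (B : Base x z A O) {o : MulAut Q} (h : o * x * o⁻¹ = x) :
    o z = z ∧ ∀ a, o a ∈ A ↔ a ∈ A := by
  have T := B.tv.conj o
  rw [h] at T
  obtain ⟨h1, h2⟩ := B.tv.unique T
  refine ⟨h1.symm, fun a => ?_⟩
  conv_lhs => rw [h2, mem_map_aut, MulAut.inv_apply_self]

/-- A second conjugate has its centre off the axis. -/
theorem Base.not_mem (B : Base x z A O) {d : MulAut Q} (hd : d ∈ O) (hne : d * x * d⁻¹ ≠ x) :
    d z ∉ A := by
  intro hz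
  set c := x * (d * x * d⁻¹) with hc
  have hcO : c ∈ O := by
    have := O.mul_mem (B.norm d hd) (O.inv_mem hd)
    rwa [B.x_inv, show x * d * x * d⁻¹ = c by rw [hc]; group] at this
  obtain ⟨k, hk⟩ := B.orderOdd hcO
  have hx2 := B.x_sq
  have hinv : x * c * x⁻¹ = c⁻¹ := by
    rw [hc, mul_inv_rev, mul_inv_rev, mul_inv_rev, inv_inv, B.x_inv]
    simp only [← mul_assoc, hx2, one_mul]
  have hpow : ∀ n : ℕ, x * c ^ n = (c ^ n)⁻¹ * x := by
    intro n
    have h := conj_pow (i := n) (a := x) (b := c)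
    rw [hinv, inv_pow] at h
    rw [h, mul_assoc, inv_mul_cancel, mul_one]
  have he : c ^ k * x * (c ^ k)⁻¹ = d * x * d⁻¹ := by
    have h1 : x * (c ^ k)⁻¹ = c ^ k * x := by
      rw [mul_inv_eq_iff_eq_mul, mul_assoc, hpow, ← mul_assoc, mul_inv_cancel, one_mul]
    rw [mul_assoc, h1, ← mul_assoc, ← pow_add]
    have h2 : c ^ (k + k) * c = 1 := by rw [← pow_succ, ← two_mul, ← hk, pow_orderOf_eq_one]
    rw [eq_inv_of_mul_eq_one_left h2, hc, mul_inv_rev, B.x_inv, mul_assoc, hx2, mul_one]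
    simp only [mul_inv_rev, inv_inv, B.x_inv, mul_assoc]
  set w := c ^ k * x
  have hw1 : w * x * w⁻¹ = d * x * d⁻¹ := by
    rw [← he]; simp only [w, mul_inv_rev, B.x_inv]; simp only [mul_assoc]; rw [← mul_assoc x x, hx2, one_mul]
  have hw2 : w * (d * x * d⁻¹) * w⁻¹ = x := by
    have h1 : x * (d * x * d⁻¹) * x⁻¹ = c * x := by rw [B.x_inv]
    have h2 : c ^ k * c * (c ^ k)⁻¹ = c := by rw [← pow_succ, pow_succ', mul_inv_cancel_right]
    calc w * (d * x * d⁻¹) * w⁻¹ = c ^ k * (x * (d * x * d⁻¹) * x⁻¹) * (c ^ k)⁻¹ := by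
          simp only [w]; group
      _ = (c ^ k * c * (c ^ k)⁻¹) * (c ^ k * x * (c ^ k)⁻¹) := by rw [h1]; group
      _ = x * (d * x * d⁻¹) * (d * x * d⁻¹) := by rw [h2, he]
      _ = x * (d * (x * x) * d⁻¹) := by group
      _ = x := by rw [hx2, mul_one, mul_inv_cancel, mul_one]
  have T1 := B.tv.conj d
  have Tw := B.tv.conj w
  rw [hw1] at Tw
  obtain ⟨e1, e2⟩ := T1.unique Tw
  have T2 := T1.conj w
  rw [hw2] at T2
  obtain ⟨e3, -⟩ := B.tv.unique T2
  have hz' : z ∈ A.map d.toMonoidHom := by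
    rw [e3, e2]; exact ⟨d z, hz, rfl⟩
  refine hne ?_
  have hcomm : x * (d * x * d⁻¹) = d * x * d⁻¹ * x := by
    refine MulEquiv.ext fun q => ?_
    generalize d * x * d⁻¹ = y at T1
    show x (y q) = y (x q)
    by_cases h1 : q ∈ A
    · rw [B.tv.fix q h1]
      rcases T1.step q with e | e <;> rw [e]
      · exact B.tv.fix q h1
      · exact B.tv.fix _ (mul_mem h1 hz)
    · rw [B.tv.move q h1, map_mul, T1.fix z hz']
      rcases T1.step q with e | e <;> rw [e]
      · exact B.tv.move q h1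
      · rw [map_mul, B.tv.move q h1, B.tv.fix _ hz, mul_assoc, mul_assoc, qcomm B.sq z]
  have hcc : c * c = 1 := by
    calc c * c = x * (d * x * d⁻¹) * (d * x * d⁻¹ * x) := by rw [← hcomm]
      _ = x * (d * (x * x) * d⁻¹) * x := by group
      _ = 1 := by rw [hx2, mul_one, mul_inv_cancel, mul_one, hx2]
  have := B.eq_one_of_sq hcO hcc
  rw [eq_inv_of_mul_eq_one_right this, B.x_inv]

theorem two_not_mem {A : Subgroup Q} (h : A.index = 2) {p q : Q} (hp : p ∉ A) (hq : q ∉ A) :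
    p * q ∈ A := by
  rw [Subgroup.mul_mem_iff_of_index_two h]; simp [hp, hq]

/-- At most three conjugates. -/
theorem Base.orbit (B : Base x z A O) {d e : MulAut Q} (hd : d ∈ O) (he : e ∈ O)
    (h : d * x * d⁻¹ ≠ x) :
    e * x * e⁻¹ = x ∨ e * x * e⁻¹ = d * x * d⁻¹ ∨ e * x * e⁻¹ = x * (d * x * d⁻¹) * x⁻¹ := by
  by_contra hh
  push Not at hh
  obtain ⟨h1, h2, h3⟩ := hh
  have key : ∀ {g g' : MulAut Q}, g * x * g⁻¹ ≠ g' * x * g'⁻¹ → (g'⁻¹ * g) * x * (g'⁻¹ * g)⁻¹ ≠ x :=
    fun {g g'} hne e => hne (calc g * x * g⁻¹ = g' * ((g'⁻¹ * g) * x * (g'⁻¹ * g)⁻¹) * g'⁻¹ := by group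
      _ = g' * x * g'⁻¹ := by rw [e])
  have hd' : x * d * x⁻¹ ∈ O := B.norm d hd
  have e3 : x * d * x⁻¹ * x * (x * d * x⁻¹)⁻¹ = x * (d * x * d⁻¹) * x⁻¹ := by group
  have m1 : z ∉ A.map e.toMonoidHom := fun hm =>
    B.not_mem (O.inv_mem he) (fun he' => h1 (calc e * x * e⁻¹ = e * (e⁻¹ * x * e⁻¹⁻¹) * e⁻¹ := by rw [he']
      _ = x := by group)) (mem_map_aut.1 hm)
  have m2 : d z ∉ A.map e.toMonoidHom := fun hm => by
    have := B.not_mem (O.mul_mem (O.inv_mem he) hd) (key (Ne.symm h2))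
    exact this (mem_map_aut.1 hm)
  have hd'z : (x * d * x⁻¹) z = d z * z := by
    show x (d (x⁻¹ z)) = d z * z
    rw [B.x_inv, B.tv.fix z B.tv.mem, B.tv.move _ (B.not_mem hd h)]
  have m3 : (x * d * x⁻¹) z ∈ A.map e.toMonoidHom := hd'z ▸ two_not_mem (B.tv.conj e).index m2 m1
  exact B.not_mem (O.mul_mem (O.inv_mem he) hd') (key (g := x * d * x⁻¹) (g' := e)
    (by rw [e3]; exact Ne.symm h3)) (mem_map_aut.1 m3)

/-- A nontrivial inverted element. -/
structure Moved (x : MulAut Q) (z : Q) (A : Subgroup Q) (O : Subgroup (MulAut Q)) (u : MulAut Q) : Prop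
    where
  base : Base x z A O
  mem : u ∈ O
  ne : u ≠ 1
  inv : x * u * x⁻¹ = u⁻¹

theorem Base.exists_inverted (B : Base x z A O) {d : MulAut Q} (hd : d ∈ O)
    (h : d * x * d⁻¹ ≠ x) : ∃ u, Moved x z A O u := by
  refine ⟨x * (d * x * d⁻¹), B, ?_, ?_, ?_⟩
  · have := O.mul_mem (B.norm d hd) (O.inv_mem hd)
    rwa [B.x_inv, show x * d * x * d⁻¹ = x * (d * x * d⁻¹) by group] at this
  · exact fun e => h (by rw [eq_inv_of_mul_eq_one_right e, B.x_inv])
  · rw [B.x_inv, mul_inv_rev, mul_inv_rev, mul_inv_rev, inv_inv, B.x_inv]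
    simp only [← mul_assoc, B.x_sq, one_mul]

namespace Moved

variable {u : MulAut Q}

theorem moves (M : Moved x z A O u) : u * x * u⁻¹ ≠ x := by
  intro h
  refine M.ne (M.base.eq_one_of_sq M.mem ?_)
  have : x * u * x⁻¹ = u := by
    calc x * u * x⁻¹ = (u * x * u⁻¹) * u * x⁻¹ := by rw [h]
      _ = u := by group
  rw [M.inv] at this
  nth_rewrite 1 [← this]
  exact inv_mul_cancel u

theorem conj_x (M : Moved x z A O u) : u * x * u⁻¹ = u * u * x := by
  rw [← M.inv, M.base.x_inv]; simp only [mul_assoc]; rw [← mul_assoc x x, M.base.x_sq, one_mul]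

/-- It has order three. -/
theorem cube (M : Moved x z A O u) : u * u * u = 1 := by
  have hx := M.conj_x
  have h2 : (u * u) * x * (u * u)⁻¹ = u * u * (u * u) * x := by
    calc (u * u) * x * (u * u)⁻¹ = u * (u * x * u⁻¹) * u⁻¹ := by group
      _ = u * u * u * (x * u⁻¹) := by rw [hx]; group
      _ = u * u * u * (x * u⁻¹ * x⁻¹ * x) := by group
      _ = u * u * (u * u) * x := by
          rw [show x * u⁻¹ * x⁻¹ = (x * u * x⁻¹)⁻¹ by group, M.inv, inv_inv]; simp only [mul_assoc]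
  have h3 : x * (u * u * x) * x⁻¹ = u⁻¹ * u⁻¹ * x := by
    rw [← M.inv]; group
  rcases M.base.orbit M.mem (O.mul_mem M.mem M.mem) M.moves with h | h | h
  · rw [h2] at h
    have h' := mul_eq_right.1 h
    have := M.base.eq_one_of_sq (O.mul_mem M.mem M.mem) h'
    rw [M.base.eq_one_of_sq M.mem this, mul_one, mul_one]
  · rw [h2, hx] at h
    have h' : u * u = 1 := mul_eq_left.1 (mul_right_cancel h)
    rw [M.base.eq_one_of_sq M.mem h', mul_one, mul_one]
  · rw [h2, hx, h3] at h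
    have h' := mul_right_cancel h
    refine M.base.eq_one_of_sq (O.mul_mem (O.mul_mem M.mem M.mem) M.mem) ?_
    calc u * u * u * (u * u * u) = u * u * (u * u) * (u * u) := by simp only [mul_assoc]
      _ = 1 := by rw [h']; group

theorem inv_eq (M : Moved x z A O u) : u⁻¹ = u * u := inv_eq_of_mul_eq_one_left M.cube

theorem eq_prod (M : Moved x z A O u) : u = x * (u * x * u⁻¹) := by
  calc u = (x * (u * u) * x⁻¹) := by
        rw [← M.inv_eq, show x * u⁻¹ * x⁻¹ = (x * u * x⁻¹)⁻¹ by group, M.inv, inv_inv]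
    _ = x * (u * u * x) := by rw [M.base.x_inv]; simp only [mul_assoc]
    _ = x * (u * x * u⁻¹) := by rw [M.conj_x]

/-- The group moved by `u`. -/
def W (M : Moved x z A O u) : Subgroup Q := klein M.base.sq z (u z)

theorem mem_W (M : Moved x z A O u) {q : Q} : q ∈ M.W ↔ q = 1 ∨ q = z ∨ q = u z ∨ q = z * u z :=
  Iff.rfl

theorem uz_not_mem (M : Moved x z A O u) : u z ∉ A := M.base.not_mem M.mem M.moves

theorem u_uz (M : Moved x z A O u) : u (u z) = z * u z := by
  have : (u⁻¹) z = u z * z := by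
    rw [← M.inv]
    show x (u (x⁻¹ z)) = _
    rw [M.base.x_inv, M.base.tv.fix z M.base.tv.mem, M.base.tv.move _ M.uz_not_mem]
  rw [qcomm M.base.sq z, ← this, M.inv_eq]
  rfl

theorem u_mem_W (M : Moved x z A O u) {q : Q} (hq : q ∈ M.W) : u q ∈ M.W := by
  rw [M.mem_W] at hq ⊢
  rcases hq with rfl | rfl | rfl | rfl
  · simp
  · tauto
  · rw [M.u_uz]; tauto
  · rw [map_mul, M.u_uz, ← mul_assoc, qcomm M.base.sq (u z), mul_assoc, M.base.sq, mul_one]
    tauto

theorem commutator_mem (M : Moved x z A O u) (q : Q) : q * u q ∈ M.W := by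
  have hz : z ∈ M.W := M.mem_W.2 (Or.inr (Or.inl rfl))
  have hu : u z ∈ M.W := M.mem_W.2 (Or.inr (Or.inr (Or.inl rfl)))
  have h : u q = x ((u * x * u⁻¹) q) := congrArg (fun f : MulAut Q => f q) M.eq_prod
  rw [h]
  rcases (M.base.tv.conj u).step q with e | e <;> rw [e] <;>
    rcases M.base.tv.step _ with e' | e' <;> rw [e']
  · rw [M.base.sq]; exact one_mem _
  · rw [← mul_assoc, M.base.sq, one_mul]; exact hz
  · rw [← mul_assoc, M.base.sq, one_mul]; exact hu
  · rw [← mul_assoc, ← mul_assoc, M.base.sq, one_mul]; exact mul_mem hu hz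

/-- The fixed points of `u`. -/
def U (_ : Moved x z A O u) : Subgroup Q where
  carrier := {q | u q = q}
  one_mem' := map_one u
  mul_mem' ha hb := by
    simp only [Set.mem_setOf_eq, map_mul] at *
    rw [ha, hb]
  inv_mem' ha := by
    simp only [Set.mem_setOf_eq, map_inv] at *
    rw [ha]

theorem mem_U (M : Moved x z A O u) {q : Q} : q ∈ M.U ↔ u q = q := Iff.rfl

theorem W_inf_U (M : Moved x z A O u) {q : Q} (hW : q ∈ M.W) (hU : u q = q) : q = 1 := by
  have h1 : u z ≠ z := fun e => M.uz_not_mem (e.symm ▸ M.base.tv.mem)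
  rcases M.mem_W.1 hW with rfl | rfl | rfl | rfl
  · rfl
  · exact absurd hU h1
  · rw [M.u_uz] at hU
    exact absurd (mul_eq_right.1 hU) M.base.tv.ne
  · rw [map_mul, M.u_uz, ← mul_assoc, qcomm M.base.sq (u z), mul_assoc, M.base.sq, mul_one] at hU
    exact absurd (left_eq_mul.1 hU) fun e => M.uz_not_mem (e.symm ▸ one_mem A)

theorem U_le (M : Moved x z A O u) : M.U ≤ A := by
  intro q hq
  by_contra hA
  have h : u (x q) = x q := by
    have h1 : (u * x) q = (x * u⁻¹) q := by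
      congr 1
      rw [← M.inv, M.base.x_inv, ← mul_assoc, ← mul_assoc, M.base.x_sq, one_mul]
    have h2 : u⁻¹ q = q := by conv_lhs => rw [← (hq : u q = q), MulAut.inv_apply_self]
    show (u * x) q = x q
    rw [h1]
    exact congrArg x h2
  rw [M.base.tv.move q hA, map_mul, (hq : u q = q)] at h
  exact M.uz_not_mem ((mul_left_cancel h).symm ▸ M.base.tv.mem)

theorem z_ne_uz (M : Moved x z A O u) : z ≠ u z := fun e => M.uz_not_mem (e ▸ M.base.tv.mem)

theorem card_W (M : Moved x z A O u) : Nat.card M.W = 4 :=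
  card_klein M.base.sq M.base.tv.ne (fun e => M.uz_not_mem (e ▸ one_mem A)) M.z_ne_uz

theorem decomp (M : Moved x z A O u) :
    Nat.card M.U = 4 ∧ ∀ q : Q, ∃ w ∈ M.W, ∃ k ∈ M.U, q = w * k := by
  have : Finite Q := Nat.finite_of_card_ne_zero (by rw [M.base.card]; norm_num)
  let φ : Q →* Q := MonoidHom.mk' (fun q => q * u q) fun p q => by
    rw [map_mul, mul_assoc, mul_assoc, ← mul_assoc q, qcomm M.base.sq q (u p), mul_assoc]
  have hk : φ.ker = M.U := by
    ext q
    rw [MonoidHom.mem_ker, M.mem_U]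
    show q * u q = 1 ↔ _
    rw [mul_eq_one_iff_inv_eq, qinv M.base.sq, eq_comm]
  have hr : φ.range ≤ M.W := by rintro _ ⟨q, rfl⟩; exact M.commutator_mem q
  have h1 := Subgroup.card_mul_index φ.ker
  rw [Subgroup.index_ker, M.base.card, hk] at h1
  have h2 : Nat.card φ.range ≤ 4 := M.card_W ▸ Subgroup.card_le_of_le hr
  let f : M.W × M.U → Q := fun p => p.1 * p.2
  have hf : Function.Injective f := by
    rintro ⟨w, k⟩ ⟨w', k'⟩ (e : (w : Q) * k = w' * k')
    have e' : (w' : Q)⁻¹ * w = k' * (k : Q)⁻¹ := by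
      rw [eq_mul_inv_iff_mul_eq, mul_assoc, e, inv_mul_cancel_left]
    have h := M.W_inf_U (q := (w' : Q)⁻¹ * w) (mul_mem (inv_mem w'.2) w.2)
      (e' ▸ mul_mem k'.2 (inv_mem k.2))
    have hw : w' = w := Subtype.ext (inv_mul_eq_one.1 h)
    subst hw
    exact Prod.ext rfl (Subtype.ext (mul_left_cancel e))
  have h3 := Nat.card_le_card_of_injective f hf
  rw [Nat.card_prod, M.card_W, M.base.card] at h3
  have h4 : Nat.card M.U = 4 := by nlinarith
  refine ⟨h4, fun q => ?_⟩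
  obtain ⟨⟨w, k⟩, hwk⟩ := (hf.bijective_of_nat_card_le (by
    rw [Nat.card_prod, M.card_W, h4, M.base.card])).2 q
  exact ⟨w, w.2, k, k.2, hwk.symm⟩

theorem orbit_cases (M : Moved x z A O u) {e : MulAut Q} (he : e ∈ O) :
    ∃ c ∈ O, c * x * c⁻¹ = x ∧ (e = c ∨ e = u * c ∨ e = u * u * c) := by
  have h2 : x * (u * x * u⁻¹) * x⁻¹ = (u * u) * x * (u * u)⁻¹ := by
    rw [show x * (u * x * u⁻¹) * x⁻¹ = (x * u * x⁻¹) * x * (x * u * x⁻¹)⁻¹ by group, M.inv, M.inv_eq]
  have key : ∀ g : MulAut Q, e * x * e⁻¹ = g * x * g⁻¹ → (g⁻¹ * e) * x * (g⁻¹ * e)⁻¹ = x :=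
    fun g h => calc (g⁻¹ * e) * x * (g⁻¹ * e)⁻¹ = g⁻¹ * (e * x * e⁻¹) * g := by group
      _ = x := by rw [h]; group
  rcases M.base.orbit M.mem he M.moves with h | h | h
  · exact ⟨e, he, h, Or.inl rfl⟩
  · exact ⟨u⁻¹ * e, O.mul_mem (O.inv_mem M.mem) he, key u h, Or.inr (Or.inl (by group))⟩
  · exact ⟨(u * u)⁻¹ * e, O.mul_mem (O.inv_mem (O.mul_mem M.mem M.mem)) he, key _ (h.trans h2),
      Or.inr (Or.inr (by group))⟩

theorem inverted_cases (M : Moved x z A O u) {i : MulAut Q} (hi : i ∈ O)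
    (h : x * i * x⁻¹ = i⁻¹) : i = 1 ∨ i = u ∨ i = u⁻¹ := by
  have aux : ∀ g ∈ O, x * g * x⁻¹ = g⁻¹ → g * x * g⁻¹ = g * g * x := fun g _ hg => by
    rw [← hg, M.base.x_inv]; simp only [mul_assoc]; rw [← mul_assoc x x, M.base.x_sq, one_mul]
  have hsq : ∀ {g g' : MulAut Q}, g ∈ O → g' ∈ O → g * g' = g' * g → g * g = g' * g' → g = g' := by
    intro g g' hg hg' hc he
    refine inv_mul_eq_one.1 ?_ |>.symm
    refine M.base.eq_one_of_sq (O.mul_mem (O.inv_mem hg') hg) ?_
    have hc' : Commute g g'⁻¹ := (show Commute g g' from hc).inv_right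
    rw [mul_assoc, ← mul_assoc g, hc'.eq, mul_assoc g'⁻¹ g, ← mul_assoc, ← mul_inv_rev, ← he,
      inv_mul_cancel]
  obtain ⟨k, hk⟩ := M.base.orderOdd hi
  have hroot : i = (i * i) ^ (k + 1) := by
    rw [← pow_two, ← pow_mul, show 2 * (k + 1) = orderOf i + 1 by omega, pow_succ,
      pow_orderOf_eq_one, one_mul]
  rcases M.base.orbit M.mem hi M.moves with e | e | e
  · rw [aux i hi h] at e
    exact Or.inl (M.base.eq_one_of_sq hi (mul_eq_right.1 e))
  · rw [aux i hi h, M.conj_x] at e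
    have e' := mul_right_cancel e
    refine Or.inr (Or.inl (hsq hi M.mem ?_ e'))
    rw [hroot, e']
    exact ((Commute.refl u).mul_left (Commute.refl u)).pow_left _
  · rw [aux i hi h, M.conj_x] at e
    have e' : i * i = u⁻¹ * u⁻¹ := by
      apply mul_right_cancel (b := x)
      rw [e, ← M.inv]; group
    refine Or.inr (Or.inr (hsq hi (O.inv_mem M.mem) ?_ e'))
    rw [hroot, e']
    exact ((Commute.refl u⁻¹).mul_left (Commute.refl u⁻¹)).pow_left _

end Moved

theorem eq_one_of_fix (B : Base x z A O) {c : MulAut Q} (hc : c ∈ O) (hx : c * x * c⁻¹ = x)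
    {a : Q} (haA : a ∈ A) (ha1 : a ≠ 1) (haz : a ≠ z) (hfix : c a = a) : c = 1 := by
  obtain ⟨hz, hA⟩ := B.fix_of_comm hx
  set K := klein B.sq z a
  have hKA : K ≤ A := by
    intro q hq
    rcases hq with rfl | rfl | rfl | rfl
    exacts [one_mem A, B.tv.mem, haA, mul_mem B.tv.mem haA]
  have hKfix : ∀ k ∈ K, c k = k := by
    intro q hq
    rcases hq with rfl | rfl | rfl | rfl
    exacts [map_one c, hz, hfix, by rw [map_mul, hz, hfix]]
  have h8 : Nat.card A = 8 := by
    have := Subgroup.card_mul_index A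
    rw [B.tv.index, B.card] at this; omega
  have hi : K.relIndex A = 2 := by
    have := Subgroup.relIndex_mul_relIndex ⊥ K A bot_le hKA
    rw [Subgroup.relIndex_bot_left, Subgroup.relIndex_bot_left,
      card_klein B.sq B.tv.ne ha1 (Ne.symm haz), h8] at this
    omega
  have hAfix : ∀ q ∈ A, c q = q := by
    intro q hq
    by_cases hK : q ∈ K
    · exact hKfix q hK
    · have hcq : c q ∉ K := fun h => hK (by
        have := hKfix _ h
        rwa [c.injective this] at h)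
      have hmem : q * c q ∈ K := two_not_mem (A := K.subgroupOf A) hi (p := ⟨q, hq⟩)
        (q := ⟨c q, (hA q).2 hq⟩) hK hcq
      exact B.fix_of_step hc (hKfix _ hmem) (by rw [← mul_assoc, B.sq, one_mul])
  refine MulEquiv.ext fun q => ?_
  by_cases hq : q ∈ A
  · exact hAfix q hq
  · have hmem : q * c q ∈ A := two_not_mem B.tv.index hq (fun h => hq ((hA q).1 h))
    exact B.fix_of_step hc (hAfix _ hmem) (by rw [← mul_assoc, B.sq, one_mul])

theorem commutator_mem_axis (B : Base x z A O) {c : MulAut Q} (hx : c * x * c⁻¹ = x) (q : Q) :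
    q * c q ∈ A := by
  obtain ⟨-, hA⟩ := B.fix_of_comm hx
  rw [Subgroup.mul_mem_iff_of_index_two B.tv.index, hA]

namespace Moved

variable {u : MulAut Q}

theorem comm_centralizer (M : Moved x z A O u) {c : MulAut Q} (hc : c ∈ O)
    (hx : c * x * c⁻¹ = x) : c * u * c⁻¹ = u := by
  have hxc : x * c = c * x := by rw [← mul_inv_eq_iff_eq_mul.1 hx]
  have hxc' : x * c * x⁻¹ = c := by rw [hxc, mul_inv_cancel_right]
  have hinv : x * (c * u * c⁻¹) * x⁻¹ = (c * u * c⁻¹)⁻¹ := by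
    calc x * (c * u * c⁻¹) * x⁻¹ = (x * c * x⁻¹) * (x * u * x⁻¹) * (x * c * x⁻¹)⁻¹ := by group
      _ = c * u⁻¹ * c⁻¹ := by rw [hxc', M.inv]
      _ = (c * u * c⁻¹)⁻¹ := by group
  rcases M.inverted_cases (O.mul_mem (O.mul_mem hc M.mem) (O.inv_mem hc)) hinv with h | h | h
  · exact absurd (conj_eq_one_iff.1 h) M.ne
  · exact h
  · exfalso
    have h2 : ∀ n : ℕ, c ^ (2 * n) * u * (c ^ (2 * n))⁻¹ = u := by
      intro n
      induction n with
      | zero => simp
      | succ n ih =>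
        calc c ^ (2 * (n + 1)) * u * (c ^ (2 * (n + 1)))⁻¹
            = c * (c * (c ^ (2 * n) * u * (c ^ (2 * n))⁻¹) * c⁻¹) * c⁻¹ := by
              rw [show 2 * (n + 1) = 2 * n + 1 + 1 by ring, pow_succ', pow_succ']; group
          _ = (c * u * c⁻¹)⁻¹ := by rw [ih]; nth_rewrite 1 [h]; group
          _ = u := by rw [h, inv_inv]
    obtain ⟨k, hk⟩ := M.base.orderOdd hc
    have := h2 k
    have e : c ^ (2 * k) = c⁻¹ := eq_inv_of_mul_eq_one_left (by rw [← pow_succ, ← hk, pow_orderOf_eq_one])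
    rw [e, inv_inv] at this
    have e2 : c * u * c⁻¹ = u := by nth_rewrite 1 [← this]; group
    rw [h] at e2
    exact M.ne (M.base.eq_one_of_sq M.mem (by nth_rewrite 1 [← e2]; exact inv_mul_cancel u))

theorem centralizer_fix_W (M : Moved x z A O u) {c : MulAut Q} (hc : c ∈ O)
    (hx : c * x * c⁻¹ = x) {q : Q} (hq : q ∈ M.W) : c q = q := by
  have hz := (M.base.fix_of_comm hx).1
  have hu : c (u z) = u z := by
    have := congrArg (fun f : MulAut Q => f (c z))
      (show c * u * c⁻¹ = u from M.comm_centralizer hc hx)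
    simp only [MulAut.mul_apply, MulAut.inv_apply_self] at this
    rwa [hz] at this
  rcases M.mem_W.1 hq with rfl | rfl | rfl | rfl
  exacts [map_one c, hz, hu, by rw [map_mul, hz, hu]]

theorem mem_W_of_mem (M : Moved x z A O u) {e : MulAut Q} (he : e ∈ O) {q : Q} (hq : q ∈ M.W) :
    e q ∈ M.W := by
  obtain ⟨c, hc, hx, rfl | rfl | rfl⟩ := M.orbit_cases he
  · rwa [M.centralizer_fix_W hc hx hq]
  · show u (c q) ∈ _
    rw [M.centralizer_fix_W hc hx hq]; exact M.u_mem_W hq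
  · show u (u (c q)) ∈ _
    rw [M.centralizer_fix_W hc hx hq]; exact M.u_mem_W (M.u_mem_W hq)

theorem mem_U_of_mem (M : Moved x z A O u) {e : MulAut Q} (he : e ∈ O) {q : Q} (hq : q ∈ M.U) :
    e q ∈ M.U := by
  have hc' : ∀ c ∈ O, c * x * c⁻¹ = x → c q ∈ M.U := fun c hc hx => by
    rw [M.mem_U] at hq ⊢
    have := congrArg (fun f : MulAut Q => f (c q))
      (show c * u * c⁻¹ = u from M.comm_centralizer hc hx)
    simp only [MulAut.mul_apply, MulAut.inv_apply_self] at this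
    rw [hq] at this
    exact this.symm
  obtain ⟨c, hc, hx, rfl | rfl | rfl⟩ := M.orbit_cases he
  · exact hc' _ hc hx
  · show u (c q) ∈ _
    rw [(hc' c hc hx : u (c q) = c q)]; exact hc' c hc hx
  · show u (u (c q)) ∈ _
    rw [(hc' c hc hx : u (c q) = c q), (hc' c hc hx : u (c q) = c q)]; exact hc' c hc hx

theorem centralizer_commutator (M : Moved x z A O u) {c : MulAut Q} (hc : c ∈ O)
    (hx : c * x * c⁻¹ = x) (q : Q) : q * c q ∈ M.U := by
  obtain ⟨w, hw, k, hk, rfl⟩ := M.decomp.2 q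
  rw [map_mul, M.centralizer_fix_W hc hx hw, ← mul_assoc, qcomm M.base.sq w k, mul_assoc k w,
    M.base.sq, mul_one]
  exact mul_mem hk (M.mem_U_of_mem hc hk)

theorem mem_U_iff_commutator (M : Moved x z A O u) {c : MulAut Q} (hc : c ∈ O)
    (hx : c * x * c⁻¹ = x) (hc1 : c ≠ 1) {k : Q} : k ∈ M.U ↔ ∃ a ∈ A, k = a * c a := by
  refine ⟨fun hk => ?_, fun ⟨a, _, e⟩ => e ▸ M.centralizer_commutator hc hx a⟩
  have : Finite Q := Nat.finite_of_card_ne_zero (by rw [M.base.card]; norm_num)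
  let f : M.U → M.U := fun a => ⟨a.1 * c a.1, M.centralizer_commutator hc hx a⟩
  have hf : Function.Injective f := by
    intro a b e
    have e' : (a : Q) * c a = b * c b := congrArg Subtype.val e
    set d : Q := a * b with hd
    have hfix : c d = d := by
      have h1 : d * c d = 1 := by
        rw [hd, map_mul, mul_assoc, ← mul_assoc (b : Q), qcomm M.base.sq (b : Q) (c a), mul_assoc,
          ← mul_assoc, e', M.base.sq]
      exact (eq_inv_of_mul_eq_one_right h1).trans (qinv M.base.sq d)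
    by_contra hab
    have hd1 : d ≠ 1 := fun h => hab (Subtype.ext (by
      rw [← qinv M.base.sq (b : Q)]; exact eq_inv_of_mul_eq_one_left h))
    have hdU : d ∈ M.U := mul_mem a.2 b.2
    have hdz : d ≠ z := fun h => M.base.tv.ne (M.W_inf_U (M.mem_W.2 (Or.inr (Or.inl rfl))) (h ▸ hdU))
    exact hc1 (eq_one_of_fix M.base hc hx (M.U_le hdU) hd1 hdz hfix)
  obtain ⟨a, ha⟩ := (Finite.injective_iff_surjective.1 hf) ⟨k, hk⟩
  exact ⟨a, M.U_le a.2, (congrArg Subtype.val ha).symm⟩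

variable {y : MulAut Q} {z₂ : Q} {A₂ : Subgroup Q}

theorem comm_second (M : Moved x z A O u) (B : Base y z₂ A₂ O) (hxy : x * y = y * x)
    (hne : z ≠ z₂) (h2 : z₂ ∈ A) : u * y * u⁻¹ = y := by
  have hinv : x * (y * u * y⁻¹) * x⁻¹ = (y * u * y⁻¹)⁻¹ := by
    have e : x * y * x⁻¹ = y := by rw [hxy, mul_inv_cancel_right]
    calc x * (y * u * y⁻¹) * x⁻¹ = (x * y * x⁻¹) * (x * u * x⁻¹) * (x * y * x⁻¹)⁻¹ := by group
      _ = y * u⁻¹ * y⁻¹ := by rw [e, M.inv]
      _ = (y * u * y⁻¹)⁻¹ := by group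
  rcases M.inverted_cases (B.norm u M.mem) hinv with h | h | h
  · exact absurd (conj_eq_one_iff.1 h) M.ne
  · calc u * y * u⁻¹ = (y * u * y⁻¹) * y * u⁻¹ := by rw [h]
      _ = y := by group
  · exfalso
    have M' : Moved y z₂ A₂ O u := ⟨B, M.mem, M.ne, h⟩
    have hz2 : z₂ ∈ M.W := by
      have := M.u_mem_W (M.commutator_mem z₂)
      rwa [map_mul, M'.u_uz, ← mul_assoc, qcomm B.sq (u z₂), mul_assoc, B.sq, mul_one] at this
    rcases M.mem_W.1 hz2 with e | e | e | e
    · exact B.tv.ne e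
    · exact hne e.symm
    · exact M.uz_not_mem (e ▸ h2)
    · exact M.uz_not_mem ((Subgroup.mul_mem_cancel_left A M.base.tv.mem).1 (e ▸ h2))

theorem W_le_second (M : Moved x z A O u) (B : Base y z₂ A₂ O) (hxy : x * y = y * x)
    (hne : z ≠ z₂) (h1 : z ∈ A₂) (h2 : z₂ ∈ A) : M.W ≤ A₂ ∧ u z₂ = z₂ := by
  obtain ⟨e1, e2⟩ := B.fix_of_comm (M.comm_second B hxy hne h2)
  refine ⟨fun q hq => ?_, e1⟩
  rcases M.mem_W.1 hq with rfl | rfl | rfl | rfl
  exacts [one_mem _, h1, (e2 _).2 h1, mul_mem h1 ((e2 _).2 h1)]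

end Moved

end Cfsg.Agent.DihedralPair.Lin
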