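import Cfsg.Agent.Lib.DihedralPair.Aut
import Cfsg.Agent.Lib.DihedralPair.Linear
import Cfsg.Agent.Lib.Fusion.Group

/-
The elementary subgroups of order 16 in the ambient group (owner: helper76).

* `Setting`, `Box` : the embedding; one elementary subgroup of order 16
* `Setting.not_conj` : the three central involutions are not conjugate
* `Box.good` : the odd part of the automorphisms is a normal complement
* `Box.base` : the transvection
-/

set_option autoImplicit false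

namespace Cfsg.Agent.DihedralPair

open DihedralGroup Cfsg Cfsg.FusionSystem Cfsg.Agent.Fusion

variable {G : Type*} [Group G] {a b : ℕ}

/-- The image of a product of two four groups. -/
def quad (ι : DD a × DD b →* G) (i : ZMod (2 ^ (a + 1))) (j : ZMod (2 ^ (b + 1))) : Subgroup G :=
  ((four i).prod (four j)).map ι

/-- Exchange the factors. -/
def swp (ι : DD a × DD b →* G) : DD b × DD a →* G :=
  ι.comp (MulEquiv.prodComm : DD b × DD a ≃* DD a × DD b).toMonoidHom

theorem swp_apply (ι : DD a × DD b →* G) (x : DD b) (y : DD a) : swp ι (x, y) = ι (y, x) := rfl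

theorem quad_swp (ι : DD a × DD b →* G) (i : ZMod (2 ^ (a + 1))) (j : ZMod (2 ^ (b + 1))) :
    quad (swp ι) j i = quad ι i j := by
  ext g
  constructor
  · rintro ⟨⟨x, y⟩, ⟨hx, hy⟩, e⟩; exact ⟨(y, x), ⟨hy, hx⟩, e⟩
  · rintro ⟨⟨x, y⟩, ⟨hx, hy⟩, e⟩; exact ⟨(y, x), ⟨hy, hx⟩, e⟩

/-- An embedding onto a Sylow `2`-subgroup. -/
structure Setting (ι : DD a × DD b →* G) (T : Sylow 2 G) : Prop where
  inj : Function.Injective ι
  range : ι.range = (T : Subgroup G)

/-- One of the elementary subgroups of order 16. -/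
structure Box (ι : DD a × DD b →* G) (T : Sylow 2 G) (i : ZMod (2 ^ (a + 1)))
    (j : ZMod (2 ^ (b + 1))) (R : Subgroup G) : Prop extends Setting ι T where
  eq : R = quad ι i j

theorem Setting.swap {ι : DD a × DD b →* G} {T : Sylow 2 G} (S : Setting ι T) :
    Setting (swp ι) T where
  inj x y e := MulEquiv.injective _ (S.inj e)
  range := by
    rw [← S.range, swp, MonoidHom.range_comp, MonoidHom.range_eq_top.2 (MulEquiv.surjective _),
      MonoidHom.range_eq_map]

theorem Box.swap {ι : DD a × DD b →* G} {T : Sylow 2 G} {i : ZMod (2 ^ (a + 1))}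
    {j : ZMod (2 ^ (b + 1))} {R : Subgroup G} (B : Box ι T i j R) : Box (swp ι) T j i R :=
  ⟨B.toSetting.swap, B.eq.trans (quad_swp ι i j).symm⟩

theorem Setting.box {ι : DD a × DD b →* G} {T : Sylow 2 G} (S : Setting ι T)
    (i : ZMod (2 ^ (a + 1))) (j : ZMod (2 ^ (b + 1))) : Box ι T i j (quad ι i j) := ⟨S, rfl⟩

theorem Setting.mem {ι : DD a × DD b →* G} {T : Sylow 2 G} (S : Setting ι T) (p : DD a × DD b) :
    ι p ∈ (T : Subgroup G) := S.range ▸ ⟨p, rfl⟩

theorem Setting.exists_rep {ι : DD a × DD b →* G} {T : Sylow 2 G} (S : Setting ι T) {g : G}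
    (hg : g ∈ (T : Subgroup G)) : ∃ p, ι p = g := MonoidHom.mem_range.1 (S.range.symm ▸ hg)

section Dihedral

variable {n : ℕ}

theorem map_four_shift (i k : ZMod (2 ^ (n + 1))) :
    (four i).map (shift k).toMonoidHom = four (i + k) := by
  ext x
  rw [Lin.mem_map_aut, mem_four, mem_four]
  show (shift k).symm x = 1 ∨ _ ↔ _
  cases x with
  | r j => simp [shift, zz, DihedralGroup.one_def, -r_zero]
  | sr j => simp [shift, zz, DihedralGroup.one_def, -r_zero, sub_eq_iff_eq_add, add_right_comm]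

theorem four_cover {D : Subgroup (DD n)} (h : ∀ d ∈ D, d * d = 1) : ∃ i, D ≤ four i := by
  by_cases hrot : D ≤ rot n
  · refine ⟨0, fun d hd => ?_⟩
    obtain ⟨j, rfl⟩ := hrot hd
    have h2 := h _ hd
    rw [r_mul_r, ← r_zero, r.injEq] at h2
    rcases add_self_eq_zero_iff.1 h2 with rfl | rfl
    · rw [r_zero]; exact one_mem _
    · exact zz_mem_four 0
  · obtain ⟨x, hx, hxr⟩ := SetLike.not_le_iff_exists.1 hrot
    cases x with
    | r j => exact absurd ⟨j, rfl⟩ hxr
    | sr j => exact ⟨j, fun d hd => Subgroup.mem_centralizer_singleton_iff.2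
        (Lin.qcomm (Q := D) (fun q => Subtype.ext (h q q.2)) ⟨d, hd⟩ ⟨_, hx⟩ |> congrArg Subtype.val)⟩

/-- Conjugation by the rotation of order four on a four group. -/
theorem quarter_conj_sr (h : 1 ≤ n) (l : ZMod (2 ^ (n + 1))) :
    (r (quarter n) : DD n) * sr l * (r (quarter n))⁻¹ = sr l * zz n := by
  rw [conj_r_sr, two_quarter h, zz, sr_mul_r, sub_eq_add_neg, neg_mid]

theorem four_rot {i : ZMod (2 ^ (n + 1))} {v : DD n} (hv : v ∈ four i) (hr : v ∈ rot n) :
    v = 1 ∨ v = zz n := by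
  rcases mem_four.1 hv with h | h | rfl | rfl
  · exact Or.inl h
  · exact Or.inr h
  · exact absurd hr (sr_not_mem_rot _)
  · exact absurd hr (sr_not_mem_rot _)

theorem quarter_conj_four (h : 1 ≤ n) {i : ZMod (2 ^ (n + 1))} {v : DD n} (hv : v ∈ four i) :
    (r (quarter n) : DD n) * v * (r (quarter n))⁻¹ ∈ four i := by
  rcases mem_four.1 hv with rfl | rfl | rfl | rfl
  · simp
  · rw [zz_comm, mul_inv_cancel_right]; exact zz_mem_four i
  all_goals rw [quarter_conj_sr h]; exact mul_mem hv (zz_mem_four i)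

theorem four_action {i : ZMod (2 ^ (n + 1))} (d : DD n) (h : ∀ v ∈ four i, d * v * d⁻¹ ∈ four i) :
    (∀ v ∈ four i, d * v * d⁻¹ = v) ∨
      (1 ≤ n ∧ ∀ v ∈ four i, d * v * d⁻¹ = r (quarter n) * v * (r (quarter n))⁻¹) := by
  rcases Nat.eq_zero_or_pos n with rfl | hn
  · left
    intro v hv
    have hd : d ∈ four i := eq_four_or_rot_comm (i := i) rfl ▸ Subgroup.mem_top d
    rw [four_comm hd hv, mul_inv_cancel_right]
  have hz : d * zz n * d⁻¹ = zz n := by rw [zz_comm, mul_inv_cancel_right]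
  have hmul : sr i * zz n = sr (i + mid n) := by rw [zz, sr_mul_r]
  have hne : d * sr i * d⁻¹ ∉ rot n := by
    obtain ⟨l, -, hl⟩ := conj_par d i
    rw [hl]; exact sr_not_mem_rot l
  rcases mem_four.1 (h _ (sr_mem_four i)) with e | e | e | e
  · exact absurd (e ▸ one_mem _) hne
  · exact absurd (e ▸ ⟨mid n, rfl⟩) hne
  · left
    intro v hv
    rcases mem_four.1 hv with rfl | rfl | rfl | rfl
    · simp
    · exact hz
    · exact e
    · rw [← hmul, ← conj_mul, e, hz]
  · refine Or.inr ⟨hn, fun v hv => ?_⟩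
    rcases mem_four.1 hv with rfl | rfl | rfl | rfl
    · simp
    · rw [hz, zz_comm, mul_inv_cancel_right]
    · rw [e, quarter_conj_sr hn, hmul]
    · rw [← hmul, ← conj_mul, e, hz, ← conj_mul, quarter_conj_sr hn, zz_comm (r (quarter n)),
        mul_inv_cancel_right, hmul]

end Dihedral

variable [Finite G] {ι : DD a × DD b →* G} {T : Sylow 2 G}

theorem Setting.box_of_elementary (S : Setting ι T) {R : Subgroup G} (hR : R ≤ T)
    (hcard : Nat.card R = 16) (hsq : ∀ x ∈ R, x * x = 1) : ∃ i j, Box ι T i j R := by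
  set E := R.comap ι with hE
  have hmap : E.map ι = R := Subgroup.map_comap_eq_self (S.range ▸ hR)
  have hsq' : ∀ p ∈ E, p * p = 1 := fun p hp => S.inj (by rw [map_mul, map_one]; exact hsq _ hp)
  obtain ⟨i, hi⟩ := four_cover (D := E.map (MonoidHom.fst _ _)) (by
    rintro _ ⟨p, hp, rfl⟩; exact congrArg Prod.fst (hsq' p hp))
  obtain ⟨j, hj⟩ := four_cover (D := E.map (MonoidHom.snd _ _)) (by
    rintro _ ⟨p, hp, rfl⟩; exact congrArg Prod.snd (hsq' p hp))
  have hle : E ≤ (four i).prod (four j) := fun p hp => ⟨hi ⟨p, hp, rfl⟩, hj ⟨p, hp, rfl⟩⟩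
  have h16 : Nat.card ((four i).prod (four j) : Subgroup (DD a × DD b)) = 16 := by
    rw [Nat.card_congr (Subgroup.prodEquiv _ _).toEquiv, Nat.card_prod, card_four, card_four]
  have : E = (four i).prod (four j) := Subgroup.eq_of_le_of_card_ge hle (by
    rw [h16, ← hcard, ← hmap, Subgroup.card_map_of_injective S.inj])
  exact ⟨i, j, S, by rw [quad, ← this, hmap]⟩

variable {i : ZMod (2 ^ (a + 1))} {j : ZMod (2 ^ (b + 1))} {R : Subgroup G}

namespace Box

theorem le (B : Box ι T i j R) : R ≤ T := by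
  rw [B.eq]; rintro _ ⟨p, -, rfl⟩; exact B.mem p

theorem mem_iff (B : Box ι T i j R) {p : DD a × DD b} :
    ι p ∈ R ↔ p.1 ∈ four i ∧ p.2 ∈ four j := by
  rw [B.eq, quad, Subgroup.mem_map_iff_mem B.inj]; rfl

theorem exists_eq (B : Box ι T i j R) (q : R) :
    ∃ v w, v ∈ four i ∧ w ∈ four j ∧ (q : G) = ι (v, w) := by
  obtain ⟨⟨v, w⟩, ⟨hv, hw⟩, e⟩ := Subgroup.mem_map.1 (le_of_eq B.eq q.2)
  exact ⟨v, w, hv, hw, e.symm⟩

/-- An element of the box. -/
def el (B : Box ι T i j R) (v : DD a) (w : DD b) (hv : v ∈ four i) (hw : w ∈ four j) : R :=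
  ⟨ι (v, w), B.mem_iff.2 ⟨hv, hw⟩⟩

theorem sq (B : Box ι T i j R) (q : R) : q * q = 1 := by
  obtain ⟨v, w, hv, hw, e⟩ := B.exists_eq q
  refine Subtype.ext ?_
  rw [Subgroup.coe_mul, e, ← map_mul, Subgroup.coe_one, ← map_one ι]
  exact congrArg ι (Prod.ext (four_mul_self hv) (four_mul_self hw))

theorem card (B : Box ι T i j R) : Nat.card R = 16 := by
  rw [B.eq, quad, Subgroup.card_map_of_injective B.inj,
    Nat.card_congr (Subgroup.prodEquiv _ _).toEquiv, Nat.card_prod, card_four, card_four]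

theorem card_normalizerIn (B : Box ι T i j R) :
    Nat.card (normalizerIn (T : Subgroup G) R) =
      Nat.card (Subgroup.normalizer
        (((four 0).prod (four 0) : Subgroup (DD a × DD b)) : Set (DD a × DD b))) := by
  let σ : DD a × DD b ≃* DD a × DD b := MulEquiv.prodCongr (shift i) (shift j)
  have h1 : ((four 0).prod (four 0) : Subgroup (DD a × DD b)).map σ.toMonoidHom =
      (four i).prod (four j) := by
    rw [← zero_add i, ← zero_add j, ← map_four_shift, ← map_four_shift]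
    ext ⟨x, y⟩
    constructor
    · rintro ⟨⟨u, v⟩, ⟨hu, hv⟩, e⟩; cases e; exact ⟨⟨u, hu, rfl⟩, ⟨v, hv, rfl⟩⟩
    · rintro ⟨⟨u, hu, rfl⟩, ⟨v, hv, rfl⟩⟩; exact ⟨(u, v), ⟨hu, hv⟩, rfl⟩
  have h2 : normalizerIn (T : Subgroup G) R =
      (Subgroup.normalizer (((four i).prod (four j) : Subgroup _) : Set (DD a × DD b))).map ι := by
    ext g
    rw [Subgroup.mem_map]
    constructor
    · rintro ⟨hgT, hg⟩
      obtain ⟨p, rfl⟩ := B.exists_rep hgT
      refine ⟨p, Subgroup.mem_normalizer_iff.2 fun q => ?_, rfl⟩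
      have := Subgroup.mem_normalizer_iff.1 hg (ι q)
      rw [← map_inv, ← map_mul, ← map_mul] at this
      exact (B.mem_iff.symm.trans (this.trans B.mem_iff))
    · rintro ⟨p, hp, rfl⟩
      refine ⟨B.mem p, Subgroup.mem_normalizer_iff.2 fun x => ⟨fun hx => ?_, fun hx => ?_⟩⟩
      · obtain ⟨q, hq, rfl⟩ := B.eq ▸ hx
        rw [← map_inv, ← map_mul, ← map_mul]
        exact B.mem_iff.2 ((Subgroup.mem_normalizer_iff.1 hp q).1 hq)
      · obtain ⟨q, hq, e⟩ := B.eq ▸ hx
        have : x = ι (p⁻¹ * q * p) := by rw [map_mul, map_mul, e, map_inv]; group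
        rw [this]
        refine B.mem_iff.2 ((Subgroup.mem_normalizer_iff.1 hp _).2 ?_)
        rwa [show p * (p⁻¹ * q * p) * p⁻¹ = q by group]
  rw [h2, Subgroup.card_map_of_injective B.inj, ← h1,
    ← Subgroup.map_normalizer_eq_of_bijective _ σ.bijective,
    Subgroup.card_map_of_injective σ.injective]

theorem isSylowIn_normalizer (B : Box ι T i j R) :
    IsSylowIn 2 (normalizerIn (T : Subgroup G) R) (Subgroup.normalizer (R : Set G)) := by
  refine (fullyNormalized_group_iff T B.le).1 ⟨B.le, fun Q hQ => ?_⟩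
  obtain ⟨-, hQT, g, rfl⟩ := exists_conj_of_isConj hQ
  obtain ⟨l, m, B'⟩ := B.toSetting.box_of_elementary hQT
    (by rw [Subgroup.card_map_of_injective (MulAut.conj g).injective, B.card]) (by
      rintro _ ⟨x, hx, rfl⟩
      rw [← map_mul, show x * x = 1 from congrArg Subtype.val (B.sq ⟨x, hx⟩), map_one])
  rw [B'.card_normalizerIn, B.card_normalizerIn]

theorem mem_normalizer (B : Box ι T i j R) (ha : 1 ≤ a) :
    ι (r (quarter a), 1) ∈ normalizerIn (T : Subgroup G) R := by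
  refine mem_normalizerIn_of_conj (B.mem _) fun x hx => ?_
  obtain ⟨v, w, hv, hw, e : x = _⟩ := B.exists_eq ⟨x, hx⟩
  rw [e, ← map_inv, ← map_mul, ← map_mul]
  exact B.mem_iff.2 ⟨quarter_conj_four ha hv, by simpa using hw⟩

/-- The transvection of the first factor. -/
def x (B : Box ι T i j R) (ha : 1 ≤ a) : MulAut R :=
  normConj (T : Subgroup G) R ⟨_, B.mem_normalizer ha⟩

theorem x_apply (B : Box ι T i j R) (ha : 1 ≤ a) (q : R) {v : DD a} {w : DD b}
    (e : (q : G) = ι (v, w)) :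
    ((B.x ha q : R) : G) = ι (r (quarter a) * v * (r (quarter a))⁻¹, w) := by
  show ι (r (quarter a), 1) * (q : G) * (ι (r (quarter a), 1))⁻¹ = _
  rw [e, ← map_inv, ← map_mul, ← map_mul]
  simp

theorem x_mem (B : Box ι T i j R) (ha : 1 ≤ a) : B.x ha ∈ autInducedBy (T : Subgroup G) R :=
  range_normConj (T : Subgroup G) R ▸ ⟨_, rfl⟩

theorem aut_sylow_cases (B : Box ι T i j R) {α : MulAut R}
    (hα : α ∈ autInducedBy (T : Subgroup G) R) :
    α = 1 ∨ (∃ ha, α = B.x ha) ∨ (∃ hb, α = B.swap.x hb) ∨ ∃ ha hb, α = B.x ha * B.swap.x hb := by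
  obtain ⟨g, hg, hα⟩ := mem_autInducedBy_iff.1 hα
  obtain ⟨⟨d, d'⟩, rfl⟩ := B.exists_rep hg
  have hform : ∀ v w, (hv : v ∈ four i) → (hw : w ∈ four j) →
      ((α (B.el v w hv hw) : R) : G) = ι (d * v * d⁻¹, d' * w * d'⁻¹) := by
    intro v w hv hw
    rw [hα]; show ι (d, d') * ι (v, w) * (ι (d, d'))⁻¹ = _
    rw [← map_inv, ← map_mul, ← map_mul]; rfl
  have h1 : ∀ v ∈ four i, d * v * d⁻¹ ∈ four i := fun v hv =>
    (B.mem_iff.1 ((hform v 1 hv (one_mem _)) ▸ (α _).2)).1
  have h2 : ∀ w ∈ four j, d' * w * d'⁻¹ ∈ four j := fun w hw =>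
    (B.mem_iff.1 ((hform 1 w (one_mem _) hw) ▸ (α _).2)).2
  have hx : ∀ β : MulAut R, (∀ v w, (hv : v ∈ four i) → (hw : w ∈ four j) →
      ((β (B.el v w hv hw) : R) : G) = ι (d * v * d⁻¹, d' * w * d'⁻¹)) → α = β := by
    intro β hβ
    refine MulEquiv.ext fun q => ?_
    obtain ⟨v, w, hv, hw, e⟩ := B.exists_eq q
    obtain rfl : q = B.el v w hv hw := Subtype.ext e
    exact Subtype.ext ((hform v w hv hw).trans (hβ v w hv hw).symm)
  have hy : ∀ (hb : 1 ≤ b) (q : R) (v : DD a) (w : DD b), (q : G) = ι (v, w) →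
      ((B.swap.x hb q : R) : G) = ι (v, r (quarter b) * w * (r (quarter b))⁻¹) :=
    fun hb q v w e => B.swap.x_apply hb q (v := w) (w := v) e
  rcases four_action d h1 with e1 | ⟨ha, e1⟩ <;> rcases four_action d' h2 with e2 | ⟨hb, e2⟩
  · exact Or.inl (hx 1 fun v w hv hw => by rw [e1 v hv, e2 w hw]; rfl)
  · exact Or.inr (Or.inr (Or.inl ⟨hb, hx _ fun v w hv hw => by
      rw [e1 v hv, e2 w hw]; exact hy hb _ v w rfl⟩))
  · exact Or.inr (Or.inl ⟨ha, hx _ fun v w hv hw => by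
      rw [e1 v hv, e2 w hw]; exact B.x_apply ha _ rfl⟩)
  · exact Or.inr (Or.inr (Or.inr ⟨ha, hb, hx _ fun v w hv hw => by
      rw [e1 v hv, e2 w hw]
      exact B.x_apply ha _ (hy hb _ v w rfl)⟩))

/-- The centre of the transvection. -/
def z (B : Box ι T i j R) : R := B.el (zz a) 1 (zz_mem_four i) (one_mem _)

/-- The axis. -/
def ax (_ : Box ι T i j R) : Subgroup R := (((rot a).prod ⊤).map ι).subgroupOf R

theorem mem_ax (B : Box ι T i j R) {q : R} {v : DD a} {w : DD b} (e : (q : G) = ι (v, w)) :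
    q ∈ B.ax ↔ v ∈ rot a := by
  rw [ax, Subgroup.mem_subgroupOf, e, Subgroup.mem_map_iff_mem B.inj]
  exact and_iff_left trivial

theorem transv (B : Box ι T i j R) (ha : 1 ≤ a) : Lin.Transv (B.x ha) B.z B.ax where
  ne h := zz_ne_one a (congrArg Prod.fst (B.inj ((congrArg Subtype.val h).trans (map_one ι).symm)))
  mem := (B.mem_ax rfl).2 ⟨mid a, rfl⟩
  fix q hq := by
    obtain ⟨v, w, hv, hw, e⟩ := B.exists_eq q
    refine Subtype.ext ?_
    rw [B.x_apply ha q e, e]
    rcases four_rot hv ((B.mem_ax e).1 hq) with rfl | rfl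
    · simp
    · rw [zz_comm, mul_inv_cancel_right]
  move q hq := by
    obtain ⟨v, w, hv, hw, e⟩ := B.exists_eq q
    refine Subtype.ext ?_
    rw [B.x_apply ha q e, Subgroup.coe_mul, e]
    show _ = ι (v, w) * ι (zz a, 1)
    rw [← map_mul, Prod.mk_mul_mk, mul_one]
    have hr : v ∉ rot a := fun h => hq ((B.mem_ax e).2 h)
    cases v with
    | r l => exact absurd ⟨l, rfl⟩ hr
    | sr l => rw [quarter_conj_sr ha]
  index := by
    refine Subgroup.index_eq_two_iff.2 ⟨B.el (sr i) 1 (sr_mem_four i) (one_mem _), fun q => ?_⟩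
    obtain ⟨v, w, hv, hw, e⟩ := B.exists_eq q
    have e' : ((q * B.el (sr i) 1 (sr_mem_four i) (one_mem _) : R) : G) = ι (v * sr i, w * 1) := by
      rw [Subgroup.coe_mul, e]; exact (map_mul ι (v, w) (sr i, 1)).symm
    rw [B.mem_ax e, B.mem_ax e', mul_mem_rot_iff]
    have := sr_not_mem_rot i
    rw [xor_iff_iff_not]
    tauto

end Box

/-- A subgroup containing the Sylow part and the odd elements contains all automorphisms. -/
theorem autGroup_le {M : Type*} [Group M] [Finite M] {A B : Subgroup M} (hB : IsSylowIn 2 B A)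
    (K : Subgroup M) (h1 : B ≤ K) (h2 : ∀ α ∈ A, Odd (orderOf α) → α ∈ K) : A ≤ K := by
  obtain ⟨R, hR⟩ := (isSylowIn_iff_exists hB.1).1 hB
  have := eq_top_of_sylow_odd (K.subgroupOf A) R (hR ▸ Subgroup.comap_mono h1)
    fun h hh => h2 h h.2 (by rwa [Subgroup.orderOf_coe])
  exact Subgroup.subgroupOf_eq_top.1 this

/-- Two conjugate central elements of the Sylow subgroup are conjugate in its normaliser. -/
theorem exists_normalizer_conj (T : Sylow 2 G) {z z' g : G}
    (hz : ∀ t ∈ (T : Subgroup G), t * z = z * t) (hz' : ∀ t ∈ (T : Subgroup G), t * z' = z' * t)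
    (hg : g * z * g⁻¹ = z') :
    ∃ n ∈ normalizerIn ⊤ (T : Subgroup G), n * z * n⁻¹ = z' := by
  have hC : (T : Subgroup G) ≤ Subgroup.centralizer {z'} := fun t ht =>
    Subgroup.mem_centralizer_singleton_iff.2 (hz' t ht)
  have hsyl := (isSylowIn_top T).mono hC le_top
  have hle : (T : Subgroup G).map (MulAut.conj g).toMonoidHom ≤ Subgroup.centralizer {z'} := by
    rintro _ ⟨t, ht, rfl⟩
    refine Subgroup.mem_centralizer_singleton_iff.2 ?_
    show g * t * g⁻¹ * z' = z' * (g * t * g⁻¹)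
    rw [← hg, show g * t * g⁻¹ * (g * z * g⁻¹) = g * (t * z) * g⁻¹ by group, hz t ht]
    group
  obtain ⟨c, hc, hcT⟩ := hsyl.exists_conj_le (T.isPGroup'.map _) hle
  refine ⟨c * g, mem_normalizerIn_of_conj trivial fun t ht => ?_, ?_⟩
  · have := hcT _ ⟨t, ht, rfl⟩
    rwa [show c * g * t * (c * g)⁻¹ = c * (MulAut.conj g t) * c⁻¹ by simp [mul_assoc]]
  · rw [show c * g * z * (c * g)⁻¹ = c * (g * z * g⁻¹) * c⁻¹ by group, hg,
      Subgroup.mem_centralizer_singleton_iff.1 hc, mul_inv_cancel_right]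

theorem Setting.odd_trivial' (S : Setting ι T) (ha : 1 ≤ a) (hb : 1 ≤ b)
    {α : MulAut (T : Subgroup G)} (hα : Odd (orderOf α)) : α = 1 := by
  let e : DD a × DD b ≃* (T : Subgroup G) :=
    (MonoidHom.ofInjective S.inj).trans (MulEquiv.subgroupCongr S.range)
  have h := odd_trivial ha hb (α := MulAut.congr e.symm α) (by rwa [MulEquiv.orderOf_eq])
  exact (MulAut.congr e.symm).injective (h.trans (map_one _).symm)

/-- A central pair of elements. -/
def Cent (p : DD a × DD b) : Prop := (p.1 = 1 ∨ p.1 = zz a) ∧ (p.2 = 1 ∨ p.2 = zz b)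

theorem Cent.comm {p : DD a × DD b} (h : Cent p) (q : DD a × DD b) : q * p = p * q := by
  obtain ⟨h1 | h1, h2 | h2⟩ := h <;> exact Prod.ext (by simp [h1, zz_comm]) (by simp [h2, zz_comm])

theorem Setting.not_conj (S : Setting ι T) (ha : 1 ≤ a) (hb : 1 ≤ b) {p q : DD a × DD b}
    (hp : Cent p) (hq : Cent q) {g : G} (hg : g * ι p * g⁻¹ = ι q) : p = q := by
  have hcen : ∀ r, Cent r → ∀ t ∈ (T : Subgroup G), t * ι r = ι r * t := fun r hr t ht => by
    obtain ⟨u, rfl⟩ := S.exists_rep ht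
    rw [← map_mul, ← map_mul, hr.comm u]
  obtain ⟨n, hn, hnp⟩ := exists_normalizer_conj T (hcen p hp) (hcen q hq) hg
  have hsyl : IsSylowIn 2 (normalizerIn (T : Subgroup G) (T : Subgroup G))
      (Subgroup.normalizer ((T : Subgroup G) : Set G)) :=
    ⟨inf_le_right, T.isPGroup'.to_inf_left, fun C hC _ hp' => (T.is_maximal' hp'
      ((le_inf le_rfl Subgroup.le_normalizer).trans hC)).trans
        (le_antisymm (le_inf le_rfl Subgroup.le_normalizer) inf_le_left)⟩
  have := finite_mulAut (le_refl (T : Subgroup G))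
  have hall := autGroup_le (sylow_autInducedBy T hsyl) (autInducedBy (T : Subgroup G) (T : Subgroup G))
    le_rfl fun α _ hα => S.odd_trivial' ha hb hα ▸ one_mem _
  have hmem : normConj ⊤ (T : Subgroup G) ⟨n, hn⟩ ∈ autInducedBy ⊤ (T : Subgroup G) :=
    range_normConj ⊤ (T : Subgroup G) ▸ ⟨_, rfl⟩
  obtain ⟨t, ht, hte⟩ := mem_autInducedBy_iff.1 (hall hmem)
  have h2 : n * ι p * n⁻¹ = t * ι p * t⁻¹ := hte ⟨ι p, S.mem p⟩
  rw [hnp, hcen p hp t ht, mul_inv_cancel_right] at h2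
  exact (S.inj h2).symm

/-- The automorphisms of odd order induced by the group. -/
def oddAut (R : Subgroup G) : Subgroup (MulAut R) :=
  Subgroup.closure {α | α ∈ autInducedBy ⊤ R ∧ Odd (orderOf α)}

/-- The odd part is a normal complement. -/
structure Good (T : Subgroup G) (R : Subgroup G) : Prop where
  odd : Odd (Nat.card (oddAut R))
  norm : ∀ h ∈ autInducedBy ⊤ R, ∀ o ∈ oddAut R, h * o * h⁻¹ ∈ oddAut R
  decomp : ∀ h ∈ autInducedBy ⊤ R, ∃ o ∈ oddAut R, ∃ p ∈ autInducedBy T R, h = o * p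

theorem oddAut_le (R : Subgroup G) : oddAut R ≤ autInducedBy ⊤ R :=
  (Subgroup.closure_le _).2 fun _ h => h.1

theorem good_of_burnside {R : Subgroup G} (hR : R ≤ T)
    (hsyl : IsSylowIn 2 (normalizerIn (T : Subgroup G) R) (Subgroup.normalizer (R : Set G)))
    (hN : ∀ h ∈ autInducedBy ⊤ R, (∀ p ∈ autInducedBy (T : Subgroup G) R,
      h * p * h⁻¹ ∈ autInducedBy (T : Subgroup G) R) →
        ∀ p ∈ autInducedBy (T : Subgroup G) R, h * p = p * h) : Good (T : Subgroup G) R := by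
  have := finite_mulAut hR
  have hS := sylow_autInducedBy T hsyl
  set H := autInducedBy ⊤ R
  obtain ⟨P, hP⟩ := (isSylowIn_iff_exists hS.1).1 hS
  have hNC : Subgroup.normalizer (P : Set H) ≤ Subgroup.centralizer (P : Set H) := by
    intro n hn
    have hmem : ∀ q : H, q ∈ (P : Subgroup H) ↔ (q : MulAut R) ∈ autInducedBy (T : Subgroup G) R :=
      fun q => by rw [hP, Subgroup.mem_subgroupOf]
    refine Subgroup.mem_centralizer_iff.2 fun q hq => Subtype.ext ?_
    refine (hN n n.2 (fun p hp => ?_) q ((hmem q).1 hq)).symm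
    exact (hmem (n * ⟨p, hS.1 hp⟩ * n⁻¹)).1
      ((Subgroup.mem_normalizer_iff.1 hn ⟨p, hS.1 hp⟩).1 ((hmem _).2 hp))
  obtain ⟨K, hKn, hcomp, hKodd⟩ : ∃ K : Subgroup H,
      K.Normal ∧ K.IsComplement' P ∧ Odd (Nat.card K) :=
    ⟨_, MonoidHom.normal_ker _, MonoidHom.ker_transferSylow_isComplement' P hNC,
      Nat.not_even_iff_odd.1 fun h => MonoidHom.not_dvd_card_ker_transferSylow P hNC h.two_dvd⟩
  clear hNC hN
  have heq : oddAut R = K.map H.subtype := by
    refine le_antisymm ((Subgroup.closure_le _).2 fun α hα => ⟨⟨α, hα.1⟩, ?_, rfl⟩) ?_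
    · obtain ⟨k, hk⟩ := P.isPGroup'.exists_card_eq
      have h1 : (⟨α, hα.1⟩ : H) ^ (2 ^ k) ∈ K := by
        have := K.pow_index_mem (⟨α, hα.1⟩ : H)
        rwa [hcomp.symm.index_eq_card, hk] at this
      have hc : Nat.Coprime (2 ^ k) (orderOf (⟨α, hα.1⟩ : H)) := by
        rw [Subgroup.orderOf_mk]; exact Nat.Coprime.pow_left k hα.2.coprime_two_left
      obtain ⟨c, hc'⟩ := exists_pow_eq_self_of_coprime hc
      exact hc' ▸ pow_mem h1 c
    · rintro _ ⟨o, ho, rfl⟩
      refine Subgroup.subset_closure ⟨o.2, ?_⟩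
      show Odd (orderOf (o : MulAut R))
      rw [Subgroup.orderOf_coe]
      exact hKodd.of_dvd_nat (by
        rw [← show ((⟨o, ho⟩ : K) : H) = o from rfl, Subgroup.orderOf_coe]; exact orderOf_dvd_natCard _)
  refine ⟨?_, fun h hh o ho => ?_, fun h hh => ?_⟩
  · rw [heq, Subgroup.card_map_of_injective H.subtype_injective]; exact hKodd
  · rw [heq] at ho ⊢
    obtain ⟨o', ho', rfl⟩ := ho
    exact ⟨⟨h, hh⟩ * o' * ⟨h, hh⟩⁻¹, hKn.conj_mem _ ho' _, rfl⟩
  · obtain ⟨⟨o, p⟩, e⟩ := hcomp.2 ⟨h, hh⟩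
    refine ⟨o.1, heq ▸ ⟨o.1, o.2, rfl⟩, p.1, ?_, (congrArg Subtype.val e).symm⟩
    exact Subgroup.mem_subgroupOf.1 (le_of_eq hP p.2)

namespace Box

theorem transfer_conj (B : Box ι T i j R) {h : MulAut R} (hh : h ∈ autInducedBy ⊤ R)
    (q : R) : ∃ g : G, ((h q : R) : G) = g * q * g⁻¹ := by
  obtain ⟨g, -, hg⟩ := mem_autInducedBy_iff.1 hh
  exact ⟨g, hg q⟩

theorem x_ne_one (B : Box ι T i j R) (ha : 1 ≤ a) : B.x ha ≠ 1 := fun h => by
  obtain ⟨q, hq⟩ := (B.transv ha).exists_not_mem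
  exact hq ((B.transv ha).mem_iff.2 (by rw [h]; rfl))

theorem swap_z (B : Box ι T i j R) : B.swap.z = B.el 1 (zz b) (one_mem _) (zz_mem_four j) :=
  Subtype.ext (swp_apply ι _ _)

theorem z_ne (B : Box ι T i j R) : B.z ≠ B.swap.z := fun h => by
  rw [B.swap_z] at h
  exact zz_ne_one a (congrArg Prod.fst (B.inj (congrArg Subtype.val h)))

theorem z_mem_ax (B : Box ι T i j R) : B.swap.z ∈ B.ax := by
  rw [B.swap_z]; exact (B.mem_ax rfl).2 (one_mem _)

theorem comm_xy (B : Box ι T i j R) (ha : 1 ≤ a) (hb : 1 ≤ b) :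
    B.x ha * B.swap.x hb = B.swap.x hb * B.x ha := by
  refine MulEquiv.ext fun q => Subtype.ext ?_
  obtain ⟨v, w, -, -, e⟩ := B.exists_eq q
  have h1 := B.swap.x_apply hb q (v := w) (w := v) e
  have h2 := B.x_apply ha q e
  exact (B.x_apply ha _ h1).trans (B.swap.x_apply hb _ h2).symm

theorem xy_not_transv (B : Box ι T i j R) (ha : 1 ≤ a) (hb : 1 ≤ b) {z' : R} {A : Subgroup R} :
    ¬ Lin.Transv (B.x ha * B.swap.x hb) z' A := by
  intro Tr
  have key : ∀ (v : DD a) (w : DD b) (hv : v ∈ four i) (hw : w ∈ four j),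
      (((B.x ha * B.swap.x hb) (B.el v w hv hw) : R) : G) =
        ι (r (quarter a) * v * (r (quarter a))⁻¹, r (quarter b) * w * (r (quarter b))⁻¹) :=
    fun v w hv hw => B.x_apply ha _ (B.swap.x_apply hb _ (v := w) (w := v) rfl)
  have h1 := key (sr i) 1 (sr_mem_four i) (one_mem _)
  have h2 := key (sr i) (sr j) (sr_mem_four i) (sr_mem_four j)
  rw [quarter_conj_sr ha, mul_one, mul_inv_cancel] at h1
  rw [quarter_conj_sr ha, quarter_conj_sr hb] at h2
  have ha' : sr i * zz a ≠ sr i := fun e => zz_ne_one a (mul_eq_left.1 e)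
  rcases Tr.step (B.el (sr i) 1 (sr_mem_four i) (one_mem _)) with e | e
  · exact ha' (congrArg Prod.fst (B.inj (h1.symm.trans (congrArg Subtype.val e))))
  rcases Tr.step (B.el (sr i) (sr j) (sr_mem_four i) (sr_mem_four j)) with e' | e'
  · exact ha' (congrArg Prod.fst (B.inj (h2.symm.trans (congrArg Subtype.val e'))))
  have k1 : z' = B.el (zz a) 1 (zz_mem_four i) (one_mem _) := Subtype.ext (by
    have := h1.symm.trans (congrArg Subtype.val e)
    rw [show ι (sr i * zz a, 1) = ι (sr i, 1) * ι (zz a, 1) by rw [← map_mul]; simp] at this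
    exact (mul_left_cancel this).symm)
  have k2 : z' = B.el (zz a) (zz b) (zz_mem_four i) (zz_mem_four j) := Subtype.ext (by
    have := h2.symm.trans (congrArg Subtype.val e')
    rw [show ι (sr i * zz a, sr j * zz b) = ι (sr i, sr j) * ι (zz a, zz b) by rw [← map_mul]; simp]
      at this
    exact (mul_left_cancel this).symm)
  exact zz_ne_one b (congrArg Prod.snd (B.inj (congrArg Subtype.val (k2.symm.trans k1))))

theorem comm_of_normalize (B : Box ι T i j R) (ha : 1 ≤ a) {h : MulAut R}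
    (hh : h ∈ autInducedBy ⊤ R)
    (hn : h * B.x ha * h⁻¹ ∈ autInducedBy (T : Subgroup G) R) : h * B.x ha = B.x ha * h := by
  rw [← mul_inv_eq_iff_eq_mul]
  have Tr := (B.transv ha).conj h
  rcases B.aut_sylow_cases hn with e | ⟨_, e⟩ | ⟨hb, e⟩ | ⟨_, hb, e⟩
  · exact absurd (conj_eq_one_iff.1 e) (B.x_ne_one ha)
  · exact e
  · exfalso
    rw [e] at Tr
    obtain ⟨g, hg⟩ := B.transfer_conj hh B.z
    rw [← (Tr.unique (B.swap.transv hb)).1.symm, B.swap_z] at hg
    exact zz_ne_one a (congrArg Prod.fst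
      (B.toSetting.not_conj ha hb (p := (zz a, 1)) (q := (1, zz b))
        ⟨Or.inr rfl, Or.inl rfl⟩ ⟨Or.inl rfl, Or.inr rfl⟩ hg.symm))
  · exact absurd (e ▸ Tr) (B.xy_not_transv ha hb)

theorem good (B : Box ι T i j R) : Good (T : Subgroup G) R := by
  refine good_of_burnside B.le B.isSylowIn_normalizer fun h hh hn p hp => ?_
  rcases B.aut_sylow_cases hp with rfl | ⟨ha, rfl⟩ | ⟨hb, rfl⟩ | ⟨ha, hb, rfl⟩
  · simp
  · exact B.comm_of_normalize ha hh (hn _ hp)
  · exact B.swap.comm_of_normalize hb hh (hn _ hp)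
  · have e1 := B.comm_of_normalize ha hh (hn _ (B.x_mem ha))
    have e2 := B.swap.comm_of_normalize hb hh (hn _ (B.swap.x_mem hb))
    exact Commute.mul_right e1 e2

theorem base (B : Box ι T i j R) (ha : 1 ≤ a) : Lin.Base (B.x ha) B.z B.ax (oddAut R) :=
  ⟨B.sq, B.card, B.transv ha, B.good.odd, fun o ho =>
    B.good.norm _ ((sylow_autInducedBy T B.isSylowIn_normalizer).1 (B.x_mem ha)) o ho⟩

end Box

end Cfsg.Agent.DihedralPair
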