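import Mathlib

/-
The dihedral group of order `2 ^ (n + 2)` (owner: helper76).

* `mid`, `quarter`, `par` : the residue of order two, the one of order four, parity
* `four` : the four groups through a reflection; `rot` : the rotations
* `abelian_cases` : a self-centralising abelian subgroup is the group, the rotations or a four group
* `shift` : the automorphisms moving the reflections
-/

set_option autoImplicit false

namespace Cfsg.Agent.DihedralPair

open DihedralGroup

/-- The dihedral group of order `2 ^ (n + 2)`. -/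
abbrev DD (n : ℕ) : Type := DihedralGroup (2 ^ (n + 1))

variable {n : ℕ}

/-- The residue of additive order two. -/
def mid (n : ℕ) : ZMod (2 ^ (n + 1)) := ((2 ^ n : ℕ) : ZMod (2 ^ (n + 1)))

/-- The residue of additive order four, for `1 ≤ n`. -/
def quarter (n : ℕ) : ZMod (2 ^ (n + 1)) := ((2 ^ (n - 1) : ℕ) : ZMod (2 ^ (n + 1)))

theorem two_quarter (h : 1 ≤ n) : quarter n + quarter n = mid n := by
  obtain ⟨k, rfl⟩ := Nat.exists_eq_add_of_le' h
  rw [quarter, mid, ← Nat.cast_add, ← two_mul, ← pow_succ', Nat.add_sub_cancel]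

theorem two_mid (n : ℕ) : mid n + mid n = 0 := by
  rw [mid, ← Nat.cast_add, ← two_mul, ← pow_succ', ZMod.natCast_self]

theorem mid_ne_zero (n : ℕ) : mid n ≠ 0 := by
  rw [mid, Ne, ZMod.natCast_eq_zero_iff]
  intro h
  have := Nat.le_of_dvd (Nat.two_pow_pos n) h
  have := Nat.two_pow_pos n
  rw [pow_succ] at *
  omega

theorem neg_mid (n : ℕ) : -mid n = mid n := by
  rw [neg_eq_iff_add_eq_zero, two_mid]

theorem add_self_eq_zero_iff {j : ZMod (2 ^ (n + 1))} : j + j = 0 ↔ j = 0 ∨ j = mid n := by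
  constructor
  · intro h
    obtain ⟨k, hk, rfl⟩ : ∃ k < 2 ^ (n + 1), ((k : ℕ) : ZMod (2 ^ (n + 1))) = j :=
      ⟨j.val, j.val_lt, ZMod.natCast_zmod_val j⟩
    rw [← Nat.cast_add, ZMod.natCast_eq_zero_iff] at h
    obtain ⟨c, hc⟩ := h
    rw [pow_succ] at hc hk
    have hc2 : c < 2 := by
      by_contra hcon
      have : 2 ^ n * 2 * 2 ≤ 2 ^ n * 2 * c := Nat.mul_le_mul_left _ (not_lt.1 hcon)
      omega
    interval_cases c
    · left; rw [show k = 0 by omega, Nat.cast_zero]
    · right; rw [mid, show k = 2 ^ n by omega]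
  · rintro (rfl | rfl)
    · rw [add_zero]
    · exact two_mid n

theorem eq_mid_or_zero_of_neg {j : ZMod (2 ^ (n + 1))} (h : -j = j) : j = 0 ∨ j = mid n :=
  add_self_eq_zero_iff.1 (by rw [← neg_eq_iff_add_eq_zero]; exact h)

/-- Parity. -/
def par : ZMod (2 ^ (n + 1)) →+* ZMod 2 := ZMod.castHom (dvd_pow_self 2 (Nat.succ_ne_zero n)) _

theorem par_mid (h : 1 ≤ n) : par (mid n) = 0 := by
  obtain ⟨k, rfl⟩ := Nat.exists_eq_add_of_le' h
  rw [mid, map_natCast, pow_succ, Nat.cast_mul]
  exact mul_eq_zero_of_right _ (by decide)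

theorem exists_double {j : ZMod (2 ^ (n + 1))} (h : par j = 0) : ∃ i, j = i + i := by
  rw [← ZMod.natCast_zmod_val j, map_natCast, ZMod.natCast_eq_zero_iff] at h
  obtain ⟨i, hi⟩ := h
  exact ⟨(i : ZMod (2 ^ (n + 1))), by rw [← ZMod.natCast_zmod_val j, hi, two_mul, Nat.cast_add]⟩

theorem zmod_two_self (x : ZMod 2) : x + x = 0 := by revert x; decide

theorem zmod_two_sub (x y : ZMod 2) : x - y = x + y := by revert x y; decide

theorem par_double (i : ZMod (2 ^ (n + 1))) : par (i + i) = 0 := by
  rw [map_add, zmod_two_self]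

theorem par_neg (i : ZMod (2 ^ (n + 1))) : par (-i) = par i := by
  rw [map_neg]; generalize par i = x; revert x; decide

/-- The central involution. -/
def zz (n : ℕ) : DD n := r (mid n)

theorem zz_ne_one (n : ℕ) : zz n ≠ 1 := fun h =>
  mid_ne_zero n (by rw [zz, one_def] at h; exact r.inj h)

theorem zz_mul_self (n : ℕ) : zz n * zz n = 1 := by rw [zz, r_mul_r, two_mid, r_zero]

theorem zz_comm (d : DD n) : d * zz n = zz n * d := by
  cases d with
  | r i => rw [zz, r_mul_r, r_mul_r, add_comm i]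
  | sr i => rw [zz, sr_mul_r, r_mul_sr, sub_eq_add_neg, neg_mid]

/-- The rotations. -/
def rot (n : ℕ) : Subgroup (DD n) where
  carrier := {x | ∃ j, x = r j}
  mul_mem' := by rintro _ _ ⟨i, rfl⟩ ⟨j, rfl⟩; exact ⟨i + j, r_mul_r i j⟩
  one_mem' := ⟨0, r_zero.symm⟩
  inv_mem' := by rintro _ ⟨i, rfl⟩; exact ⟨-i, inv_r i⟩

theorem mem_rot {x : DD n} : x ∈ rot n ↔ ∃ j, x = r j := Iff.rfl

theorem sr_not_mem_rot (i : ZMod (2 ^ (n + 1))) : (sr i : DD n) ∉ rot n := by
  rintro ⟨j, h⟩; simp at h

/-- The four group through the reflection `sr i`. -/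
def four (i : ZMod (2 ^ (n + 1))) : Subgroup (DD n) := Subgroup.centralizer {sr i}

theorem mem_four {i : ZMod (2 ^ (n + 1))} {x : DD n} :
    x ∈ four i ↔ x = 1 ∨ x = zz n ∨ x = sr i ∨ x = sr (i + mid n) := by
  rw [four, Subgroup.mem_centralizer_singleton_iff]
  constructor
  · intro h
    cases x with
    | r j =>
      rw [sr_mul_r, r_mul_sr, sr.injEq, sub_eq_add_neg, add_right_inj] at h
      rcases eq_mid_or_zero_of_neg (j := j) (by first | exact h | exact h.symm) with rfl | rfl
      · exact Or.inl r_zero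
      · exact Or.inr (Or.inl rfl)
    | sr j =>
      rw [sr_mul_sr, sr_mul_sr, r.injEq] at h
      rcases add_self_eq_zero_iff.1 (show (j - i) + (j - i) = 0 by linear_combination -h) with e | e
      · exact Or.inr (Or.inr (Or.inl (by rw [sub_eq_zero.1 e])))
      · exact Or.inr (Or.inr (Or.inr (by rw [← e, add_sub_cancel])))
  · rintro (rfl | rfl | rfl | rfl)
    · simp
    · exact (zz_comm _).symm
    · rfl
    · rw [sr_mul_sr, sr_mul_sr, add_sub_cancel_left, sub_add_cancel_left, neg_mid]

theorem sr_mem_four (i : ZMod (2 ^ (n + 1))) : (sr i : DD n) ∈ four i :=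
  mem_four.2 (Or.inr (Or.inr (Or.inl rfl)))

theorem zz_mem_four (i : ZMod (2 ^ (n + 1))) : zz n ∈ four i := mem_four.2 (Or.inr (Or.inl rfl))

theorem four_mul_self {i : ZMod (2 ^ (n + 1))} {x : DD n} (hx : x ∈ four i) : x * x = 1 := by
  rcases mem_four.1 hx with rfl | rfl | rfl | rfl
  · exact mul_one 1
  · exact zz_mul_self n
  · exact sr_mul_self _
  · exact sr_mul_self _

theorem four_comm {i : ZMod (2 ^ (n + 1))} {x y : DD n} (hx : x ∈ four i) (hy : y ∈ four i) :
    x * y = y * x := by
  have h := four_mul_self (mul_mem hx hy)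
  calc x * y = (x * y) * (x * y) * ((x * y)⁻¹) := by group
    _ = (x * y)⁻¹ := by rw [h, one_mul]
    _ = y⁻¹ * x⁻¹ := by group
    _ = y * x := by rw [inv_eq_of_mul_eq_one_right (four_mul_self hx),
        inv_eq_of_mul_eq_one_right (four_mul_self hy)]

theorem four_add_mid (i : ZMod (2 ^ (n + 1))) : four (i + mid n) = four i := by
  ext x
  rw [mem_four, mem_four, add_assoc, two_mid, add_zero]
  tauto

theorem four_eq_of_mem {i j : ZMod (2 ^ (n + 1))} (h : (sr j : DD n) ∈ four i) : four j = four i := by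
  rcases mem_four.1 h with e | e | e | e
  · exact absurd ⟨0, e.trans r_zero.symm⟩ (sr_not_mem_rot j)
  · exact absurd ⟨mid n, e⟩ (sr_not_mem_rot j)
  · rw [sr.inj e]
  · rw [sr.inj e, four_add_mid]

theorem card_four (i : ZMod (2 ^ (n + 1))) : Nat.card (four i) = 4 := by
  classical
  have h : (four i : Set (DD n)) = ↑({1, zz n, sr i, sr (i + mid n)} : Finset (DD n)) := by
    ext x; simp [mem_four]
  show Nat.card ↥(four i : Set (DD n)) = 4
  rw [h, Nat.card_coe_set_eq, Set.ncard_coe_finset]
  have := mid_ne_zero n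
  simp [zz, DihedralGroup.one_def, -r_zero, this, Ne.symm this]

theorem quarter_sq (h : 1 ≤ n) : (r (quarter n) : DD n) * r (quarter n) = zz n := by
  rw [r_mul_r, two_quarter h, zz]

theorem r_quarter_not_comm (h : 1 ≤ n) (j : ZMod (2 ^ (n + 1))) :
    (sr j : DD n) * r (quarter n) ≠ r (quarter n) * sr j := by
  rw [sr_mul_r, r_mul_sr, Ne, sr.injEq]
  intro e
  exact mid_ne_zero n (by linear_combination (e : j + quarter n = j - quarter n) - two_quarter h)

theorem sq_rot {x : DD n} (hx : x * x ≠ 1) : x ∈ rot n := by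
  cases x with
  | r j => exact ⟨j, rfl⟩
  | sr j => exact absurd (sr_mul_self j) hx

theorem sq_of_order_four {x : DD n} (h2 : x * x ≠ 1) (h4 : x * x * (x * x) = 1) :
    x * x = zz n := by
  obtain ⟨j, rfl⟩ := sq_rot h2
  rw [r_mul_r] at h2 h4 ⊢
  rw [r_mul_r, ← r_zero, r.injEq] at h4
  rcases add_self_eq_zero_iff.1 h4 with e | e
  · exact absurd (by rw [e, r_zero]) h2
  · rw [e, zz]

theorem eq_four_or_rot_comm {i : ZMod (2 ^ (n + 1))} (h0 : n = 0) : four i = ⊤ := by
  subst h0
  apply Subgroup.eq_top_of_le_card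
  rw [card_four, DihedralGroup.nat_card]
  norm_num

theorem self_centralizing_cases {E : Subgroup (DD n)} (hE : Subgroup.centralizer (E : Set (DD n)) = E) :
    (∃ i, E = four i) ∨ (1 ≤ n ∧ E = rot n) := by
  have hab : ∀ x ∈ E, ∀ y ∈ E, x * y = y * x := fun x hx y hy =>
    (Subgroup.mem_centralizer_iff.1 (hE.symm ▸ hy : y ∈ Subgroup.centralizer (E : Set (DD n))) x hx)
  by_cases hrot : E ≤ rot n
  · rcases Nat.eq_zero_or_pos n with h0 | hpos
    · exfalso
      subst h0
      have : (sr 0 : DD 0) ∈ E := by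
        rw [← hE, Subgroup.mem_centralizer_iff]
        intro x hx
        have h := eq_four_or_rot_comm (i := (0 : ZMod (2 ^ (0 + 1)))) rfl
        exact four_comm (i := 0) (h ▸ Subgroup.mem_top x) (sr_mem_four 0)
      exact sr_not_mem_rot _ (hrot this)
    · refine Or.inr ⟨hpos, le_antisymm hrot ?_⟩
      rintro _ ⟨j, rfl⟩
      rw [← hE, Subgroup.mem_centralizer_iff]
      intro x hx
      obtain ⟨i, rfl⟩ := hrot hx
      rw [r_mul_r, r_mul_r, add_comm i]
  · obtain ⟨x, hx, hxr⟩ := SetLike.not_le_iff_exists.1 hrot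
    cases x with
    | r j => exact absurd ⟨j, rfl⟩ hxr
    | sr j =>
      have hle : E ≤ four j := fun y hy => Subgroup.mem_centralizer_singleton_iff.2 (hab y hy _ hx)
      refine Or.inl ⟨j, le_antisymm hle fun y hy => ?_⟩
      rw [← hE, Subgroup.mem_centralizer_iff]
      exact fun e he => four_comm (hle he) hy

theorem center_of_nonabelian {E : Subgroup (DD n)} {x y : DD n} (hx : x ∈ E) (hy : y ∈ E)
    (hxy : x * y ≠ y * x) {c : DD n} (hcE : c ∈ E) (hc : ∀ e ∈ E, e * c = c * e) :
    c = 1 ∨ c = zz n := by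
  cases c with
  | sr l =>
    exfalso
    have h : ∀ e ∈ E, e ∈ four l := fun e he => Subgroup.mem_centralizer_singleton_iff.2 (hc e he)
    exact hxy (four_comm (h x hx) (h y hy))
  | r j =>
    by_cases hrot : E ≤ rot n
    · obtain ⟨i, rfl⟩ := hrot hx
      obtain ⟨k, rfl⟩ := hrot hy
      exact absurd (by rw [r_mul_r, r_mul_r, add_comm i]) hxy
    · obtain ⟨w, hw, hwr⟩ := SetLike.not_le_iff_exists.1 hrot
      cases w with
      | r i => exact absurd ⟨i, rfl⟩ hwr
      | sr i =>
        have h := mem_four.1 (Subgroup.mem_centralizer_singleton_iff.2 (hc _ hw).symm :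
          (r j : DD n) ∈ four i)
        rcases h with h | h | h | h
        · exact Or.inl h
        · exact Or.inr h
        · simp [zz] at h
        · simp [zz] at h

/-- The automorphism fixing the rotations and sending `sr j` to `sr (j + i)`. -/
def shift (i : ZMod (2 ^ (n + 1))) : MulAut (DD n) where
  toFun x := match x with
    | r j => r j
    | sr j => sr (j + i)
  invFun x := match x with
    | r j => r j
    | sr j => sr (j - i)
  left_inv x := by cases x <;> simp
  right_inv x := by cases x <;> simp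
  map_mul' x y := by
    cases x <;> cases y <;> simp [r_mul_r, r_mul_sr, sr_mul_r, sr_mul_sr] <;> abel

/-- Conjugation by a rotation on reflections. -/
theorem conj_r_sr (k j : ZMod (2 ^ (n + 1))) :
    (r k : DD n) * sr j * (r k)⁻¹ = sr (j - (k + k)) := by
  rw [inv_r, r_mul_sr, sr_mul_r]; congr 1; abel

theorem conj_par (d : DD n) (j : ZMod (2 ^ (n + 1))) :
    ∃ l, par l = par j ∧ d * sr j * d⁻¹ = sr l := by
  cases d with
  | r k => exact ⟨j - (k + k), by rw [map_sub, par_double, sub_zero], conj_r_sr k j⟩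
  | sr k =>
    refine ⟨k + k - j, by rw [map_sub, par_double, zero_sub, ← map_neg, par_neg], ?_⟩
    rw [inv_sr, sr_mul_sr, r_mul_sr]; congr 1; abel

theorem exists_conj_of_par {i j : ZMod (2 ^ (n + 1))} (h : par i = par j) :
    ∃ d : DD n, d * sr i * d⁻¹ = sr j := by
  obtain ⟨k, hk⟩ := exists_double (n := n) (j := i - j) (by rw [map_sub, h, sub_self])
  exact ⟨r k, by rw [conj_r_sr, ← hk]; congr 1; abel⟩

/-- The sign homomorphism killing the reflections of the other parity. -/
def parHom (ε : ZMod 2) : DD n →* Multiplicative (ZMod 2) where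
  toFun x := Multiplicative.ofAdd (match x with
    | r j => par j
    | sr j => par j + ε + 1)
  map_one' := by rw [one_def]; simp
  map_mul' x y := by
    cases x <;> cases y <;>
      simp only [r_mul_r, r_mul_sr, sr_mul_r, sr_mul_sr, map_add, map_sub, ← ofAdd_add] <;>
      congr 1 <;> rename_i a b <;> generalize par a = u <;> generalize par b = v <;>
      revert ε u v <;> decide

theorem parHom_r (ε : ZMod 2) (j : ZMod (2 ^ (n + 1))) :
    parHom ε (r j : DD n) = Multiplicative.ofAdd (par j) := rfl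

theorem parHom_sr (ε : ZMod 2) (j : ZMod (2 ^ (n + 1))) :
    parHom ε (sr j : DD n) = Multiplicative.ofAdd (par j + ε + 1) := rfl

end Cfsg.Agent.DihedralPair
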