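import Cfsg.Agent.Lib.DihedralPair.Box
import Cfsg.Agent.Lib.Fusion.Essential
import Cfsg.Agent.Lib.FusionChain.Radical

/-
Fusion in a Sylow subgroup that is a product of two dihedral groups (owner: helper76).

* `Setting.alperin` : induction over the possible automorphism groups
* `Setting.box_of_side` : odd automorphisms of `V × D` restricted to a box
* `Setting.fusion_induct` : relations preserved by the boxes are preserved by fusion
-/

set_option autoImplicit false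

namespace Cfsg.Agent.DihedralPair

open DihedralGroup Cfsg Cfsg.FusionSystem Cfsg.Agent.Fusion

variable {G : Type*} [Group G] {a b : ℕ}

theorem oddAut_conj {R R' : Subgroup G} {g : G} (h : R.map (MulAut.conj g).toMonoidHom = R')
    {o : MulAut R'} (ho : o ∈ oddAut R') :
    ∃ o' ∈ oddAut R, ∀ (q : R) (q' : R'), (q' : G) = g * q * g⁻¹ →
      ((o q' : R') : G) = g * (o' q : R) * g⁻¹ := by
  subst h
  set e : R ≃* R.map (MulAut.conj g).toMonoidHom := (MulAut.conj g).subgroupMap R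
  refine ⟨MulAut.congr e.symm o, ?_, fun q q' hq => ?_⟩
  · have : oddAut (R.map (MulAut.conj g).toMonoidHom) ≤
        (oddAut R).comap (MulAut.congr e.symm).toMonoidHom := by
      refine (Subgroup.closure_le _).2 fun α hα => ?_
      refine Subgroup.subset_closure ⟨?_, by
        show Odd (orderOf (MulAut.congr e.symm α)); rw [MulEquiv.orderOf_eq]; exact hα.2⟩
      obtain ⟨k, -, hk⟩ := mem_autInducedBy_iff.1 hα.1
      refine mem_autInducedBy_iff.2 ⟨g⁻¹ * k * g, trivial, fun x => ?_⟩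
      have hf : ∀ y : R.map (MulAut.conj g).toMonoidHom, ((e.symm y : R) : G) = g⁻¹ * y * g := by
        intro y
        obtain ⟨z, rfl⟩ := e.surjective y
        rw [MulEquiv.symm_apply_apply]
        show (z : G) = g⁻¹ * (g * z * g⁻¹) * g
        group
      show ((e.symm (α (e x)) : R) : G) = _
      rw [hf, hk]
      show g⁻¹ * (k * (g * x * g⁻¹) * k⁻¹) * g = _
      group
    exact this ho
  · obtain rfl : q' = e q := Subtype.ext hq
    show _ = g * ((e.symm (o (e q)) : R) : G) * g⁻¹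
    conv_lhs => rw [← e.apply_symm_apply (o (e q))]
    rfl

variable [Finite G] {ι : DD a × DD b →* G} {T : Sylow 2 G}

/-- Induction over the automorphisms of a fully normalised subgroup. -/
theorem aut_induction {R : Subgroup G} (hR : R ≤ T)
    (hsyl : IsSylowIn 2 (normalizerIn (T : Subgroup G) R) (Subgroup.normalizer (R : Set G)))
    {P : MulAut R → Prop}
    (hmul : ∀ α β, α ∈ autInducedBy ⊤ R → β ∈ autInducedBy ⊤ R → P α → P β → P (α * β))
    (hT : ∀ α ∈ autInducedBy (T : Subgroup G) R, P α)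
    (hodd : ∀ α ∈ autInducedBy ⊤ R, Odd (orderOf α) → P α) :
    ∀ α ∈ autInducedBy ⊤ R, P α := by
  intro α hα
  have := finite_mulAut hR
  have hS := sylow_autInducedBy T hsyl
  have hmem : α ∈ Submonoid.closure
      {β | β ∈ autInducedBy ⊤ R ∧ (β ∈ autInducedBy (T : Subgroup G) R ∨ Odd (orderOf β))} := by
    rw [← Subgroup.closure_toSubmonoid_of_finite]
    exact autGroup_le hS (Subgroup.closure
        {β | β ∈ autInducedBy ⊤ R ∧ (β ∈ autInducedBy (T : Subgroup G) R ∨ Odd (orderOf β))})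
      (fun β hβ => Subgroup.subset_closure ⟨hS.1 hβ, Or.inl hβ⟩)
      (fun β hβ ho => Subgroup.subset_closure ⟨hβ, Or.inr ho⟩) hα
  suffices α ∈ autInducedBy ⊤ R ∧ P α from this.2
  clear hα
  induction hmem using Submonoid.closure_induction with
  | mem β hβ => exact ⟨hβ.1, hβ.2.elim (hT β) (hodd β hβ.1)⟩
  | one => exact ⟨one_mem _, hT 1 (one_mem _)⟩
  | mul x y _ _ hx hy => exact ⟨mul_mem hx.1 hy.1, hmul x y hx.1 hy.1 hx.2 hy.2⟩

/-- The powers `2 ^ k` of an abelian subgroup. -/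
def powSub {P : Type*} [Group P] (U : Subgroup P) (h : ∀ u ∈ U, ∀ v ∈ U, u * v = v * u) (k : ℕ) :
    Subgroup P where
  carrier := {p | ∃ u ∈ U, p = u ^ 2 ^ k}
  one_mem' := ⟨1, one_mem U, (one_pow _).symm⟩
  mul_mem' := by
    rintro _ _ ⟨u, hu, rfl⟩ ⟨v, hv, rfl⟩
    exact ⟨u * v, mul_mem hu hv, ((show Commute u v from h u hu v hv).mul_pow _).symm⟩
  inv_mem' := by
    rintro _ ⟨u, hu, rfl⟩
    exact ⟨u⁻¹, inv_mem hu, (inv_pow _ _).symm⟩

theorem powSub_succ_le {P : Type*} [Group P] (U : Subgroup P)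
    (h : ∀ u ∈ U, ∀ v ∈ U, u * v = v * u) (k : ℕ) : powSub U h (k + 1) ≤ powSub U h k := by
  rintro _ ⟨u, hu, rfl⟩
  exact ⟨u ^ 2, pow_mem hu 2, by rw [← pow_mul, pow_succ']⟩

theorem Setting.rad (S : Setting ι T) {R : Subgroup G}
    (he : (groupFusionSystem (T : Subgroup G)).IsEssential 2 R) : Rad (R.comap ι) := by
  have hR : R ≤ T := he.1.1
  have hrad := radical_of_essential T.isPGroup' he
  refine ⟨fun x hx => ?_, fun x U hU hinv hab hn hEU hUU => ?_⟩
  · refine FusionChain.centralizerIn_le_of_centric he.1 ⟨S.mem x, Subgroup.mem_centralizer_iff.2 ?_⟩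
    intro y hy
    obtain ⟨e, rfl⟩ := S.exists_rep (hR hy)
    rw [← map_mul, ← map_mul, hx e hy]
  set N := (a + 2) + (b + 2) with hN
  set Uc : ℕ → Subgroup R := fun i =>
    if i ≤ N then ((powSub U hab (N - i)).map ι).subgroupOf R else ⊤ with hUc
  have hUc' : ∀ i, i ≤ N → Uc i = ((powSub U hab (N - i)).map ι).subgroupOf R := fun i hi => by
    simp only [hUc, if_pos hi]
  have hxn : ι x ∈ normalizerIn (T : Subgroup G) R := by
    refine mem_normalizerIn_of_conj (S.mem x) fun y hy => ?_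
    obtain ⟨e, rfl⟩ := S.exists_rep (hR hy)
    rw [← map_inv, ← map_mul, ← map_mul]
    exact hn e hy
  have hα : normConj (T : Subgroup G) R ⟨ι x, hxn⟩ ∈
      (groupFusionSystem (T : Subgroup G)).autGroup R := by
    rw [autGroup_group hR]
    exact mem_autInducedBy_iff.2 ⟨ι x, trivial, fun _ => rfl⟩
  have hUle : ∀ k, powSub U hab k ≤ U := by
    rintro k _ ⟨u, hu, rfl⟩; exact pow_mem hu _
  refine FusionChain.mem_of_mem_pCoreAut (g := ι x) he.1 hrad (S.mem x)
    (FusionChain.mem_pCoreAut_of_chain T.isPGroup' hR (N + 1) Uc ?_ ?_ ?_ ?_ hα ?_) fun _ => rfl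
  · rw [hUc' 0 (Nat.zero_le N), Nat.sub_zero, eq_bot_iff]
    intro y hy
    obtain ⟨_, ⟨u, -, rfl⟩, e⟩ := hy
    rw [pow_two_pow_prod, map_one] at e
    exact Subgroup.mem_bot.2 (Subtype.ext e.symm)
  · simp [hUc]
  · intro i hi
    rcases Nat.lt_or_ge i N with h | h
    · rw [hUc' i h.le, hUc' (i + 1) h]
      refine Subgroup.comap_mono (Subgroup.map_mono ?_)
      rw [show N - i = N - (i + 1) + 1 by omega]
      exact powSub_succ_le U hab _
    · have : ¬ i + 1 ≤ N := by omega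
      simp [hUc, this]
  · intro α _ i _ y hy
    by_cases hi : i ≤ N
    · rw [hUc' i hi] at hy ⊢
      obtain ⟨p, ⟨u, hu, rfl⟩, e⟩ := hy
      let eE : R.comap ι ≃* R :=
        ((R.comap ι).equivMapOfInjective ι S.inj).trans
          (MulEquiv.subgroupCongr (Subgroup.map_comap_eq_self (S.range ▸ hR)))
      have hcoe : ∀ w : R.comap ι, ((eE w : R) : G) = ι w := fun _ => rfl
      set f := eE.trans (α.trans eE.symm)
      have hfu := hinv f ⟨u, hU hu⟩ hu
      refine ⟨((f ⟨u, hU hu⟩ : R.comap ι) : DD a × DD b) ^ 2 ^ (N - i), ⟨_, hfu, rfl⟩, ?_⟩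
      have hy' : y = eE (⟨u, hU hu⟩ ^ 2 ^ (N - i)) := Subtype.ext (by
        rw [hcoe]; exact e.symm)
      rw [← Subgroup.coe_pow, ← hcoe, map_pow, hy', map_pow]
      show ((eE (eE.symm (α (eE ⟨u, hU hu⟩))) : R) : G) ^ _ = _
      rw [MulEquiv.apply_symm_apply, ← Subgroup.coe_pow, ← map_pow]
      rfl
    · simp [hUc, hi]
  · intro i hi y hy
    rcases Nat.lt_or_ge i N with h | h
    · rw [hUc' (i + 1) h] at hy
      rw [hUc' i h.le]
      obtain ⟨_, ⟨u, hu, rfl⟩, e⟩ := hy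
      obtain ⟨w, hw, hw2⟩ := hUU u hu
      refine ⟨w ^ 2 ^ (N - i), ⟨w, hw, rfl⟩, ?_⟩
      show ι (w ^ 2 ^ (N - i)) = (y : G)⁻¹ * (ι x * y * (ι x)⁻¹)
      rw [show (y : G) = ι (u ^ 2 ^ (N - (i + 1))) from e.symm, ← map_inv, ← map_inv, ← map_mul, ← map_mul, ← map_mul]
      congr 1
      rw [show N - i = N - (i + 1) + 1 by omega,
        show (2 : ℕ) ^ (N - (i + 1) + 1) = 2 * 2 ^ (N - (i + 1)) from pow_succ' 2 _,
        pow_mul, pow_two, ← hw2, ← conj_pow,
        ← inv_pow]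
      have hc : Commute u⁻¹ (x * u * x⁻¹) := by
        have : x * u * x⁻¹ ∈ U := by
          have := mul_mem hu (mul_mem hw hw)
          rwa [← hw2, mul_inv_cancel_left] at this
        exact hab _ (inv_mem hu) _ this
      rw [hc.mul_pow]
    · rw [hUc' i (by omega), show N - i = 0 by omega]
      obtain ⟨p, hp⟩ := S.exists_rep (hR y.2)
      refine ⟨p⁻¹ * (x * p * x⁻¹), ⟨_, hEU p (hp ▸ y.2 : ι p ∈ R), (pow_one _).symm⟩, ?_⟩
      show _ = (y : G)⁻¹ * (ι x * y * (ι x)⁻¹)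
      simp [hp]

/-- The image of a four group times the second factor. -/
def side (ι : DD a × DD b →* G) (i : ZMod (2 ^ (a + 1))) : Subgroup G := ((four i).prod ⊤).map ι

theorem Setting.side_le (S : Setting ι T) (i : ZMod (2 ^ (a + 1))) : side ι i ≤ T := by
  rintro _ ⟨p, -, rfl⟩; exact S.mem p

/-- What can occur. -/
theorem Setting.alperin (S : Setting ι T) (M : Subgroup G → (G → G) → Prop)
    (hcongr : ∀ P f g, IsMap (groupFusionSystem (T : Subgroup G)) P f → M P f →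
      (∀ x ∈ P, f x = g x) → M P g)
    (hmono : ∀ P P' f, IsMap (groupFusionSystem (T : Subgroup G)) P f → P' ≤ P → M P f → M P' f)
    (hcomp : ∀ P P' f g, IsMap (groupFusionSystem (T : Subgroup G)) P f →
      IsMap (groupFusionSystem (T : Subgroup G)) P' g → (∀ x ∈ P, f x ∈ P') → M P f → M P' g →
      M P (fun x => g (f x)))
    (hT : ∀ R : Subgroup G, ∀ α ∈ autInducedBy (T : Subgroup G) R, R ≤ T → M R (autFn α))
    (hodd : ∀ (E₁ : Subgroup (DD a)) (E₂ : Subgroup (DD b)), FullOrFour E₁ → FullOrFour E₂ →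
      ∀ α ∈ autInducedBy ⊤ ((E₁.prod E₂).map ι), Odd (orderOf α) →
        M ((E₁.prod E₂).map ι) (autFn α))
    {P : Subgroup G} {f : G → G} (hf : IsMap (groupFusionSystem (T : Subgroup G)) P f) : M P f := by
  refine alperin_essential T.isPGroup' (isSaturated_group T) M hcongr hmono hcomp ?_ hf
  intro R hR α hα
  have hRT : R ≤ T := by rcases hR with rfl | h; exacts [le_rfl, h.1.1]
  have hsyl : IsSylowIn 2 (normalizerIn (T : Subgroup G) R) (Subgroup.normalizer (R : Set G)) := by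
    refine (fullyNormalized_group_iff T hRT).1 ?_
    rcases hR with rfl | h
    · exact isFullyNormalized_self _
    · exact h.2.1
  obtain ⟨E₁, E₂, h1, h2, rfl⟩ : ∃ (E₁ : Subgroup (DD a)) (E₂ : Subgroup (DD b)),
      FullOrFour E₁ ∧ FullOrFour E₂ ∧ R = (E₁.prod E₂).map ι := by
    rcases hR with rfl | h
    · exact ⟨⊤, ⊤, Or.inl rfl, Or.inl rfl, by
        rw [Subgroup.top_prod_top, ← MonoidHom.range_eq_map, S.range]⟩
    · obtain ⟨E₁, E₂, h1, h2, e⟩ := (S.rad h).classify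
      exact ⟨E₁, E₂, h1, h2, by rw [← e, Subgroup.map_comap_eq_self (S.range ▸ hRT)]⟩
  rw [autGroup_group hRT] at hα
  refine aut_induction hRT hsyl (P := fun α => M _ (autFn α)) ?_ (fun β hβ => hT _ β hβ hRT)
    (fun β hβ ho => hodd E₁ E₂ h1 h2 β hβ ho) α hα
  intro β γ hβ hγ mβ mγ
  rw [← autGroup_group hRT] at hβ hγ
  have i1 := (isIso_autFn hRT hγ).1
  have i2 := (isIso_autFn hRT hβ).1
  refine hcongr _ _ _ (i1.comp i2 fun x hx => autFn_mem γ hx)
    (hcomp _ _ _ _ i1 i2 (fun x hx => autFn_mem γ hx) mγ mβ) fun x hx => ?_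
  rw [autFn_apply (β * γ) hx, autFn_apply β (autFn_mem γ hx), MulAut.mul_apply]
  exact congrArg (fun y : ↥((E₁.prod E₂).map ι) => ((β y : _) : G)) (Subtype.ext (autFn_apply γ hx))

theorem Setting.odd_top (S : Setting ι T) (ha : 1 ≤ a) (hb : 1 ≤ b)
    {α : MulAut ((((⊤ : Subgroup (DD a))).prod (⊤ : Subgroup (DD b))).map ι)}
    (hα : Odd (orderOf α)) : α = 1 := by
  let e : DD a × DD b ≃* (((⊤ : Subgroup (DD a))).prod (⊤ : Subgroup (DD b))).map ι :=
    (MonoidHom.ofInjective S.inj).trans (MulEquiv.subgroupCongr (by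
      rw [Subgroup.top_prod_top, MonoidHom.range_eq_map]))
  have h := odd_trivial ha hb (α := MulAut.congr e.symm α) (by rwa [MulEquiv.orderOf_eq])
  exact (MulAut.congr e.symm).injective (h.trans (map_one _).symm)

/-- An odd automorphism of `V × D` on a box. -/
theorem Setting.box_of_side (S : Setting ι T) (hb : 1 ≤ b) {i : ZMod (2 ^ (a + 1))}
    {α : MulAut (side ι i)} (hα : α ∈ autInducedBy ⊤ (side ι i)) (hodd : Odd (orderOf α))
    (l : ZMod (2 ^ (b + 1))) :
    ∃ (d : DD b), ∃ h ∈ autInducedBy ⊤ (quad ι i l), ∀ (q : quad ι i l) (hq : (q : G) ∈ side ι i),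
      ((α ⟨q, hq⟩ : side ι i) : G) = ι (1, d) * (h q : quad ι i l) * (ι (1, d))⁻¹ := by
  let e : sideE i (b := b) ≃* side ι i := (sideE i).equivMapOfInjective ι S.inj
  obtain ⟨l', hl, hmap⟩ := class_fix hb (α := MulAut.congr e.symm α)
    (by rwa [MulEquiv.orderOf_eq]) l
  obtain ⟨d, hd⟩ := exists_conj_of_par hl.symm
  obtain ⟨g, -, hg⟩ := mem_autInducedBy_iff.1 hα
  have hback : ∀ w ∈ four l', d⁻¹ * w * d ∈ four l := fun w hw => by
    rw [four, Subgroup.mem_centralizer_singleton_iff] at hw ⊢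
    rw [← hd] at hw
    calc d⁻¹ * w * d * sr l = d⁻¹ * (w * (d * sr l * d⁻¹)) * d := by group
      _ = d⁻¹ * (d * sr l * d⁻¹ * w) * d := by rw [hw]
      _ = sr l * (d⁻¹ * w * d) := by group
  have hin : ∀ x ∈ quad ι i l, ((ι (1, d))⁻¹ * g) * x * ((ι (1, d))⁻¹ * g)⁻¹ ∈ quad ι i l := by
    rintro _ ⟨⟨v, w⟩, ⟨hv, hw⟩, rfl⟩
    have h2 := hmap ⟨(v, w), hv, trivial⟩ hw
    set y := MulAut.congr e.symm α ⟨(v, w), hv, trivial⟩
    have hgy : g * ι (v, w) * g⁻¹ = ι (y : DD a × DD b) := by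
      have : α (e ⟨(v, w), hv, trivial⟩) = e y := (e.apply_symm_apply _).symm
      rw [← show ((e y : side ι i) : G) = ι (y : DD a × DD b) from rfl, ← this, hg]
      rfl
    rw [show ((ι (1, d))⁻¹ * g) * ι (v, w) * ((ι (1, d))⁻¹ * g)⁻¹ =
      (ι (1, d))⁻¹ * (g * ι (v, w) * g⁻¹) * ι (1, d) by group, hgy, ← map_inv, ← map_mul, ← map_mul]
    exact ⟨_, ⟨by simpa using y.2.1, hback _ h2⟩, rfl⟩
  have hn := mem_normalizerIn_of_conj (S := ⊤) trivial hin
  refine ⟨d, normConj ⊤ (quad ι i l) ⟨_, hn⟩,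
    range_normConj ⊤ (quad ι i l) ▸ ⟨_, rfl⟩, fun q hq => ?_⟩
  rw [hg]
  show _ = ι (1, d) * ((ι (1, d))⁻¹ * g * q * ((ι (1, d))⁻¹ * g)⁻¹) * (ι (1, d))⁻¹
  group

/-- The subgroups generated by boxes. -/
def SideForm (E : Subgroup (DD a × DD b)) : Prop :=
  (∃ i, E = (four i).prod ⊤) ∨ ∃ j, E = (⊤ : Subgroup (DD a)).prod (four j)

/-- A relation preserved by conjugation in `T` and by the boxes is preserved by fusion. -/
theorem Setting.fusion_induct (S : Setting ι T) (hab : 1 ≤ a ∨ 1 ≤ b)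
    (Keep : DD a × DD b → DD a × DD b → Prop) (htrans : ∀ p q r, Keep p q → Keep q r → Keep p r)
    (hconj : ∀ p u, Keep p (u * p * u⁻¹))
    (hbox : ∀ i j, ∀ o ∈ oddAut (quad ι i j), ∀ (x : quad ι i j) (p q : DD a × DD b),
      (x : G) = ι p → (o x : G) = ι q → Keep p q)
    (hgen : ∀ E, SideForm E → ∀ f : E →* DD a × DD b,
      (∀ e : E, ∀ i j, (four i).prod (four j) ≤ E → (e : DD a × DD b) ∈ (four i).prod (four j) →
        Keep e (f e)) → ∀ e : E, Keep e (f e))
    {p q : DD a × DD b} {g : G} (hg : g * ι p * g⁻¹ = ι q) : Keep p q := by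
  set M : Subgroup G → (G → G) → Prop :=
    fun P f => ∀ p q, ι p ∈ P → f (ι p) = ι q → Keep p q with hM
  have hboxK : ∀ i j, ∀ h ∈ autInducedBy ⊤ (quad ι i j), ∀ (x : quad ι i j) (p q : DD a × DD b),
      (x : G) = ι p → (h x : G) = ι q → Keep p q := by
    intro i j h hh x p q hp hq
    obtain ⟨o, ho, t, ht, rfl⟩ := (S.box i j).good.decomp h hh
    obtain ⟨s, hs, hst⟩ := mem_autInducedBy_iff.1 ht
    obtain ⟨u, rfl⟩ := S.exists_rep hs
    have h1 : (t x : G) = ι (u * p * u⁻¹) := by rw [hst, hp, map_mul, map_mul, map_inv]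
    exact htrans _ _ _ (hconj p u) (hbox i j o ho (t x) _ q h1 hq)
  suffices h : M ((Subgroup.zpowers p).map ι) fun x => g * x * g⁻¹ from
    h p q ⟨p, Subgroup.mem_zpowers p, rfl⟩ hg
  refine S.alperin (P := (Subgroup.zpowers p).map ι) (f := fun x => g * x * g⁻¹) M
    (fun P f f' _ h e p q hp hq => h p q hp ((e _ hp).trans hq))
    (fun P P' f _ hle h p q hp => h p q (hle hp)) ?_ ?_ ?_ ?_
  · intro P P' f f' hf _ hm h h' p q hp hq
    obtain ⟨r, hr⟩ := S.exists_rep (hf.mem hp)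
    change f' (f (ι p)) = ι q at hq
    rw [← hr] at hq
    exact htrans _ _ _ (h p r hp hr.symm) (h' r q (hr ▸ hm _ hp) hq)
  · intro R α hα _ p q hp hq
    obtain ⟨s, hs, hst⟩ := mem_autInducedBy_iff.1 hα
    obtain ⟨u, rfl⟩ := S.exists_rep hs
    rw [autFn_apply α hp, hst] at hq
    have : q = u * p * u⁻¹ := S.inj (by rw [map_mul, map_mul, map_inv]; exact hq.symm)
    exact this ▸ hconj p u
  · intro E₁ E₂ h1 h2 α hα hodd p q hp hq
    have htopn : ∀ {n : ℕ} (D : Subgroup (DD n)), FullOrFour D →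
        (∃ i, D = four i) ∨ (1 ≤ n ∧ D = ⊤) := by
      intro n D hD
      rcases hD with rfl | h
      · rcases Nat.eq_zero_or_pos n with rfl | hn
        · exact Or.inl ⟨0, (eq_four_or_rot_comm rfl).symm⟩
        · exact Or.inr ⟨hn, rfl⟩
      · exact Or.inl h
    rw [autFn_apply α hp] at hq
    have hside : ∀ E, SideForm E → ∀ (R : Subgroup G), R = E.map ι → ∀ β : MulAut R,
        (∀ i j, (four i).prod (four j) ≤ E → ∀ (x : R) (p q : DD a × DD b),
          p ∈ (four i).prod (four j) → (x : G) = ι p → (β x : G) = ι q → Keep p q) →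
        ∀ (x : R) (p q : DD a × DD b), (x : G) = ι p → (β x : G) = ι q → Keep p q := by
      rintro E hE _ rfl β hb x p q hx hq
      let e := E.equivMapOfInjective ι S.inj
      let f : E →* DD a × DD b :=
        (E.subtype.comp (MulAut.congr e.symm β).toMonoidHom)
      have hf : ∀ v : E, ι (f v) = (β (e v) : G) := fun v => by
        show ι ((e.symm (β (e v)) : E) : DD a × DD b) = _
        conv_rhs => rw [← e.apply_symm_apply (β (e v))]
        rfl
      obtain ⟨v, rfl⟩ := e.surjective x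
      obtain rfl : (v : DD a × DD b) = p := S.inj hx
      rw [← hf, S.inj.eq_iff] at hq
      subst hq
      exact hgen E hE f (fun v' i j hle hv' => hb i j hle (e v') _ _ hv' rfl (hf v').symm) v
    rcases htopn E₁ h1 with ⟨i, rfl⟩ | ⟨ha, rfl⟩ <;> rcases htopn E₂ h2 with ⟨j, rfl⟩ | ⟨hb, rfl⟩
    · exact hboxK i j α hα ⟨_, hp⟩ p q rfl hq
    · refine hside _ (Or.inl ⟨i, rfl⟩) _ rfl α ?_ ⟨_, hp⟩ p q rfl hq
      intro i' j hle x p q hpQ hx hxq
      have hi : four i' = four i := four_eq_of_mem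
        (hle (show (sr i', (1 : DD b)) ∈ _ from ⟨sr_mem_four i', one_mem _⟩)).1
      have hm : (x : G) ∈ quad ι i j := hx ▸ ⟨p, ⟨hi ▸ hpQ.1, hpQ.2⟩, rfl⟩
      obtain ⟨d, h, hh, heq⟩ := S.box_of_side hb hα hodd j
      have h1 := heq ⟨x, hm⟩ x.2
      obtain ⟨r, hr⟩ := S.exists_rep ((S.box i j).le (h ⟨x, hm⟩).2)
      have h2 := hboxK i j h hh ⟨x, hm⟩ p r hx hr.symm
      refine htrans _ _ _ h2 ?_
      have : q = (1, d) * r * (1, d)⁻¹ := S.inj (by
        rw [← hxq, map_mul, map_mul, map_inv, hr]; exact h1)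
      exact this ▸ hconj r _
    · refine hside _ (Or.inr ⟨j, rfl⟩) _ rfl α ?_ ⟨_, hp⟩ p q rfl hq
      intro i j' hle x p q hpQ hx hxq
      have hj : four j' = four j := four_eq_of_mem
        (hle (show ((1 : DD a), sr j') ∈ _ from ⟨one_mem _, sr_mem_four j'⟩)).2
      obtain ⟨β, hβ, hβo, hβa⟩ : ∃ β : MulAut (side (swp ι) j), β ∈ autInducedBy ⊤ (side (swp ι) j) ∧
          Odd (orderOf β) ∧ ∀ (y : ↥(((⊤ : Subgroup (DD a)).prod (four j)).map ι))
            (y' : side (swp ι) j), (y' : G) = y → ((β y' : side (swp ι) j) : G) = α y := by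
        have heq : ((⊤ : Subgroup (DD a)).prod (four j)).map ι = side (swp ι) j := by
          ext g
          constructor
          · rintro ⟨⟨u, w⟩, ⟨h1, h2⟩, e⟩; exact ⟨(w, u), ⟨h2, h1⟩, e⟩
          · rintro ⟨⟨w, u⟩, ⟨h2, h1⟩, e⟩; exact ⟨(u, w), ⟨h1, h2⟩, e⟩
        refine ⟨MulAut.congr (MulEquiv.subgroupCongr heq) α, ?_, by rwa [MulEquiv.orderOf_eq], ?_⟩
        · obtain ⟨k, hk, hk'⟩ := mem_autInducedBy_iff.1 hα
          exact mem_autInducedBy_iff.2 ⟨k, hk, fun y => hk' _⟩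
        · intro y y' hy
          obtain rfl : y = (MulEquiv.subgroupCongr heq).symm y' := Subtype.ext hy.symm
          rfl
      have hm : (x : G) ∈ quad (swp ι) j i := by
        rw [quad_swp, hx]; exact ⟨p, ⟨hpQ.1, hj ▸ hpQ.2⟩, rfl⟩
      have hy : (x : G) ∈ side (swp ι) j := by
        obtain ⟨w, ⟨h1, -⟩, e⟩ := hm
        exact ⟨w, ⟨h1, trivial⟩, e⟩
      obtain ⟨d, h, hh, heq⟩ := S.swap.box_of_side ha hβ hβo i
      have h1 := heq ⟨x, hm⟩ hy
      rw [hβa x ⟨x, hy⟩ rfl, hxq] at h1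
      obtain ⟨r, hr⟩ := S.exists_rep ((S.swap.box j i).le (h ⟨x, hm⟩).2)
      obtain ⟨h', hh', he'⟩ : ∃ h' ∈ autInducedBy ⊤ (quad ι i j),
          ∀ (y : quad (swp ι) j i) (y' : quad ι i j), (y' : G) = y →
            ((h' y' : quad ι i j) : G) = h y := by
        refine ⟨MulAut.congr (MulEquiv.subgroupCongr (quad_swp ι i j)) h, ?_, ?_⟩
        · obtain ⟨k, hk, hk'⟩ := mem_autInducedBy_iff.1 hh
          exact mem_autInducedBy_iff.2 ⟨k, hk, fun y => hk' _⟩
        · intro y y' hy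
          obtain rfl : y = (MulEquiv.subgroupCongr (quad_swp ι i j)).symm y' := Subtype.ext hy.symm
          rfl
      have h2 := hboxK i j h' hh' ⟨x, quad_swp ι i j ▸ hm⟩ p r hx
        ((he' ⟨x, hm⟩ ⟨x, quad_swp ι i j ▸ hm⟩ rfl).trans hr.symm)
      refine htrans _ _ _ h2 ?_
      have : q = (d, 1) * r * (d, 1)⁻¹ := S.inj (by
        rw [map_mul, map_mul, map_inv, hr]; exact h1)
      exact this ▸ hconj r _
    · rw [S.odd_top ha hb hodd] at hq
      rw [← S.inj (hq : ι p = ι q)]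
      simpa using hconj p 1
  · exact isMap_group_iff.2 ⟨by rintro _ ⟨x, -, rfl⟩; exact S.mem x, g, by
      rintro _ ⟨x, ⟨k, rfl⟩, rfl⟩
      refine ⟨?_, rfl⟩
      show g * ι (p ^ k) * g⁻¹ ∈ _
      rw [map_zpow, ← conj_zpow, hg]
      exact zpow_mem (S.mem q) k⟩

end Cfsg.Agent.DihedralPair
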