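import Cfsg.Agent.Lib.DihedralPair.Active

/-
Strongly closed graphs of homomorphisms between the factors (owner: helper76).

* `exists_hom` : homomorphisms with prescribed central values on the reflections
* `Setting.closed_graph` : the graph is strongly closed
-/

set_option autoImplicit false

namespace Cfsg.Agent.DihedralPair

open DihedralGroup Cfsg Cfsg.FusionSystem Cfsg.Agent.Fusion

variable {a b : ℕ}

/-- Central and in every four group. -/
def IsSmall (w : DD b) : Prop := (∀ j, w ∈ four j) ∧ ∀ d : DD b, d * w = w * d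

theorem isSmall_zz {w : DD b} (h : w = 1 ∨ w = zz b) : IsSmall w := by
  rcases h with rfl | rfl
  · exact ⟨fun j => one_mem _, fun d => by simp⟩
  · exact ⟨zz_mem_four, zz_comm⟩

theorem isSmall_zero (hb : b = 0) (w : DD b) : IsSmall w := by
  subst hb
  have h : ∀ (j : ZMod (2 ^ (0 + 1))) (d : DD 0), d ∈ four j := fun j d =>
    eq_four_or_rot_comm (i := j) rfl ▸ Subgroup.mem_top d
  exact ⟨fun j => h j w, fun d => four_comm (h 0 d) (h 0 w)⟩

/-- Homomorphism with given values on the two classes of reflections. -/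
theorem exists_hom (ha : 1 ≤ a) (ω : ZMod 2 → DD b) (hω : ∀ ε, IsSmall (ω ε)) :
    ∃ f : DD a →* DD b, (∀ l, f (sr l) = ω (par l)) ∧ f (zz a) = 1 ∧ ∀ d, IsSmall (f d) := by
  have hs : ∀ x y, IsSmall x → IsSmall y → IsSmall (x * y : DD b) := fun x y hx hy =>
    ⟨fun j => mul_mem (hx.1 j) (hy.1 j), fun d => by
      rw [← mul_assoc, hx.2 d, mul_assoc, hy.2 d, mul_assoc]⟩
  have key : ∀ u v : ZMod 2, ω 0 * ω (u + v) = ω 0 * ω u * (ω 0 * ω v) ∧
      ω (v + u) = ω 0 * ω u * ω v ∧ ω (u + v) = ω u * (ω 0 * ω v) ∧ ω 0 * ω (v + u) = ω u * ω v := by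
    have sq : ∀ ε, ω ε * ω ε = 1 := fun ε => four_mul_self ((hω ε).1 0)
    have c : ω 0 * ω 1 = ω 1 * ω 0 := (hω 1).2 _
    have e : ∀ u : ZMod 2, u = 0 ∨ u = 1 := by decide
    have h11 : (1 : ZMod 2) + 1 = 0 := rfl
    have sq' : ω 0 * ω 1 * (ω 0 * ω 1) = 1 := by
      nth_rewrite 2 [c]
      rw [mul_assoc, ← mul_assoc (ω 1), sq, one_mul, sq]
    have a1 : ω 0 * ω 1 * ω 1 = ω 0 := by rw [mul_assoc, sq, mul_one]
    have a2 : ω 1 * (ω 0 * ω 1) = ω 0 := by rw [c, ← mul_assoc, sq, one_mul]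
    have a4 : ω 0 * (ω 0 * ω 1) = ω 1 := by rw [← mul_assoc, sq, one_mul]
    have a3 : ω 0 * ω 1 * ω 0 = ω 1 := by rw [c, mul_assoc, sq, mul_one]
    intro u v
    rcases e u with rfl | rfl <;> rcases e v with rfl | rfl <;>
      simp [h11, sq, sq', a1, a2, a3, a4, c.symm]
  refine ⟨MonoidHom.mk' (fun x => match x with
    | r k => ω 0 * ω (par k)
    | sr k => ω (par k)) ?_, fun l => rfl, ?_, ?_⟩
  · intro x y
    cases x <;> cases y <;> simp only [r_mul_r, r_mul_sr, sr_mul_r, sr_mul_sr, map_add, map_sub,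
      zmod_two_sub]
    · exact (key _ _).1
    · exact (key _ _).2.1
    · exact (key _ _).2.2.1
    · exact (key _ _).2.2.2
  · show ω 0 * ω (par (mid a)) = 1
    rw [par_mid ha, four_mul_self ((hω 0).1 0)]
  · intro d
    cases d with
    | r k => exact hs _ _ (hω 0) (hω _)
    | sr k => exact hω _

/-- The graph. -/
def graphSub (f : DD a →* DD b) : Subgroup (DD a × DD b) := ((MonoidHom.id (DD a)).prod f).range

theorem mem_graphSub {f : DD a →* DD b} {p : DD a × DD b} : p ∈ graphSub f ↔ p.2 = f p.1 := by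
  constructor
  · rintro ⟨d, rfl⟩; rfl
  · intro h; exact ⟨p.1, Prod.ext rfl h.symm⟩

theorem graphSub_normal {f : DD a →* DD b} (hf : ∀ d, IsSmall (f d)) : (graphSub f).Normal := by
  refine ⟨fun p hp u => ?_⟩
  rw [mem_graphSub] at hp ⊢
  simp only [Prod.snd_mul, Prod.fst_mul, Prod.snd_inv, Prod.fst_inv, map_mul, map_inv, hp]
  rw [(hf p.1).2 u.2, mul_inv_cancel_right, (hf p.1).2 (f u.1), mul_inv_cancel_right]

variable {G : Type*} [Group G] [Finite G] {ι : DD a × DD b →* G} {T : Sylow 2 G}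

theorem mem_graph_box {f : DD a →* DD b} (hz : f (zz a) = 1) {i : ZMod (2 ^ (a + 1))}
    {p : DD a × DD b} (hv : p.1 ∈ four i) : p ∈ graphSub f ↔ InW i (f (sr i)) p := by
  rw [mem_graphSub]
  obtain ⟨v, w⟩ := p
  have h3 : sr i * zz a = sr (i + mid a) := by rw [zz, sr_mul_r]
  constructor
  · rintro (rfl : w = f v)
    rcases mem_four.1 hv with h | h | h | h <;> simp only at h <;> subst h
    · exact Or.inl (by simp [Prod.mk_one_one])
    · exact Or.inr (Or.inl (by rw [hz]))
    · exact Or.inr (Or.inr (Or.inl rfl))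
    · exact Or.inr (Or.inr (Or.inr (by rw [← h3, map_mul, hz, mul_one])))
  · rintro (h | h | h | h)
    · rw [h]; exact (map_one f).symm
    · rw [h]; exact hz.symm
    · rw [h]
    · rw [h, map_mul, hz, mul_one]

theorem Setting.closed_graph (S : Setting ι T) (ha : 1 ≤ a) (f : DD a →* DD b)
    (hf : ∀ d, IsSmall (f d)) (hz : f (zz a) = 1)
    (hfix : ∀ i j, Fixes ι (quad ι i j) i (f (sr i))) :
    IsStronglyClosed ((graphSub f).map ι) (T : Subgroup G) := by
  have := graphSub_normal hf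
  refine S.closed_of_boxes (Or.inl ha) _ (fun i j o ho x p q hp hq hpX => ?_) ?_
  · exact (mem_graph_box hz ((S.box i j).eq_el hq).1).2 (hfix i j o ho x p q hp hq
      ((mem_graph_box hz ((S.box i j).eq_el hp).1).1 hpX))
  · rintro E (⟨i, rfl⟩ | ⟨j, rfl⟩) ⟨v, w⟩ hE hX
    · refine Subgroup.subset_closure ⟨hX, i, 0, Subgroup.prod_mono le_rfl le_top, hE.1, ?_⟩
      rw [show w = f v from mem_graphSub.1 hX]
      exact (hf v).1 0
    · have key : ∀ l, ((sr l, f (sr l)) : DD a × DD b) ∈ Subgroup.closure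
          {r | r ∈ graphSub f ∧ ∃ i' j', (four i').prod (four j') ≤
            (⊤ : Subgroup (DD a)).prod (four j) ∧ r ∈ (four i').prod (four j')} := fun l =>
        Subgroup.subset_closure ⟨mem_graphSub.2 rfl, l, j, Subgroup.prod_mono le_top le_rfl,
          sr_mem_four l, (hf _).1 j⟩
      obtain rfl : w = f v := mem_graphSub.1 hX
      cases v with
      | sr l => exact key l
      | r k =>
        rw [show ((r k, f (r k)) : DD a × DD b) = (sr 0, f (sr 0)) * (sr k, f (sr k)) by
          rw [Prod.mk_mul_mk, ← map_mul, sr_mul_sr, sub_zero]]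
        exact mul_mem (key 0) (key k)

theorem Setting.graph_equiv (S : Setting ι T) (f : DD a →* DD b) :
    Nonempty (↥((graphSub f).map ι) ≃* DD a) := by
  have h : (graphSub f).map ι = (ι.comp ((MonoidHom.id (DD a)).prod f)).range := by
    rw [MonoidHom.range_comp]; rfl
  exact ⟨(MulEquiv.subgroupCongr h).trans
    (MonoidHom.ofInjective (f := ι.comp ((MonoidHom.id (DD a)).prod f))
      (fun x y e => congrArg Prod.fst (S.inj e : ((MonoidHom.id (DD a)).prod f) x = _))).symm⟩

end Cfsg.Agent.DihedralPair
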