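import Cfsg.Agent.Lib.DihedralPair.Dih

/-
Centric radical subgroups of a product of two dihedral groups (owner: helper76).

* `Invariant`, `Rad` : the two properties used
* `Rad.classify` : the factors are whole or four groups
-/

set_option autoImplicit false

namespace Cfsg.Agent.DihedralPair

open DihedralGroup

/-- `U` is invariant under the automorphisms of `E`. -/
def Invariant {P : Type*} [Group P] (E U : Subgroup P) : Prop :=
  ∀ f : E ≃* E, ∀ u : E, (u : P) ∈ U → ((f u : E) : P) ∈ U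

/-- Self-centralising, and containing the elements that stabilise a short chain. -/
structure Rad {P : Type*} [Group P] (E : Subgroup P) : Prop where
  cent : ∀ x : P, (∀ e ∈ E, e * x = x * e) → x ∈ E
  stab : ∀ x : P, ∀ U : Subgroup P, U ≤ E → Invariant E U →
    (∀ u ∈ U, ∀ v ∈ U, u * v = v * u) →
    (∀ e ∈ E, x * e * x⁻¹ ∈ E) → (∀ e ∈ E, e⁻¹ * (x * e * x⁻¹) ∈ U) →
    (∀ u ∈ U, ∃ w ∈ U, u⁻¹ * (x * u * x⁻¹) = w * w) → x ∈ E

section Generic

variable {P P' : Type*} [Group P] [Group P']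

theorem Rad.map {E : Subgroup P} (h : Rad E) (φ : P ≃* P') : Rad (E.map φ.toMonoidHom) where
  cent x hx := by
    refine ⟨φ.symm x, h.cent _ fun e he => φ.injective ?_, φ.apply_symm_apply x⟩
    simpa using hx (φ e) ⟨e, he, rfl⟩
  stab x U hU hinv hab hn hEU hUU := by
    set e0 : E ≃* E.map φ.toMonoidHom := φ.subgroupMap E
    refine ⟨φ.symm x, h.stab _ (U.comap φ.toMonoidHom) ?_ ?_ ?_ ?_ ?_ ?_, φ.apply_symm_apply x⟩
    · intro u hu
      obtain ⟨e, he, hue⟩ := hU hu
      rwa [φ.injective hue] at he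
    · intro f u hu
      have := hinv (e0.symm.trans (f.trans e0)) (e0 u) hu
      rw [MulEquiv.trans_apply, MulEquiv.trans_apply, MulEquiv.symm_apply_apply] at this
      exact this
    · intro u hu v hv
      exact φ.injective (by simpa using hab _ hu _ hv)
    · intro e he
      obtain ⟨e', he', hee⟩ := hn (φ e) ⟨e, he, rfl⟩
      have : e' = φ.symm x * e * (φ.symm x)⁻¹ := φ.injective (by simpa using hee)
      rwa [← this]
    · intro e he
      simpa [Subgroup.mem_comap] using hEU (φ e) ⟨e, he, rfl⟩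
    · intro u hu
      obtain ⟨w, hw, e⟩ := hUU (φ u) hu
      refine ⟨φ.symm w, by simpa [Subgroup.mem_comap] using hw, φ.injective ?_⟩
      simpa using e

/-- The centraliser of a set defined without choices is invariant. -/
theorem invariant_of_centralizer {E U : Subgroup P} (X : E → Prop)
    (hX : ∀ f : E ≃* E, ∀ e, X e → X (f e))
    (hU : ∀ u : E, (u : P) ∈ U ↔ ∀ e, X e → e * u = u * e) : Invariant E U := by
  intro f u hu
  refine (hU _).2 fun e he => ?_
  have := congrArg f ((hU u).1 hu _ (hX f.symm e he))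
  simpa using this

theorem invariant_center (E : Subgroup P) : Invariant E (E ⊓ Subgroup.centralizer (E : Set P)) :=
  invariant_of_centralizer (fun _ => True) (fun _ _ _ => trivial) fun u => by
    rw [Subgroup.mem_inf, Subgroup.mem_centralizer_iff]
    exact ⟨fun h e _ => Subtype.ext (h.2 e e.2),
      fun h => ⟨u.2, fun e he => congrArg Subtype.val (h ⟨e, he⟩ trivial)⟩⟩

end Generic

variable {a b : ℕ}

/-- First projection. -/
def fstImg (E : Subgroup (DD a × DD b)) : Subgroup (DD a) := E.map (MonoidHom.fst _ _)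

theorem mem_fstImg {E : Subgroup (DD a × DD b)} {d : DD a} : d ∈ fstImg E ↔ ∃ d', (d, d') ∈ E :=
  ⟨fun ⟨⟨_, y⟩, hy, e⟩ => ⟨y, by cases e; exact hy⟩, fun ⟨y, hy⟩ => ⟨_, hy, rfl⟩⟩

theorem comm_fst {e : DD a × DD b} {d : DD a} : e * (d, 1) = (d, 1) * e ↔ e.1 * d = d * e.1 := by
  simp [Prod.ext_iff]

theorem side_cases {E : Subgroup (DD a × DD b)} (h : Rad E) :
    (∃ i, (∀ e ∈ E, e.1 ∈ four i) ∧ ∀ d ∈ four i, (d, 1) ∈ E) ∨
      (1 ≤ a ∧ (r (quarter a), 1) ∈ E) := by
  have hin : ∀ d : DD a, (∀ x ∈ fstImg E, x * d = d * x) → (d, 1) ∈ E := fun d hd =>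
    h.cent _ fun e he => comm_fst.2 (hd _ (mem_fstImg.2 ⟨e.2, he⟩))
  by_cases hab : ∀ x ∈ fstImg E, ∀ y ∈ fstImg E, x * y = y * x
  · have heq : Subgroup.centralizer (fstImg E : Set (DD a)) = fstImg E := by
      ext d
      rw [Subgroup.mem_centralizer_iff]
      exact ⟨fun hd => mem_fstImg.2 ⟨1, hin d hd⟩, fun hd x hx => hab x hx d hd⟩
    rcases self_centralizing_cases heq with ⟨i, hi⟩ | ⟨ha, hrot⟩
    · refine Or.inl ⟨i, fun e he => hi ▸ mem_fstImg.2 ⟨e.2, he⟩, fun d hd => hin d fun x hx => ?_⟩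
      exact four_comm (hi ▸ hx) hd
    · refine Or.inr ⟨ha, hin _ fun x hx => ?_⟩
      obtain ⟨j, rfl⟩ := mem_rot.1 (hrot ▸ hx)
      rw [r_mul_r, r_mul_r, add_comm j]
  · push_neg at hab
    obtain ⟨x, hx, y, hy, hxy⟩ := hab
    have ha : 1 ≤ a := by
      rcases Nat.eq_zero_or_pos a with rfl | ha
      · exact absurd (four_comm (i := 0) (eq_four_or_rot_comm rfl ▸ Subgroup.mem_top x)
          (eq_four_or_rot_comm rfl ▸ Subgroup.mem_top y)) hxy
      · exact ha
    have hz : ((zz a, 1) : DD a × DD b) ∈ E := hin _ fun x _ => zz_comm x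
    refine Or.inr ⟨ha, h.stab _ _ inf_le_left (invariant_center E) ?_ ?_ ?_ ?_⟩
    · exact fun u hu v hv => Subgroup.mem_centralizer_iff.1 hv.2 u hu.1
    all_goals
      have key : ∀ e ∈ E, e⁻¹ * ((r (quarter a), (1 : DD b)) * e * (r (quarter a), 1)⁻¹) ∈
          E ⊓ Subgroup.centralizer (E : Set (DD a × DD b)) := by
        rintro ⟨e1, e2⟩ -
        suffices hh : ∃ d ∈ ({1, zz a} : Set (DD a)),
            ((e1, e2) : DD a × DD b)⁻¹ * ((r (quarter a), 1) * (e1, e2) * (r (quarter a), 1)⁻¹) = (d, 1) by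
          obtain ⟨d, hd, e⟩ := hh
          rw [e, Subgroup.mem_inf, Subgroup.mem_centralizer_iff]
          rcases hd with rfl | rfl
          · exact ⟨one_mem E, fun g _ => by simp [Prod.ext_iff]⟩
          · exact ⟨hz, fun g _ => comm_fst.2 (zz_comm _)⟩
        cases e1 with
        | r i => exact ⟨1, Or.inl rfl, by simp [Prod.ext_iff]⟩
        | sr i =>
          refine ⟨zz a, Or.inr rfl, ?_⟩
          simp only [Prod.inv_mk, Prod.mk_mul_mk, inv_sr, inv_r, r_mul_sr, sr_mul_r, sr_mul_sr,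
            inv_one, one_mul, mul_one, inv_mul_cancel, zz, Prod.mk.injEq, r.injEq, and_true]
          linear_combination (-1 : ZMod (2 ^ (a + 1))) * two_quarter ha - two_mid a
    · intro e he
      simpa [mul_assoc] using E.mul_mem he (key e he).1
    · exact key
    · intro u hu
      refine ⟨1, one_mem _, ?_⟩
      have : (u.1 : DD a) = 1 ∨ u.1 = zz a :=
        center_of_nonabelian hx hy hxy (mem_fstImg.2 ⟨u.2, hu.1⟩) fun e he => by
          obtain ⟨e', he'⟩ := mem_fstImg.1 he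
          exact congrArg Prod.fst (Subgroup.mem_centralizer_iff.1 hu.2 _ he')
      rcases this with e | e
      · simp [Prod.ext_iff, e]
      · refine Prod.ext ?_ (by simp)
        show (u.1)⁻¹ * (r (quarter a) * u.1 * (r (quarter a))⁻¹) = 1 * 1
        rw [e, zz_comm, mul_inv_cancel_right, inv_mul_cancel, mul_one]

/-- With an invariant abelian subgroup of elements with rotation first, the whole first factor is in `E`. -/
theorem grow {E : Subgroup (DD a × DD b)} (h : Rad E) (K : Subgroup (DD b))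
    (hinv : Invariant E (E ⊓ (rot a).prod K))
    (hab : ∀ u ∈ E ⊓ (rot a).prod K, ∀ v ∈ E ⊓ (rot a).prod K, u * v = v * u)
    (hz : ((zz a, 1) : DD a × DD b) ∈ E) (d : DD a) : (d, 1) ∈ E := by
  have hU : ∀ i, ((r i, 1) : DD a × DD b) ∈ E → (r i, 1) ∈ E ⊓ (rot a).prod K :=
    fun i hi => ⟨hi, ⟨i, rfl⟩, one_mem K⟩
  have hrot : ∀ (k : ℕ) (j : ZMod (2 ^ (a + 1))), j * 2 ^ (k + 1) = 0 → (r j, 1) ∈ E := by
    intro k
    induction k with
    | zero =>
      intro j hj
      rcases add_self_eq_zero_iff.1 (show j + j = 0 by linear_combination hj) with rfl | rfl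
      · rw [r_zero]; exact one_mem E
      · exact hz
    | succ k ih =>
      intro j hj
      have h2 : ((r (j + j), 1) : DD a × DD b) ∈ E := ih _ (by linear_combination hj)
      have key : ∀ e ∈ E, e⁻¹ * ((r j, (1 : DD b)) * e * (r j, 1)⁻¹) ∈ E ⊓ (rot a).prod K := by
        rintro ⟨e1, e2⟩ -
        cases e1 with
        | r i =>
          have : ((r i, e2) : DD a × DD b)⁻¹ * ((r j, 1) * (r i, e2) * (r j, 1)⁻¹) = (r 0, 1) := by
            simp [Prod.ext_iff, -r_zero]
          rw [this, r_zero]; exact one_mem _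
        | sr i =>
          have : ((sr i, e2) : DD a × DD b)⁻¹ * ((r j, 1) * (sr i, e2) * (r j, 1)⁻¹) =
              (r (j + j), 1)⁻¹ := by
            simp [Prod.ext_iff]; abel
          rw [this]; exact inv_mem (hU _ h2)
      refine h.stab _ _ inf_le_left hinv hab ?_ key ?_
      · intro e he
        simpa [mul_assoc] using E.mul_mem he (key e he).1
      · rintro ⟨u1, u2⟩ ⟨-, ⟨i, hi⟩, -⟩
        obtain rfl : u1 = r i := hi
        exact ⟨1, one_mem _, by simp [Prod.ext_iff]⟩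
  have hr : ∀ j, ((r j, 1) : DD a × DD b) ∈ E := fun j => hrot a j (by
    have : ((2 : ℕ) : ZMod (2 ^ (a + 1))) ^ (a + 1) = 0 := by rw [← Nat.cast_pow, ZMod.natCast_self]
    rw [show ((2 : ℕ) : ZMod (2 ^ (a + 1))) = 2 by norm_cast] at this
    rw [this, mul_zero])
  have hs : ((sr 0, 1) : DD a × DD b) ∈ E := by
    have key : ∀ e ∈ E, e⁻¹ * ((sr 0, (1 : DD b)) * e * (sr 0, 1)⁻¹) ∈ E ⊓ (rot a).prod K := by
      rintro ⟨e1, e2⟩ -
      cases e1 with
      | r i =>
        have : ((r i, e2) : DD a × DD b)⁻¹ * ((sr 0, 1) * (r i, e2) * (sr 0, 1)⁻¹) =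
            (r (-(i + i)), 1) := by
          simp [sub_eq_add_neg]
        rw [this]; exact hU _ (hr _)
      | sr i =>
        have : ((sr i, e2) : DD a × DD b)⁻¹ * ((sr 0, 1) * (sr i, e2) * (sr 0, 1)⁻¹) =
            (r (-(i + i)), 1) := by
          simp [Prod.ext_iff]; abel
        rw [this]; exact hU _ (hr _)
    refine h.stab _ _ inf_le_left hinv hab ?_ key ?_
    · intro e he
      simpa [mul_assoc] using E.mul_mem he (key e he).1
    · rintro ⟨u1, u2⟩ ⟨-, ⟨i, hi⟩, -⟩
      obtain rfl : u1 = r i := hi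
      exact ⟨(r (-i), 1), hU _ (hr _), by simp [Prod.ext_iff]⟩
  cases d with
  | r j => exact hr j
  | sr j => simpa [Prod.ext_iff] using E.mul_mem hs (hr j)

theorem quarter_sq_mem {E : Subgroup (DD a × DD b)} (ha : 1 ≤ a)
    (hq : ((r (quarter a), 1) : DD a × DD b) ∈ E) : ((zz a, 1) : DD a × DD b) ∈ E := by
  have h := E.mul_mem hq hq
  rwa [Prod.mk_mul_mk, quarter_sq ha, mul_one] at h

theorem rot_comm {x y : DD a} (hx : x ∈ rot a) (hy : y ∈ rot a) : x * y = y * x := by
  obtain ⟨i, rfl⟩ := hx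
  obtain ⟨j, rfl⟩ := hy
  rw [r_mul_r, r_mul_r, add_comm i]

theorem mem_rot_of_comm_quarter {x : DD a} (ha : 1 ≤ a) (h : r (quarter a) * x = x * r (quarter a)) :
    x ∈ rot a := by
  cases x with
  | r j => exact ⟨j, rfl⟩
  | sr j => exact absurd h.symm (r_quarter_not_comm ha j)

theorem full_of_four {E : Subgroup (DD a × DD b)} (h : Rad E) (ha : 1 ≤ a)
    (hq : ((r (quarter a), 1) : DD a × DD b) ∈ E) {j : ZMod (2 ^ (b + 1))}
    (h2 : ∀ e ∈ E, e.2 ∈ four j) (d : DD a) : (d, 1) ∈ E := by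
  have hz := quarter_sq_mem ha hq
  refine grow h (four j) ?_ ?_ hz d
  · refine invariant_of_centralizer (fun e => e * e ≠ 1 ∧ e * e * (e * e) = 1)
      (fun f e ⟨e1, e2⟩ => ⟨fun hh => e1 (f.injective (by simpa using hh)),
        by simpa using congrArg f e2⟩) fun u => ⟨fun hu e he => ?_, fun hu => ⟨u.2, ?_, h2 _ u.2⟩⟩
    · refine Subtype.ext (Prod.ext (rot_comm ?_ hu.2.1) (four_comm (h2 _ e.2) (h2 _ u.2)))
      refine sq_rot fun hh => he.1 (Subtype.ext (Prod.ext ?_ ?_))
      · simpa using hh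
      · simpa using four_mul_self (h2 _ e.2)
    · refine mem_rot_of_comm_quarter ha (congrArg Prod.fst (congrArg Subtype.val (hu ⟨_, hq⟩ ⟨?_, ?_⟩)))
      · intro hh
        have := congrArg Prod.fst (congrArg Subtype.val hh)
        simp [quarter_sq ha, zz_ne_one] at this
      · refine Subtype.ext (Prod.ext ?_ ?_)
        · simp [quarter_sq ha, zz_mul_self]
        · simp
  · exact fun u hu v hv => Prod.ext (rot_comm hu.2.1 hv.2.1) (four_comm hu.2.2 hv.2.2)

/-- Elements of order four with a commuting one of another square. -/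
def FourPair {P : Type*} [Group P] (e : P) : Prop :=
  e * e ≠ 1 ∧ e * e * (e * e) = 1 ∧
    ∃ f : P, e * f = f * e ∧ f * f ≠ 1 ∧ f * f * (f * f) = 1 ∧ e * e ≠ f * f

theorem fourPair_map {P : Type*} [Group P] (f : P ≃* P) {e : P} (he : FourPair e) :
    FourPair (f e) := by
  obtain ⟨h1, h2, g, h3, h4, h5, h6⟩ := he
  refine ⟨fun hh => h1 (f.injective (by simpa using hh)), by simpa using congrArg f h2, f g,
    by simpa using congrArg f h3, fun hh => h4 (f.injective (by simpa using hh)),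
    by simpa using congrArg f h5, fun hh => h6 (f.injective (by simpa using hh))⟩

theorem fourPair_rot {e : DD a × DD b} (he : FourPair e) : e.1 ∈ rot a := by
  obtain ⟨h1, h2, f, h3, h4, h5, h6⟩ := he
  obtain ⟨e1, e2⟩ := e
  obtain ⟨f1, f2⟩ := f
  by_contra hr
  have he1 : e1 * e1 = 1 := by by_contra hh; exact hr (sq_rot hh)
  have hf1 : f1 * f1 = 1 := by
    cases e1 with
    | r i => exact absurd ⟨i, rfl⟩ hr
    | sr i => exact four_mul_self (Subgroup.mem_centralizer_singleton_iff.2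
        (congrArg Prod.fst h3).symm : f1 ∈ four i)
  simp only [Prod.mk_mul_mk, Ne, Prod.ext_iff, Prod.fst_one, Prod.snd_one, he1, hf1, true_and,
    mul_one] at h1 h2 h4 h5 h6
  exact h6 (by rw [sq_of_order_four h1 h2, sq_of_order_four h4 h5])

theorem fourPair_rot' {e : DD a × DD b} (he : FourPair e) : e.2 ∈ rot b := by
  obtain ⟨h1, h2, f, h3, h4, h5, h6⟩ := he
  let σ : DD a × DD b ≃* DD b × DD a := MulEquiv.prodComm
  exact fourPair_rot (e := σ e) ⟨fun hh => h1 (σ.injective (by simpa using hh)),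
    by simpa using congrArg σ h2, σ f, by simpa using congrArg σ h3,
    fun hh => h4 (σ.injective (by simpa using hh)), by simpa using congrArg σ h5,
    fun hh => h6 (σ.injective (by simpa using hh))⟩

/-- In a subgroup containing both elements of order four the pairs of rotations are invariant. -/
theorem invariant_rot {E : Subgroup (DD a × DD b)} (ha : 1 ≤ a) (hb : 1 ≤ b)
    (hq : ((r (quarter a), 1) : DD a × DD b) ∈ E) (hq' : ((1, r (quarter b)) : DD a × DD b) ∈ E) :
    Invariant E (E ⊓ (rot a).prod (rot b)) := by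
  refine invariant_of_centralizer (fun e => FourPair e) (fun f e he => fourPair_map f he)
    fun u => ⟨fun hu e he => ?_, fun hu => ⟨u.2, ?_, ?_⟩⟩
  · have he' : FourPair (e : DD a × DD b) := by
      obtain ⟨h1, h2, g, h3, h4, h5, h6⟩ := he
      exact ⟨fun hh => h1 (Subtype.ext hh), congrArg Subtype.val h2, g, congrArg Subtype.val h3,
        fun hh => h4 (Subtype.ext hh), congrArg Subtype.val h5, fun hh => h6 (Subtype.ext hh)⟩
    exact Subtype.ext (Prod.ext (rot_comm (fourPair_rot he') hu.2.1)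
      (rot_comm (fourPair_rot' he') hu.2.2))
  all_goals
    have w1 : FourPair (⟨_, hq⟩ : E) :=
      ⟨by simp [Subtype.ext_iff, Prod.ext_iff, quarter_sq ha, zz_ne_one],
        by simp [Subtype.ext_iff, Prod.ext_iff, quarter_sq ha, zz_mul_self],
        ⟨_, hq'⟩, by simp [Subtype.ext_iff, Prod.ext_iff],
        by simp [Subtype.ext_iff, Prod.ext_iff, quarter_sq hb, zz_ne_one],
        by simp [Subtype.ext_iff, Prod.ext_iff, quarter_sq hb, zz_mul_self],
        by simp [Subtype.ext_iff, Prod.ext_iff, quarter_sq ha, zz_ne_one]⟩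
    have w2 : FourPair (⟨_, hq'⟩ : E) :=
      ⟨by simp [Subtype.ext_iff, Prod.ext_iff, quarter_sq hb, zz_ne_one],
        by simp [Subtype.ext_iff, Prod.ext_iff, quarter_sq hb, zz_mul_self],
        ⟨_, hq⟩, by simp [Subtype.ext_iff, Prod.ext_iff],
        by simp [Subtype.ext_iff, Prod.ext_iff, quarter_sq ha, zz_ne_one],
        by simp [Subtype.ext_iff, Prod.ext_iff, quarter_sq ha, zz_mul_self],
        by simp [Subtype.ext_iff, Prod.ext_iff, quarter_sq hb, zz_ne_one]⟩
  · exact mem_rot_of_comm_quarter ha (congrArg Prod.fst (congrArg Subtype.val (hu _ w1)))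
  · exact mem_rot_of_comm_quarter hb (congrArg Prod.snd (congrArg Subtype.val (hu _ w2)))

theorem full_of_quarters {E : Subgroup (DD a × DD b)} (h : Rad E) (ha : 1 ≤ a) (hb : 1 ≤ b)
    (hq : ((r (quarter a), 1) : DD a × DD b) ∈ E) (hq' : ((1, r (quarter b)) : DD a × DD b) ∈ E)
    (d : DD a) : (d, 1) ∈ E :=
  grow h (rot b) (invariant_rot ha hb hq hq')
    (fun u hu v hv => Prod.ext (rot_comm hu.2.1 hv.2.1) (rot_comm hu.2.2 hv.2.2))
    (quarter_sq_mem ha hq) d

/-- A whole factor or a four group. -/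
def FullOrFour {n : ℕ} (D : Subgroup (DD n)) : Prop := D = ⊤ ∨ ∃ i, D = four i

theorem Rad.classify {E : Subgroup (DD a × DD b)} (h : Rad E) :
    ∃ (E₁ : Subgroup (DD a)) (E₂ : Subgroup (DD b)),
      FullOrFour E₁ ∧ FullOrFour E₂ ∧ E = E₁.prod E₂ := by
  set σ : DD a × DD b ≃* DD b × DD a := MulEquiv.prodComm with hσ
  have hmem : ∀ x y, ((x, y) : DD b × DD a) ∈ E.map σ.toMonoidHom ↔ ((y, x) : DD a × DD b) ∈ E := by
    intro x y
    refine ⟨fun ⟨⟨u, v⟩, hu, e⟩ => ?_, fun hh => ⟨(y, x), hh, rfl⟩⟩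
    cases e; exact hu
  have h' := h.map σ
  have mk : ∀ (E₁ : Subgroup (DD a)) (E₂ : Subgroup (DD b)), (∀ e ∈ E, e.1 ∈ E₁ ∧ e.2 ∈ E₂) →
      (∀ d ∈ E₁, (d, 1) ∈ E) → (∀ d ∈ E₂, (1, d) ∈ E) → E = E₁.prod E₂ := by
    intro E₁ E₂ hle h1 h2
    refine le_antisymm (fun e he => hle e he) ?_
    rintro ⟨d, d'⟩ ⟨hd, hd'⟩
    simpa using E.mul_mem (h1 d hd) (h2 d' hd')
  rcases side_cases h with ⟨i, hi, hi'⟩ | ⟨ha, hq⟩
  · rcases side_cases h' with ⟨j, hj, hj'⟩ | ⟨hb, hq'⟩
    · exact ⟨_, _, Or.inr ⟨i, rfl⟩, Or.inr ⟨j, rfl⟩, mk _ _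
        (fun e he => ⟨hi e he, hj (e.2, e.1) ((hmem _ _).2 he)⟩) hi'
        fun d hd => (hmem _ _).1 (hj' d hd)⟩
    · exact ⟨_, ⊤, Or.inr ⟨i, rfl⟩, Or.inl rfl, mk _ _ (fun e he => ⟨hi e he, trivial⟩) hi'
        fun d _ => (hmem _ _).1 (full_of_four h' hb hq'
          (fun e he => hi (e.2, e.1) ((hmem e.1 e.2).1 he)) d)⟩
  · rcases side_cases h' with ⟨j, hj, hj'⟩ | ⟨hb, hq'⟩
    · exact ⟨⊤, _, Or.inl rfl, Or.inr ⟨j, rfl⟩, mk _ _
        (fun e he => ⟨trivial, hj (e.2, e.1) ((hmem _ _).2 he)⟩)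
        (fun d _ => full_of_four h ha hq (fun e he => hj (e.2, e.1) ((hmem _ _).2 he)) d)
        fun d hd => (hmem _ _).1 (hj' d hd)⟩
    · exact ⟨⊤, ⊤, Or.inl rfl, Or.inl rfl, mk _ _ (fun e _ => ⟨trivial, trivial⟩)
        (fun d _ => full_of_quarters h ha hb hq ((hmem _ _).1 hq') d)
        fun d _ => (hmem _ _).1 (full_of_quarters h' hb ha hq' ((hmem _ _).2 hq) d)⟩

end Cfsg.Agent.DihedralPair
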