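import Cfsg.Agent.Lib.DihedralPair.Graph

/-
The second factor elementary of order four (owner: helper76).

* `Setting.exists_graph_single` : the first factor
* `Setting.exists_centralizing` : some box has an odd automorphism fixing the transvection
* `Setting.factor_single` : the strongly closed factors
-/

set_option autoImplicit false

namespace Cfsg.Agent.DihedralPair

open DihedralGroup Cfsg Cfsg.FusionSystem Cfsg.Agent.Fusion

variable {a : ℕ} {G : Type*} [Group G] [Finite G] {ι : DD a × DD 0 →* G} {T : Sylow 2 G}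

theorem quad_zero (i : ZMod (2 ^ (a + 1))) (j : ZMod (2 ^ (0 + 1))) : quad ι i j = quad ι i 0 := by
  rw [quad, quad, eq_four_or_rot_comm (i := j) rfl, eq_four_or_rot_comm (i := (0 : ZMod (2 ^ (0 + 1)))) rfl]

theorem Setting.all_active_single (S : Setting ι T) (ha : 1 ≤ a)
    (h2 : ∀ H : Subgroup G, H.index ≠ 2) (i : ZMod (2 ^ (a + 1))) : Active (S.box i 0) := by
  obtain ⟨i₀, j₀, hi, hA⟩ := S.exists_active ha h2 (par i)
  have h := S.active_conj hi hA
  revert h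
  suffices ∀ (R : Subgroup G) (B : Box ι T i j₀ R) (R' : Subgroup G) (B' : Box ι T i 0 R'),
      R = R' → Active B → Active B' from this _ (S.box i j₀) _ (S.box i 0) (quad_zero i j₀)
  rintro R B R' B' rfl h
  exact h

theorem Setting.exists_graph_single (S : Setting ι T) (ha : 1 ≤ a)
    (h2 : ∀ H : Subgroup G, H.index ≠ 2) :
    ∃ f : DD a →* DD 0, f (zz a) = 1 ∧ (∀ i j, Fixes ι (quad ι i j) i (f (sr i))) ∧
      IsStronglyClosed ((graphSub f).map ι) (T : Subgroup G) := by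
  choose rep hrep using exists_par a
  have hspec : ∀ i, ∃ w, Fixes ι (quad ι i 0) i w := fun i => by
    obtain ⟨w, -, -, hF, -⟩ := (S.box i 0).active_spec ha (S.all_active_single ha h2 i)
    exact ⟨w, hF⟩
  choose W hF using hspec
  obtain ⟨f, hf, hfz, hfs⟩ := exists_hom ha (fun ε => W (rep ε)) fun ε => isSmall_zero rfl _
  have hfix : ∀ i j, Fixes ι (quad ι i j) i (f (sr i)) := fun i j => by
    rw [quad_zero, hf]
    exact S.fixes_conj (hrep (par i)) (hF _)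
  exact ⟨f, hfz, hfix, S.closed_graph ha f hfs hfz hfix⟩

theorem Setting.exists_centralizing (S : Setting ι T) (ha : 1 ≤ a)
    (h2 : ∀ H : Subgroup G, H.index ≠ 2) :
    ∃ i, ∃ c ∈ oddAut (quad ι i (0 : ZMod (2 ^ (0 + 1)))),
      c * (S.box i 0).x ha * c⁻¹ = (S.box i 0).x ha ∧ c ≠ 1 := by
  by_contra hne
  push Not at hne
  obtain ⟨f, hfz, hfix, -⟩ := S.exists_graph_single ha h2
  set χ : DD a × DD 0 →* Multiplicative (ZMod 2) :=
    ((parHom 0).comp (MonoidHom.snd (DD a) (DD 0))) *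
      (((parHom 0).comp f).comp (MonoidHom.fst (DD a) (DD 0))) with hχ
  have hgraph : ∀ p ∈ graphSub f, χ p = 1 := fun p hp => by
    show parHom 0 p.2 * parHom 0 (f p.1) = 1
    rw [mem_graphSub.1 hp]
    exact (by decide : ∀ u : Multiplicative (ZMod 2), u * u = 1) _
  refine S.not_invariant (Or.inl ha) h2 χ (p₀ := (1, r 1)) ?_ ?_
  · show parHom 0 (r 1) * parHom 0 (f 1) ≠ 1
    rw [map_one, map_one, mul_one, parHom_r, map_one]
    decide
  intro i j o ho x p q hp hq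
  obtain ⟨o', ho', x', hp', hq'⟩ : ∃ o' ∈ oddAut (quad ι i (0 : ZMod (2 ^ (0 + 1)))),
      ∃ x' : quad ι i (0 : ZMod (2 ^ (0 + 1))), (x' : G) = ι p ∧ (o' x' : G) = ι q := by
    revert ho hp hq
    revert o x
    rw [quad_zero i j]
    exact fun o x ho hp hq => ⟨o, ho, x, hp, hq⟩
  clear hp hq ho
  set B := S.box i 0
  obtain ⟨u, M⟩ := B.exists_moved ha (S.all_active_single ha h2 i)
  have hval : ∀ y ∈ M.W, ∀ p, (y : G) = ι p → χ p = 1 := by
    obtain ⟨v, w, hv, -, e⟩ := B.exists_eq (u B.z)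
    have hzg : ((zz a, 1) : DD a × DD 0) ∈ graphSub f := mem_graphSub.2 hfz.symm
    have hvg : (v, w) ∈ graphSub f := (mem_graph_box hfz hv).2
      (hfix i 0 u M.mem B.z (zz a, 1) (v, w) rfl e (Or.inr (Or.inl rfl)))
    intro y hy p hp
    refine hgraph p ?_
    rcases M.mem_W.1 hy with rfl | rfl | rfl | rfl
    · rw [show p = 1 from S.inj (hp.symm.trans (map_one ι).symm)]; exact one_mem _
    · rwa [show p = (zz a, 1) from S.inj hp.symm]
    · rwa [show p = (v, w) from S.inj (hp.symm.trans e)]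
    · rw [show p = (zz a, 1) * (v, w) from S.inj (by
        rw [← hp, map_mul, Subgroup.coe_mul, e]; rfl)]
      exact mul_mem hzg hvg
  have hcomm : x' * o' x' ∈ M.W := by
    obtain ⟨c, hc, hcx, h⟩ := M.orbit_cases ho'
    rw [hne i c hc hcx] at h
    rcases h with rfl | rfl | rfl
    · show x' * x' ∈ _
      rw [B.sq]; exact one_mem _
    · rw [mul_one]; exact M.commutator_mem x'
    · rw [mul_one]
      have := mul_mem (M.commutator_mem x') (M.commutator_mem (u x'))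
      rwa [← mul_assoc, mul_assoc x', B.sq, mul_one] at this
  have h := hval _ hcomm (p * q) (by rw [Subgroup.coe_mul, hp', hq', map_mul])
  rw [map_mul] at h
  exact (by decide : ∀ u v : Multiplicative (ZMod 2), u * v = 1 → u = v) _ _ h

/-- Central pairs. -/
def InZ (p : DD a × DD 0) : Prop := p.1 = 1 ∨ p.1 = zz a

theorem InZ.mem_four {p : DD a × DD 0} (h : InZ p) (i : ZMod (2 ^ (a + 1)))
    (j : ZMod (2 ^ (0 + 1))) : p.1 ∈ four i ∧ p.2 ∈ four j :=
  ⟨((isSmall_zz (h : p.1 = 1 ∨ p.1 = zz a)).1 i), (isSmall_zero rfl p.2).1 j⟩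

theorem InZ.comm {p : DD a × DD 0} (h : InZ p) (q : DD a × DD 0) : q * p = p * q :=
  Prod.ext ((isSmall_zz (h : p.1 = 1 ∨ p.1 = zz a)).2 q.1) ((isSmall_zero rfl p.2).2 q.2)

theorem Setting.exists_normalizer_action (S : Setting ι T) (g : G)
    (hg : ∀ p, InZ p → ∃ p', InZ p' ∧ g * ι p * g⁻¹ = ι p') :
    ∃ n ∈ normalizerIn ⊤ (T : Subgroup G), ∀ p, InZ p → n * ι p * n⁻¹ = g * ι p * g⁻¹ := by
  set Z : Set G := {x | ∃ p, InZ p ∧ x = ι p}
  have hC : (T : Subgroup G) ≤ Subgroup.centralizer Z := fun t ht => by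
    obtain ⟨u, rfl⟩ := S.exists_rep ht
    rw [Subgroup.mem_centralizer_iff]
    rintro _ ⟨p, hp, rfl⟩
    rw [← map_mul, ← map_mul, hp.comm u]
  have hfin : Function.Surjective (fun p : {p : DD a × DD 0 // InZ p} =>
      (⟨(hg p.1 p.2).choose, (hg p.1 p.2).choose_spec.1⟩ : {p : DD a × DD 0 // InZ p})) := by
    refine Finite.surjective_of_injective fun p q e => ?_
    have e' := congrArg (fun r : {p : DD a × DD 0 // InZ p} => ι r.1) e
    simp only [← (hg p.1 p.2).choose_spec.2, ← (hg q.1 q.2).choose_spec.2] at e'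
    exact Subtype.ext (S.inj (mul_left_cancel (mul_right_cancel e')))
  have hle : (T : Subgroup G).map (MulAut.conj g).toMonoidHom ≤ Subgroup.centralizer Z := by
    rintro _ ⟨t, ht, rfl⟩
    rw [Subgroup.mem_centralizer_iff]
    rintro _ ⟨p, hp, rfl⟩
    obtain ⟨⟨p₀, hp₀⟩, e⟩ := hfin ⟨p, hp⟩
    have e' : (hg p₀ hp₀).choose = p := congrArg Subtype.val e
    have e'' := (hg p₀ hp₀).choose_spec.2
    rw [e'] at e''
    rw [← e'']
    show g * ι p₀ * g⁻¹ * (g * t * g⁻¹) = g * t * g⁻¹ * (g * ι p₀ * g⁻¹)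
    have := Subgroup.mem_centralizer_iff.1 (hC ht) _ ⟨p₀, hp₀, rfl⟩
    calc g * ι p₀ * g⁻¹ * (g * t * g⁻¹) = g * (ι p₀ * t) * g⁻¹ := by group
      _ = g * (t * ι p₀) * g⁻¹ := by rw [this]
      _ = g * t * g⁻¹ * (g * ι p₀ * g⁻¹) := by group
  obtain ⟨c, hc, hcT⟩ := ((isSylowIn_top T).mono hC le_top).exists_conj_le (T.isPGroup'.map _) hle
  refine ⟨c * g, mem_normalizerIn_of_conj trivial fun t ht => ?_, fun p hp => ?_⟩
  · have := hcT _ ⟨t, ht, rfl⟩
    rwa [show c * g * t * (c * g)⁻¹ = c * (MulAut.conj g t) * c⁻¹ by simp [mul_assoc]]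
  · obtain ⟨p', hp', e⟩ := hg p hp
    rw [show c * g * ι p * (c * g)⁻¹ = c * (g * ι p * g⁻¹) * c⁻¹ by group, e,
      ← Subgroup.mem_centralizer_iff.1 hc _ ⟨p', hp', rfl⟩, mul_inv_cancel_right]

theorem Setting.conj_quad_par (S : Setting ι T) {n : G}
    (hn : n ∈ normalizerIn ⊤ (T : Subgroup G)) (i : ZMod (2 ^ (a + 1))) :
    ∃ l, (quad ι i (0 : ZMod (2 ^ (0 + 1)))).map (MulAut.conj n).toMonoidHom = quad ι l 0 := by
  have hle : (quad ι i (0 : ZMod (2 ^ (0 + 1)))).map (MulAut.conj n).toMonoidHom ≤ T := by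
    rintro _ ⟨x, hx, rfl⟩
    exact normalizerIn_conj hn ((S.box i 0).le hx)
  obtain ⟨l, m, B⟩ := S.box_of_elementary hle
    (by rw [Subgroup.card_map_of_injective (MulAut.conj n).injective, (S.box i 0).card]) (by
      rintro _ ⟨x, hx, rfl⟩
      rw [← map_mul, show x * x = 1 from congrArg Subtype.val ((S.box i 0).sq ⟨x, hx⟩), map_one])
  exact ⟨l, B.eq.trans (quad_zero l m)⟩

theorem par_eq_of_quad {i l : ZMod (2 ^ (a + 1))} (S : Setting ι T) (ha : 1 ≤ a)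
    (h : quad ι i (0 : ZMod (2 ^ (0 + 1))) = quad ι l 0) : par i = par l := by
  have hm : ι (sr i, 1) ∈ quad ι l (0 : ZMod (2 ^ (0 + 1))) :=
    h ▸ ⟨_, ⟨sr_mem_four i, one_mem _⟩, rfl⟩
  rcases mem_four.1 ((S.box l 0).mem_iff.1 hm).1 with e | e | e | e
  · exact absurd ((show (sr i : DD a) = 1 from e) ▸ one_mem _) (sr_not_mem_rot i)
  · exact absurd ((show (sr i : DD a) = zz a from e) ▸ ⟨mid a, rfl⟩) (sr_not_mem_rot i)
  · rw [sr.inj e]
  · rw [sr.inj e, map_add, par_mid ha, add_zero]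

theorem Setting.class_of_sq (S : Setting ι T) (ha : 1 ≤ a) {n : G}
    (hn : n ∈ normalizerIn ⊤ (T : Subgroup G)) (i : ZMod (2 ^ (a + 1))) :
    ∃ l, par l = par i ∧
      (quad ι i (0 : ZMod (2 ^ (0 + 1)))).map (MulAut.conj (n * n)).toMonoidHom = quad ι l 0 := by
  choose rep hrep using exists_par a
  choose L hL using fun (m : normalizerIn ⊤ (T : Subgroup G)) (k : ZMod (2 ^ (a + 1))) =>
    S.conj_quad_par m.2 k
  have hwell : ∀ (m : normalizerIn ⊤ (T : Subgroup G)) k k',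
      par k = par k' → par (L m k) = par (L m k') := by
    intro m k k' hk
    obtain ⟨d, hd⟩ := exists_conj_of_par hk
    obtain ⟨⟨e1, e2⟩, he⟩ := S.exists_rep (normalizerIn_conj m.2 (S.mem (d, 1)))
    obtain ⟨q, hq, hcon⟩ := conj_par e1 (L m k)
    have he2 : ι (e1, e2) = ι (e1, 1) * ι (1, e2) := by rw [← map_mul]; simp
    have hfix : (quad ι (L m k) (0 : ZMod (2 ^ (0 + 1)))).map (MulAut.conj (ι (1, e2))).toMonoidHom =
        quad ι (L m k) 0 := by
      have hid : ∀ x ∈ quad ι (L m k) (0 : ZMod (2 ^ (0 + 1))), MulAut.conj (ι (1, e2)) x = x := by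
        rintro _ ⟨⟨v, w⟩, -, rfl⟩
        rw [MulAut.conj_apply, ← map_inv, ← map_mul, ← map_mul]
        congr 1
        exact Prod.ext (by simp) (by simp [(isSmall_zero rfl w).2 e2])
      ext x
      exact ⟨fun ⟨y, hy, e⟩ => e ▸ ((hid y hy).symm ▸ hy), fun hx => ⟨x, hx, hid x hx⟩⟩
    have key : quad ι (L m k') (0 : ZMod (2 ^ (0 + 1))) = quad ι q 0 := by
      rw [← hL m k', ← map_quad_conj (ι := ι) hd, Subgroup.map_map,
        ← map_quad_conj (ι := ι) hcon]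
      rw [← hfix]
      rw [Subgroup.map_map, ← hL m k, Subgroup.map_map]
      congr 1
      ext x
      have he' : (m : G) * ι (d, 1) * (m : G)⁻¹ = ι (e1, 1) * ι (1, e2) := he2 ▸ he.symm
      simp only [MonoidHom.coe_comp, MulEquiv.coe_toMonoidHom, Function.comp_apply, MulAut.conj_apply]
      calc (m : G) * (ι (d, 1) * x * (ι (d, 1))⁻¹) * (m : G)⁻¹
          = ((m : G) * ι (d, 1) * (m : G)⁻¹) * ((m : G) * x * (m : G)⁻¹) *
            ((m : G) * ι (d, 1) * (m : G)⁻¹)⁻¹ := by group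
        _ = _ := by rw [he']; group
    rw [← hq, par_eq_of_quad S ha key]
  set nn : normalizerIn ⊤ (T : Subgroup G) := ⟨n, hn⟩
  set π : ZMod 2 → ZMod 2 := fun e => par (L nn (rep e))
  set π' : ZMod 2 → ZMod 2 := fun e => par (L nn⁻¹ (rep e))
  have hπ : ∀ k, par (L nn k) = π (par k) := fun k => hwell nn _ _ (hrep _).symm
  have hπ' : ∀ k, par (L nn⁻¹ k) = π' (par k) := fun k => hwell nn⁻¹ _ _ (hrep _).symm
  have hinv : ∀ e, π' (π e) = e := by
    intro e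
    rw [← hπ']
    refine (par_eq_of_quad S ha ?_).trans (hrep e)
    rw [← hL, ← hL, Subgroup.map_map]
    conv_rhs => rw [← Subgroup.map_id (quad ι (rep e) 0)]
    congr 1
    ext x
    simp [nn, mul_assoc]
  refine ⟨L nn (L nn i), ?_, ?_⟩
  · rw [hπ, hπ]
    exact (by decide : ∀ (π π' : ZMod 2 → ZMod 2), (∀ e, π' (π e) = e) → ∀ e, π (π e) = e) π π' hinv _
  · rw [← hL, ← hL, Subgroup.map_map]
    congr 1
    ext x
    simp [nn, mul_assoc]

theorem Setting.exists_complement (S : Setting ι T) (ha : 1 ≤ a)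
    (h2 : ∀ H : Subgroup G, H.index ≠ 2) :
    ∃ X : Subgroup (DD a × DD 0), (∀ p ∈ X, InZ p) ∧ Nat.card X = 4 ∧
      ((zz a, 1) : DD a × DD 0) ∉ X ∧
      ∀ i j, ∀ o ∈ oddAut (quad ι i j), ∀ (x : quad ι i j) (p q : DD a × DD 0),
        (x : G) = ι p → (o x : G) = ι q → p ∈ X → q ∈ X := by
  obtain ⟨i₀, c, hc, hcx, hc1⟩ := S.exists_centralizing ha h2
  set B₀ := S.box i₀ 0
  obtain ⟨g, -, hg⟩ := mem_autInducedBy_iff.1 (oddAut_le _ hc)
  obtain ⟨hcz, hcA⟩ := (B₀.base ha).fix_of_comm hcx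
  have hax : ∀ {i : ZMod (2 ^ (a + 1))} (q : quad ι i (0 : ZMod (2 ^ (0 + 1)))),
      q ∈ (S.box i 0).ax ↔ ∃ p, InZ p ∧ (q : G) = ι p := by
    intro i q
    obtain ⟨v, w, hv, -, e⟩ := (S.box i 0).exists_eq q
    rw [(S.box i 0).mem_ax e]
    refine ⟨fun h => ⟨(v, w), four_rot hv h, e⟩, fun ⟨p, hp, e'⟩ => ?_⟩
    obtain rfl : (v, w) = p := S.inj (e.symm.trans e')
    rcases hp with h | h <;> simp only at h <;> subst h
    exacts [one_mem _, ⟨mid a, rfl⟩]
  have elt : ∀ (i : ZMod (2 ^ (a + 1))) p, InZ p → ∃ q : quad ι i (0 : ZMod (2 ^ (0 + 1))),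
      q ∈ (S.box i 0).ax ∧ (q : G) = ι p := fun i p hp =>
    ⟨⟨ι p, (S.box i 0).mem_iff.2 (hp.mem_four i 0)⟩, (hax _).2 ⟨p, hp, rfl⟩, rfl⟩
  obtain ⟨n, hn, hnZ⟩ := S.exists_normalizer_action g (fun p hp => by
    obtain ⟨q, hq, e⟩ := elt i₀ p hp
    obtain ⟨p', hp', e'⟩ := (hax _).1 ((hcA q).2 hq)
    exact ⟨p', hp', by rw [← e, ← e', hg]⟩)
  have hv : ∀ q ∈ B₀.ax, (((c * c) q : quad ι i₀ (0 : ZMod (2 ^ (0 + 1)))) : G) = (n * n) * q * (n * n)⁻¹ := by
    intro q hq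
    obtain ⟨p, hp, e⟩ := (hax q).1 hq
    obtain ⟨p', hp', e'⟩ := (hax _).1 ((hcA q).2 hq)
    have h1 : (c q : G) = n * q * n⁻¹ := by rw [hg, e, hnZ p hp]
    show ((c (c q) : quad ι i₀ (0 : ZMod (2 ^ (0 + 1)))) : G) = _
    rw [hg, e', ← hnZ p' hp', ← e', h1]
    group
  have hvO : c * c ∈ oddAut (quad ι i₀ (0 : ZMod (2 ^ (0 + 1)))) := mul_mem hc hc
  have hvx : (c * c) * B₀.x ha * (c * c)⁻¹ = B₀.x ha := by
    calc (c * c) * B₀.x ha * (c * c)⁻¹ = c * (c * B₀.x ha * c⁻¹) * c⁻¹ := by group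
      _ = B₀.x ha := by rw [hcx, hcx]
  have hv1 : c * c ≠ 1 := fun h => hc1 ((B₀.base ha).eq_one_of_sq hc h)
  obtain ⟨a₀, ha₀, ha₀e⟩ := elt i₀ (1, sr 0) (Or.inl rfl)
  have hva : (c * c) a₀ ≠ a₀ := fun h => hv1 (Lin.eq_one_of_fix (B₀.base ha) hvO hvx ha₀
    (fun e => by
      have := congrArg Prod.snd (S.inj (ha₀e.symm.trans ((congrArg Subtype.val e).trans (map_one ι).symm)))
      exact sr_not_mem_rot (0 : ZMod (2 ^ (0 + 1)))
        ((show (sr 0 : DD 0) = 1 from this).symm ▸ one_mem _))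
    (fun e => by
      have := congrArg Prod.fst (S.inj (ha₀e.symm.trans (congrArg Subtype.val e : (a₀ : G) = ι (zz a, 1))))
      exact zz_ne_one a this.symm) h)
  -- the same commutators in every box
  have hall : ∀ i, ∃ u, ∃ M : Lin.Moved ((S.box i (0 : ZMod (2 ^ (0 + 1)))).x ha) (S.box i 0).z
      (S.box i 0).ax (oddAut (quad ι i 0)) u,
      ∀ q, q ∈ M.U ↔ ∃ p, InZ p ∧ (q : G) = ι p * ((n * n) * ι p * (n * n)⁻¹) := by
    intro i
    obtain ⟨u, M⟩ := (S.box i 0).exists_moved ha (S.all_active_single ha h2 i)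
    obtain ⟨l, hl, hmap⟩ := S.class_of_sq ha hn i
    obtain ⟨d, hd⟩ := exists_conj_of_par hl
    set k := ι (d, 1) * (n * n) with hk
    have hkin : ∀ x ∈ quad ι i (0 : ZMod (2 ^ (0 + 1))), k * x * k⁻¹ ∈ quad ι i 0 := fun x hx => by
      rw [← map_quad_conj (ι := ι) hd, ← hmap]
      exact ⟨_, ⟨x, hx, rfl⟩, by simp [hk, mul_assoc]⟩
    have hkn := mem_normalizerIn_of_conj (S := ⊤) trivial hkin
    obtain ⟨o, ho, p, hp, hop⟩ := (S.box i 0).good.decomp (normConj ⊤ (quad ι i 0) ⟨k, hkn⟩)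
      (range_normConj ⊤ (quad ι i (0 : ZMod (2 ^ (0 + 1)))) ▸ ⟨_, rfl⟩)
    have hpfix : ∀ q ∈ (S.box i 0).ax, p q = q := by
      intro q hq
      rcases (S.box i 0).aut_sylow_cases hp with rfl | ⟨_, rfl⟩ | ⟨hb, -⟩ | ⟨_, hb, -⟩
      · rfl
      · exact ((S.box i 0).transv ha).fix q hq
      all_goals exact absurd hb (by norm_num)
    have hcn : ∀ r, InZ r → ∃ r', InZ r' ∧ (n * n) * ι r * (n * n)⁻¹ = ι r' := by
      intro r hr
      obtain ⟨q', hq', e'⟩ := elt i₀ r hr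
      have hmemA : (c * c) q' ∈ B₀.ax := ((hcA (c q')).2 ((hcA q').2 hq'))
      obtain ⟨r', hr', e''⟩ := (hax _).1 hmemA
      exact ⟨r', hr', by rw [← e', ← hv q' hq', e'']⟩
    have hoA : ∀ q ∈ (S.box i 0).ax, ∀ r, InZ r → (q : G) = ι r →
        (o q : G) = (n * n) * ι r * (n * n)⁻¹ ∧ o q ∈ (S.box i 0).ax := by
      intro q hq r hr e
      obtain ⟨r', hr', e'⟩ := hcn r hr
      have h1 : (o q : G) = k * q * k⁻¹ := by
        have := congrArg (fun φ : MulAut (quad ι i (0 : ZMod (2 ^ (0 + 1)))) => (φ q : G)) hop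
        simp only [MulAut.mul_apply, hpfix q hq] at this
        exact this.symm
      have h3 : (o q : G) = ι r' := by
        rw [h1, e, hk]
        calc ι (d, 1) * (n * n) * ι r * (ι (d, 1) * (n * n))⁻¹
            = ι (d, 1) * ((n * n) * ι r * (n * n)⁻¹) * (ι (d, 1))⁻¹ := by group
          _ = ι r' := by
            rw [e', ← map_inv, ← map_mul, ← map_mul, hr'.comm, mul_inv_cancel_right]
      exact ⟨h3.trans e'.symm, (hax _).2 ⟨r', hr', h3⟩⟩
    have hoz : o (S.box i 0).z = (S.box i 0).z := by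
      have h1 := (hoA (S.box i 0).z ((S.box i 0).transv ha).mem (zz a, 1) (Or.inr rfl) rfl).1
      have h4 : (((c * c) B₀.z : quad ι i₀ (0 : ZMod (2 ^ (0 + 1)))) : G) =
          (n * n) * ι (zz a, 1) * (n * n)⁻¹ := hv B₀.z (B₀.transv ha).mem
      rw [MulAut.mul_apply, hcz, hcz] at h4
      exact Subtype.ext (h1.trans h4.symm)
    have hA1 : ∀ q ∈ (S.box i 0).ax, o q ∈ (S.box i 0).ax := fun q hq => by
      obtain ⟨r, hr, e⟩ := (hax q).1 hq
      exact (hoA q hq r hr e).2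
    have hA2 : ∀ q ∈ (S.box i 0).ax, o⁻¹ q ∈ (S.box i 0).ax := by
      intro q hq
      have hs : Function.Surjective
          (fun y : (S.box i 0).ax => (⟨o y, hA1 y y.2⟩ : (S.box i 0).ax)) :=
        Finite.surjective_of_injective fun y y' e => Subtype.ext (o.injective (congrArg Subtype.val e))
      obtain ⟨y, hy⟩ := hs ⟨q, hq⟩
      have hyq : o y = q := congrArg Subtype.val hy
      rw [← hyq, MulAut.inv_apply_self]
      exact y.2
    have hox := ((S.box i 0).base ha).comm_of_fix hoz hA2 hA1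
    have ho1 : o ≠ 1 := by
      intro h
      obtain ⟨q, hq, e⟩ := elt i (1, sr 0) (Or.inl rfl)
      have h1 := (hoA q hq _ (Or.inl rfl) e).1
      refine hva (Subtype.ext ?_)
      rw [hv a₀ ha₀, ha₀e, ← h1, h, ← e]
      rfl
    refine ⟨u, M, fun q => ?_⟩
    rw [M.mem_U_iff_commutator ho hox ho1]
    constructor
    · rintro ⟨y, hy, rfl⟩
      obtain ⟨r, hr, e⟩ := (hax y).1 hy
      exact ⟨r, hr, by rw [Subgroup.coe_mul, (hoA y hy r hr e).1, e]⟩
    · rintro ⟨r, hr, e'⟩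
      obtain ⟨y, hy, e⟩ := elt i r hr
      exact ⟨y, hy, Subtype.ext (by rw [Subgroup.coe_mul, (hoA y hy r hr e).1, e, e'])⟩
  obtain ⟨u₀, M₀, hM₀⟩ := hall i₀
  refine ⟨(M₀.U.map (quad ι i₀ (0 : ZMod (2 ^ (0 + 1)))).subtype).comap ι, ?_, ?_, ?_, ?_⟩
  · intro p hp
    obtain ⟨q, hq, e⟩ := hp
    obtain ⟨r, hr, e'⟩ := (hax q).1 (M₀.U_le hq)
    rwa [show p = r from S.inj (e.symm.trans e')]
  · rw [← Subgroup.card_map_of_injective S.inj, Subgroup.map_comap_eq_self (fun x hx => by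
      obtain ⟨q, -, rfl⟩ := hx
      exact S.range ▸ B₀.le q.2), Subgroup.card_map_of_injective (Subgroup.subtype_injective _)]
    exact M₀.decomp.1
  · rintro ⟨q, hq, e⟩
    obtain rfl : q = B₀.z := Subtype.ext e
    exact M₀.base.tv.ne (M₀.W_inf_U (M₀.mem_W.2 (Or.inr (Or.inl rfl))) hq)
  · intro i j
    rw [quad_zero i j]
    intro o ho x p q hp hq hpX
    obtain ⟨u, M, hM⟩ := hall i
    have hiff : ∀ (y : quad ι i (0 : ZMod (2 ^ (0 + 1)))) r, (y : G) = ι r →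
        (ι r ∈ M₀.U.map (quad ι i₀ (0 : ZMod (2 ^ (0 + 1)))).subtype ↔ y ∈ M.U) := by
      intro y r hy
      rw [hM]
      refine ⟨fun ⟨w, hw, e⟩ => ?_, fun ⟨s, hs, e⟩ => ?_⟩
      · obtain ⟨s, hs, e'⟩ := (hM₀ w).1 hw
        exact ⟨s, hs, by rw [hy, ← e', ← e]; rfl⟩
      · obtain ⟨w1, hw1, e1⟩ := elt i₀ s hs
        refine ⟨w1 * (c * c) w1, (hM₀ _).2 ⟨s, hs, ?_⟩, ?_⟩
        · rw [Subgroup.coe_mul, hv w1 hw1, e1]
        · show ((w1 * (c * c) w1 : quad ι i₀ (0 : ZMod (2 ^ (0 + 1)))) : G) = _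
          rw [Subgroup.coe_mul, hv w1 hw1, e1, ← e, hy]
    exact (hiff (o x) q hq).2 (M.mem_U_of_mem ho ((hiff x p hp).1 hpX))

theorem Setting.factor_single (S : Setting ι T) (ha : 1 ≤ a)
    (h2 : ∀ H : Subgroup G, H.index ≠ 2) :
    ∃ R₁ R₂ : Subgroup G, IsInternalDirectProduct R₁ R₂ (T : Subgroup G) ∧
      Nonempty (R₁ ≃* DD a) ∧ Nonempty (R₂ ≃* DD 0) ∧
      IsStronglyClosed R₁ (T : Subgroup G) ∧ IsStronglyClosed R₂ (T : Subgroup G) := by
  obtain ⟨f, hfz, -, hf'⟩ := S.exists_graph_single ha h2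
  obtain ⟨X, hXZ, hXcard, hXz, hXbox⟩ := S.exists_complement ha h2
  have hn : X.Normal := ⟨fun p hp u => by rw [(hXZ p hp).comm, mul_inv_cancel_right]; exact hp⟩
  have hX' : IsStronglyClosed (X.map ι) (T : Subgroup G) := by
    refine S.closed_of_boxes (Or.inl ha) X hXbox ?_
    rintro E (⟨i, rfl⟩ | ⟨j, rfl⟩) p hpE hp
    · exact Subgroup.subset_closure ⟨hp, i, 0, Subgroup.prod_mono le_rfl le_top, hpE.1,
        ((hXZ p hp).mem_four i 0).2⟩
    · exact Subgroup.subset_closure ⟨hp, 0, j, Subgroup.prod_mono le_top le_rfl,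
        ((hXZ p hp).mem_four 0 j).1, hpE.2⟩
  have hinj : Function.Injective ((MonoidHom.snd (DD a) (DD 0)).comp X.subtype) := by
    rw [injective_iff_map_eq_one]
    rintro ⟨⟨v, w⟩, hp⟩ (h : w = 1)
    subst h
    rcases hXZ _ hp with e | e <;> simp only at e <;> subst e
    · rfl
    · exact absurd hp hXz
  have hbij := hinj.bijective_of_nat_card_le (by rw [hXcard, DihedralGroup.nat_card]; norm_num)
  refine ⟨_, _, ⟨hf'.1, hX'.1, ?_, ?_, ?_⟩, S.graph_equiv f,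
    ⟨(X.equivMapOfInjective ι S.inj).symm.trans (MulEquiv.ofBijective _ hbij)⟩, hf', hX'⟩
  · rintro _ ⟨p, -, rfl⟩ _ ⟨q, hq, rfl⟩
    rw [← map_mul, ← map_mul, (hXZ q hq).comm p]
  · refine (Subgroup.eq_bot_iff_forall _).2 ?_
    rintro g ⟨⟨⟨v, w⟩, hp, e⟩, ⟨q, hq, e'⟩⟩
    obtain rfl : q = (v, w) := S.inj (e'.trans e.symm)
    obtain rfl : w = f v := mem_graphSub.1 hp
    rw [← e]
    rcases hXZ _ hq with h | h <;> simp only at h <;> subst h
    · rw [map_one, Prod.mk_one_one, map_one]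
    · rw [hfz] at hq; exact absurd hq hXz
  · refine le_antisymm (sup_le hf'.1 hX'.1) fun g hg => ?_
    obtain ⟨⟨d, d'⟩, rfl⟩ := S.exists_rep hg
    obtain ⟨⟨⟨c, k⟩, hk⟩, (e : k = _)⟩ := hbij.2 ((f d)⁻¹ * d')
    subst e
    have hfc : f c = 1 := by
      rcases hXZ _ hk with h | h <;> simp only at h <;> subst h
      exacts [map_one f, hfz]
    rw [show ((d, d') : DD a × DD 0) = (d * c⁻¹, f (d * c⁻¹)) * (c, (f d)⁻¹ * d') by simp [hfc],
      map_mul]
    exact mul_mem (Subgroup.mem_sup_left ⟨_, mem_graphSub.2 rfl, rfl⟩)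
      (Subgroup.mem_sup_right ⟨_, hk, rfl⟩)

end Cfsg.Agent.DihedralPair
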