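import Cfsg.Agent.Lib.DihedralPair.Pair
import Cfsg.Agent.Lib.DihedralPair.Single

/-
Two strongly closed dihedral factors (owner: helper76).

* `exists_setting` : the embedding from an internal direct product
* `exists_closed_factors`
-/

set_option autoImplicit false

namespace Cfsg.Agent.DihedralPair

open DihedralGroup Cfsg

variable {G : Type*} [Group G] [Finite G]

theorem exists_pow (T : Sylow 2 G) {D : Subgroup G} (hD : D ≤ T) {m : ℕ} (hm : 2 ≤ m)
    (e : D ≃* DihedralGroup m) : ∃ k, m = 2 ^ (k + 1) := by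
  obtain ⟨n, hn⟩ := (T.isPGroup'.to_le hD).exists_card_eq
  rw [Nat.card_congr e.toEquiv, DihedralGroup.nat_card] at hn
  obtain ⟨j, hj, hj'⟩ := (Nat.dvd_prime_pow Nat.prime_two).1
    (Dvd.intro_left 2 hn : m ∣ 2 ^ n)
  rcases j with _ | k
  · omega
  · exact ⟨k, hj'⟩

theorem exists_setting (T : Sylow 2 G) {D₁ D₂ : Subgroup G}
    (hD : IsInternalDirectProduct D₁ D₂ (T : Subgroup G)) {a b : ℕ} (e₁ : D₁ ≃* DD a)
    (e₂ : D₂ ≃* DD b) : ∃ ι : DD a × DD b →* G, Setting ι T := by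
  obtain ⟨h1, h2, hc, hd, hsup⟩ := hD
  set f := D₁.subtype.comp e₁.symm.toMonoidHom with hf
  set g := D₂.subtype.comp e₂.symm.toMonoidHom with hg
  have hfm : ∀ x, f x ∈ D₁ := fun x => (e₁.symm x).2
  have hgm : ∀ y, g y ∈ D₂ := fun y => (e₂.symm y).2
  have hcomm : ∀ x y, Commute (f x) (g y) := fun x y => hc _ (hfm x) _ (hgm y)
  refine ⟨MonoidHom.noncommCoprod f g hcomm, ?_, ?_⟩
  · rw [injective_iff_map_eq_one]
    rintro ⟨x, y⟩ h
    change f x * g y = 1 at h
    have hx : f x ∈ D₁ ⊓ D₂ :=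
      Subgroup.mem_inf.2 ⟨hfm x, eq_inv_of_mul_eq_one_left h ▸ D₂.inv_mem (hgm y)⟩
    rw [hd, Subgroup.mem_bot] at hx
    rw [hx, one_mul] at h
    have hx' : e₁.symm x = 1 := Subtype.ext hx
    have hy' : e₂.symm y = 1 := Subtype.ext h
    exact Prod.ext (e₁.symm.injective (hx'.trans (map_one _).symm))
      (e₂.symm.injective (hy'.trans (map_one _).symm))
  · rw [MonoidHom.noncommCoprod_range, hf, hg, MonoidHom.range_comp, MonoidHom.range_comp,
      MonoidHom.range_eq_top.2 e₁.symm.surjective, MonoidHom.range_eq_top.2 e₂.symm.surjective,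
      ← MonoidHom.range_eq_map, ← MonoidHom.range_eq_map, Subgroup.range_subtype,
      Subgroup.range_subtype, hsup]

/-- The strongly closed factors. -/
theorem exists_closed_factors {a b : ℕ} {ι : DD a × DD b →* G} {T : Sylow 2 G} (S : Setting ι T)
    (ha : 1 ≤ a) (h2 : ∀ H : Subgroup G, H.index ≠ 2) :
    ∃ R₁ R₂ : Subgroup G, IsInternalDirectProduct R₁ R₂ (T : Subgroup G) ∧
      Nonempty (R₁ ≃* DD a) ∧ Nonempty (R₂ ≃* DD b) ∧
      IsStronglyClosed R₁ (T : Subgroup G) ∧ IsStronglyClosed R₂ (T : Subgroup G) := by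
  rcases Nat.eq_zero_or_pos b with rfl | hb
  · exact S.factor_single ha h2
  · exact S.factor_pair ha hb h2

theorem pos_of_noncomm {a b : ℕ} {ι : DD a × DD b →* G} {T : Sylow 2 G} (S : Setting ι T)
    (hT : ¬ IsMulCommutative (T : Subgroup G)) : 1 ≤ a ∨ 1 ≤ b := by
  by_contra h
  push Not at h
  obtain ⟨rfl, rfl⟩ : a = 0 ∧ b = 0 := by omega
  refine hT ⟨⟨fun x y => Subtype.ext ?_⟩⟩
  obtain ⟨p, hp⟩ := S.exists_rep x.2
  obtain ⟨q, hq⟩ := S.exists_rep y.2
  show (x : G) * y = y * x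
  rw [← hp, ← hq, ← map_mul, ← map_mul]
  congr 1
  exact Prod.ext ((isSmall_zero rfl q.1).2 p.1) ((isSmall_zero rfl q.2).2 p.2)

end Cfsg.Agent.DihedralPair
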