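import Cfsg.Agent.Lib.DihedralPair.Graph

/-
Both factors nonabelian (owner: helper76).

* `Setting.all_active` : every box is active
* `Setting.factor_pair` : the strongly closed factors
-/

set_option autoImplicit false

namespace Cfsg.Agent.DihedralPair

open DihedralGroup Cfsg Cfsg.FusionSystem Cfsg.Agent.Fusion

variable {a b : ℕ} {G : Type*} [Group G] [Finite G] {ι : DD a × DD b →* G} {T : Sylow 2 G}

/-- The two elements above a reflection. -/
def PairSet (ι : DD a × DD b →* G) (w : DD b) (l : ZMod (2 ^ (a + 1))) (x : G) : Prop :=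
  x = ι (sr l, w) ∨ x = ι (sr l * zz a, w)

theorem Setting.exists_moving (S : Setting ι T) (ha : 1 ≤ a) (hb : 1 ≤ b) {ε : ZMod 2} {w : DD b}
    (hw : w = 1 ∨ w = zz b) {i₀ : ZMod (2 ^ (a + 1))} (hi : par i₀ = ε) (hR : Reach ι i₀ w) :
    ∃ l, par l = ε ∧ ∃ α ∈ autInducedBy ⊤ (side ι l), Odd (orderOf α) ∧
      ∃ x : side ι l, PairSet ι w l x ∧ ¬ PairSet ι w l (α x : side ι l) := by
  by_contra hne
  have hst : ∀ l, par l = ε → ∀ α ∈ autInducedBy ⊤ (side ι l), Odd (orderOf α) →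
      ∀ x : side ι l, PairSet ι w l x → PairSet ι w l (α x : side ι l) := fun l hl α hα ho x hx =>
    by_contra fun h => hne ⟨l, hl, α, hα, ho, x, hx, h⟩
  clear hne
  set M : Subgroup G → (G → G) → Prop := fun P f => ∀ l, par l = ε → side ι l ≤ P →
    ∃ m, par m = ε ∧ (∀ x ∈ side ι l, f x ∈ side ι m) ∧ (∀ y ∈ side ι m, ∃ x ∈ side ι l, f x = y) ∧
      ∀ x, PairSet ι w l x → PairSet ι w m (f x) with hM
  have hmemP : ∀ l x, PairSet ι w l x → x ∈ side ι l := by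
    rintro l x (rfl | rfl)
    · exact ⟨_, ⟨sr_mem_four l, trivial⟩, rfl⟩
    · exact ⟨_, ⟨mul_mem (sr_mem_four l) (zz_mem_four l), trivial⟩, rfl⟩
  -- a conjugate of the block lies in the Sylow subgroup and sends `t` to the central involution
  obtain ⟨g, hg, -⟩ := hR
  have hC : (T : Subgroup G) ≤ Subgroup.centralizer {ι (zz a, 1)} := fun t ht => by
    obtain ⟨u, rfl⟩ := S.exists_rep ht
    rw [Subgroup.mem_centralizer_singleton_iff, ← map_mul, ← map_mul]
    congr 1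
    exact Prod.ext (zz_comm u.1) (by simp)
  have hle : (side ι i₀).map (MulAut.conj g⁻¹).toMonoidHom ≤ Subgroup.centralizer {ι (zz a, 1)} := by
    rintro _ ⟨_, ⟨⟨v, u⟩, ⟨hv, -⟩, rfl⟩, rfl⟩
    rw [Subgroup.mem_centralizer_singleton_iff]
    show g⁻¹ * ι (v, u) * g⁻¹⁻¹ * ι (zz a, 1) = ι (zz a, 1) * (g⁻¹ * ι (v, u) * g⁻¹⁻¹)
    have hc : ι (v, u) * ι (sr i₀, w) = ι (sr i₀, w) * ι (v, u) := by
      rw [← map_mul, ← map_mul]
      exact congrArg ι (Prod.ext (four_comm hv (sr_mem_four i₀)) ((isSmall_zz hw).2 u))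
    rw [← hg] at hc
    calc g⁻¹ * ι (v, u) * g⁻¹⁻¹ * ι (zz a, 1)
        = g⁻¹ * (ι (v, u) * (g * ι (zz a, 1) * g⁻¹)) * g := by group
      _ = g⁻¹ * (g * ι (zz a, 1) * g⁻¹ * ι (v, u)) * g := by rw [hc]
      _ = ι (zz a, 1) * (g⁻¹ * ι (v, u) * g⁻¹⁻¹) := by group
  obtain ⟨c, hc, hcT⟩ := ((isSylowIn_top T).mono hC le_top).exists_conj_le
    ((T.isPGroup'.to_le (S.side_le i₀)).map _) hle
  have hmap : IsMap (groupFusionSystem (T : Subgroup G)) (side ι i₀)
      fun x => c * g⁻¹ * x * (c * g⁻¹)⁻¹ := isMap_group_iff.2 ⟨S.side_le i₀, c * g⁻¹, fun x hx => ⟨by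
        have := hcT _ ⟨x, hx, rfl⟩
        rwa [show c * g⁻¹ * x * (c * g⁻¹)⁻¹ = c * (MulAut.conj g⁻¹ x) * c⁻¹ by simp [mul_assoc]],
      rfl⟩⟩
  have hMf : M (side ι i₀) fun x => c * g⁻¹ * x * (c * g⁻¹)⁻¹ := by
    refine S.alperin M ?_ ?_ ?_ ?_ ?_ hmap
    · intro P f f' _ h e l hl hlP
      obtain ⟨m, hm, h1, h2, h3⟩ := h l hl hlP
      refine ⟨m, hm, fun x hx => e x (hlP hx) ▸ h1 x hx, fun y hy => ?_, fun x hx => ?_⟩
      · obtain ⟨x, hx, hxy⟩ := h2 y hy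
        exact ⟨x, hx, (e x (hlP hx)).symm.trans hxy⟩
      · exact e x (hlP (hmemP l x hx)) ▸ h3 x hx
    · exact fun P P' f _ hP h l hl hlP => h l hl (hlP.trans hP)
    · intro P P' f f' _ _ hm h h' l hl hlP
      obtain ⟨m, hm', h1, h2, h3⟩ := h l hl hlP
      have hmP : side ι m ≤ P' := fun y hy => by
        obtain ⟨x, hx, rfl⟩ := h2 y hy; exact hm x (hlP hx)
      obtain ⟨m', hm'', h1', h2', h3'⟩ := h' m hm' hmP
      refine ⟨m', hm'', fun x hx => h1' _ (h1 x hx), fun y hy => ?_, fun x hx => h3' _ (h3 x hx)⟩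
      obtain ⟨y', hy', rfl⟩ := h2' y hy
      obtain ⟨x, hx, rfl⟩ := h2 y' hy'
      exact ⟨x, hx, rfl⟩
    · intro R α hα _ l hl hlR
      obtain ⟨s, hs, hst⟩ := mem_autInducedBy_iff.1 hα
      obtain ⟨⟨d, d'⟩, rfl⟩ := S.exists_rep hs
      obtain ⟨m, hm, hdm⟩ := conj_par d l
      have hval : ∀ v u, ι (v, u) ∈ side ι l →
          autFn α (ι (v, u)) = ι (d * v * d⁻¹, d' * u * d'⁻¹) := fun v u hvu => by
        rw [autFn_apply α (hlR hvu), hst, ← map_inv, ← map_mul, ← map_mul]; rfl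
      have hiff : ∀ v, v ∈ four l ↔ d * v * d⁻¹ ∈ four m := fun v => by
        rw [four, four, Subgroup.mem_centralizer_singleton_iff,
          Subgroup.mem_centralizer_singleton_iff, ← hdm, conj_mul, conj_mul, mul_left_inj,
          mul_right_inj]
      refine ⟨m, hm.trans hl, ?_, ?_, ?_⟩
      · rintro _ ⟨⟨v, u⟩, hvu, rfl⟩
        rw [hval v u ⟨_, hvu, rfl⟩]
        exact ⟨_, ⟨(hiff v).1 hvu.1, trivial⟩, rfl⟩
      · rintro _ ⟨⟨v, u⟩, hvu, rfl⟩
        have h1 : (d⁻¹ * v * d, d'⁻¹ * u * d') ∈ (four l).prod (⊤ : Subgroup (DD b)) :=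
          ⟨(hiff _).2 (by rw [show d * (d⁻¹ * v * d) * d⁻¹ = v by group]; exact hvu.1), trivial⟩
        refine ⟨_, ⟨_, h1, rfl⟩, ?_⟩
        rw [hval _ _ ⟨_, h1, rfl⟩]
        congr 2 <;> group
      · rintro x (rfl | rfl)
        · left
          rw [hval _ _ (hmemP l _ (Or.inl rfl)), hdm, (isSmall_zz hw).2 d', mul_inv_cancel_right]
        · right
          rw [hval _ _ (hmemP l _ (Or.inr rfl)), ← conj_mul, hdm, zz_comm d, mul_inv_cancel_right,
            (isSmall_zz hw).2 d', mul_inv_cancel_right]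
    · intro E₁ E₂ h1 h2 α hα ho l hl hlE
      have hmem : ∀ p, p ∈ (four l).prod (⊤ : Subgroup (DD b)) → p ∈ E₁.prod E₂ := fun p hp => by
        obtain ⟨q, hq, e⟩ := hlE ⟨p, hp, rfl⟩
        rwa [S.inj e] at hq
      have hE2 : E₂ = ⊤ := by
        rcases h2 with h | ⟨k, rfl⟩
        · exact h
        · exact eq_top_iff.2 fun d _ => (hmem (1, d) ⟨one_mem _, trivial⟩).2
      subst hE2
      rcases h1 with rfl | ⟨k, rfl⟩
      · rw [S.odd_top ha hb ho]
        refine ⟨l, hl, fun x hx => ?_, fun y hy => ⟨y, hy, ?_⟩, fun x hx => ?_⟩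
        · rw [autFn_apply 1 (hlE hx)]; exact hx
        · rw [autFn_apply 1 (hlE hy)]; rfl
        · rw [autFn_apply 1 (hlE (hmemP l x hx))]; exact hx
      · have hk : four k = four l :=
          (four_eq_of_mem (hmem (sr l, 1) ⟨sr_mem_four l, trivial⟩).1).symm
        have hside : ((four k).prod (⊤ : Subgroup (DD b))).map ι = side ι l := by rw [side, hk]
        obtain ⟨β, hβ, hβo, hβa⟩ : ∃ β ∈ autInducedBy ⊤ (side ι l), Odd (orderOf β) ∧
            ∀ x (hx : x ∈ side ι l), autFn α x = (β ⟨x, hx⟩ : side ι l) := by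
          refine ⟨MulAut.congr (MulEquiv.subgroupCongr hside) α, ?_, by rwa [MulEquiv.orderOf_eq],
            fun x hx => autFn_apply α (hlE hx)⟩
          obtain ⟨k', hk', hk''⟩ := mem_autInducedBy_iff.1 hα
          exact mem_autInducedBy_iff.2 ⟨k', hk', fun y => hk'' _⟩
        refine ⟨l, hl, fun x hx => ?_, fun y hy => ?_, fun x hx => ?_⟩
        · rw [hβa x hx]; exact (β _).2
        · refine ⟨_, (β.symm ⟨y, hy⟩).2, ?_⟩
          rw [hβa _ (β.symm ⟨y, hy⟩).2, MulEquiv.apply_symm_apply]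
        · rw [hβa x (hmemP l x hx)]; exact hst l hl β hβ hβo ⟨x, hmemP l x hx⟩ hx
  obtain ⟨m, -, -, -, h3⟩ := hMf i₀ hi le_rfl
  have hval : c * g⁻¹ * ι (sr i₀, w) * (c * g⁻¹)⁻¹ = ι (zz a, 1) := by
    rw [← hg]
    calc c * g⁻¹ * (g * ι (zz a, 1) * g⁻¹) * (c * g⁻¹)⁻¹ = c * ι (zz a, 1) * c⁻¹ := by group
      _ = ι (zz a, 1) := by rw [Subgroup.mem_centralizer_singleton_iff.1 hc, mul_inv_cancel_right]
  have hz : (zz a : DD a) ∈ rot a := ⟨mid a, rfl⟩
  rcases h3 _ (Or.inl rfl) with e | e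
  · have : zz a = sr m := congrArg Prod.fst (S.inj (hval.symm.trans e))
    exact sr_not_mem_rot m (this ▸ hz)
  · have : zz a = sr m * zz a := congrArg Prod.fst (S.inj (hval.symm.trans e))
    exact sr_not_mem_rot m ((right_eq_mul.1 this).symm ▸ one_mem _)

theorem Setting.active_of_moving (S : Setting ι T) (ha : 1 ≤ a) (hb : 1 ≤ b) {w : DD b}
    (hw : w = 1 ∨ w = zz b) {l : ZMod (2 ^ (a + 1))} {α : MulAut (side ι l)}
    (hα : α ∈ autInducedBy ⊤ (side ι l)) (ho : Odd (orderOf α)) {x : side ι l}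
    (hx : PairSet ι w l x) (hαx : ¬ PairSet ι w l (α x : side ι l)) (j : ZMod (2 ^ (b + 1))) :
    Active (S.box l j) := by
  obtain ⟨d, h, hh, heq⟩ := S.box_of_side hb hα ho j
  set B := S.box l j
  let e : sideE l (b := b) ≃* side ι l := (sideE l).equivMapOfInjective ι S.inj
  set β := MulAut.congr e.symm α
  have hβ : ∀ (v : sideE l (b := b)), (α (e v) : G) = ι ((β v : sideE l) : DD a × DD b) := fun v => by
    conv_lhs => rw [← e.apply_symm_apply (α (e v))]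
    rfl
  -- the second coordinate of the image of a central second coordinate
  have hsec : ∀ (q : quad ι l j) (v : DD a) (u : DD b), (q : G) = ι (v, u) → (u = 1 ∨ u = zz b) →
      ∃ v' u', ((h q : quad ι l j) : G) = ι (v', u') ∧ (u' = 1 ∨ u' = zz b) ∧
        ∀ (hq : (v, u) ∈ sideE l (b := b)), ((β ⟨(v, u), hq⟩ : sideE l) : DD a × DD b) = (v', u') := by
    intro q v u hq hu
    have hmem : (v, u) ∈ sideE l (b := b) := ⟨(B.eq_el hq).1, trivial⟩
    have hmem' : (q : G) ∈ side ι l := hq ▸ ⟨_, hmem, rfl⟩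
    obtain ⟨v', u', -, -, e'⟩ := B.exists_eq (h q)
    have h1 := heq q hmem'
    rw [show (⟨(q : G), hmem'⟩ : side ι l) = e ⟨(v, u), hmem⟩ from Subtype.ext hq, hβ, e', ← map_inv,
      ← map_mul, ← map_mul] at h1
    have h2 := S.inj h1
    have hc := side_center hb β (e := ⟨(v, u), hmem⟩) hu
    rw [h2] at hc
    have hu' : u' = 1 ∨ u' = zz b := by
      rcases hc with hc | hc
      · left
        have : d * u' * d⁻¹ = 1 := by simpa using hc
        exact conj_eq_one_iff.1 this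
      · right
        have : d * u' * d⁻¹ = zz b := by simpa using hc
        calc u' = d⁻¹ * (d * u' * d⁻¹) * d := by group
          _ = zz b := by rw [this, zz_comm, mul_assoc, inv_mul_cancel, mul_one]
    refine ⟨v', u', e', hu', fun _ => h2.trans (Prod.ext (by simp) ?_)⟩
    show d * u' * d⁻¹ = u'
    rw [(isSmall_zz hu').2 d, mul_inv_cancel_right]
  have hz2 : h B.swap.z = B.swap.z := by
    obtain ⟨v', u', e', -, hβ'⟩ := hsec B.swap.z 1 (zz b) rfl (Or.inr rfl)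
    refine Subtype.ext (e'.trans ?_)
    show _ = ι (1, zz b)
    rw [← hβ' ⟨one_mem _, trivial⟩, side_fix_zz hb β]
  have hA : ∀ q ∈ B.swap.ax, h q ∈ B.swap.ax := by
    intro q hq
    obtain ⟨v, u, -, hu, e1⟩ := B.exists_eq q
    have hur : u ∈ rot b := (B.swap.mem_ax (v := u) (w := v) e1).1 hq
    obtain ⟨v', u', e', hu', -⟩ := hsec q v u e1 (four_rot hu hur)
    refine (B.swap.mem_ax (v := u') (w := v') e').2 ?_
    rcases hu' with rfl | rfl
    · exact one_mem _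
    · exact ⟨mid b, rfl⟩
  have hA' : ∀ q ∈ B.swap.ax, h⁻¹ q ∈ B.swap.ax := by
    intro q hq
    have hs : Function.Surjective (fun y : B.swap.ax => (⟨h y, hA y y.2⟩ : B.swap.ax)) :=
      Finite.surjective_of_injective fun y y' e => Subtype.ext (h.injective (congrArg Subtype.val e))
    obtain ⟨y, hy⟩ := hs ⟨q, hq⟩
    have hyq : h y = q := congrArg Subtype.val hy
    rw [← hyq, MulAut.inv_apply_self]
    exact y.2
  have hcy := (B.swap.base hb).comm_of_fix hz2 hA' hA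
  obtain ⟨o, ho', p, hp, rfl⟩ := B.good.decomp h hh
  have hpy : p * B.swap.x hb * p⁻¹ = B.swap.x hb := by
    rw [mul_inv_eq_iff_eq_mul]
    rcases B.aut_sylow_cases hp with rfl | ⟨_, rfl⟩ | ⟨_, rfl⟩ | ⟨_, _, rfl⟩
    · simp
    · exact B.comm_xy ha hb
    · rfl
    · rw [mul_assoc, ← mul_assoc (B.swap.x hb), ← B.comm_xy ha hb, mul_assoc]
  have hoy : o * B.swap.x hb * o⁻¹ = B.swap.x hb := by
    calc o * B.swap.x hb * o⁻¹ = o * (p * B.swap.x hb * p⁻¹) * o⁻¹ := by rw [hpy]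
      _ = (o * p) * B.swap.x hb * (o * p)⁻¹ := by group
      _ = B.swap.x hb := hcy
  refine B.active_of_not_comm ha ho' fun hox => ?_
  have ho1 : o = 1 := Lin.eq_one_of_fix (B.base ha) ho' hox B.z_mem_ax
    (fun e => zz_ne_one b (congrArg Prod.snd (S.inj ((congrArg Subtype.val e).trans (map_one ι).symm))))
    B.z_ne.symm ((B.swap.base hb).fix_of_comm hoy).1
  subst ho1
  rw [one_mul] at hsec
  have hxv : ∃ v, ((x : side ι l) : G) = ι (v, w) ∧ (v = sr l ∨ v = sr l * zz a) := by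
    rcases hx with hx | hx
    · exact ⟨_, hx, Or.inl rfl⟩
    · exact ⟨_, hx, Or.inr rfl⟩
  obtain ⟨v, hxe, hv⟩ := hxv
  have hv4 : v ∈ four l := by
    rcases hv with rfl | rfl
    exacts [sr_mem_four l, mul_mem (sr_mem_four l) (zz_mem_four l)]
  have hw4 : w ∈ four j := (isSmall_zz hw).1 j
  obtain ⟨v', u', e', -, hβ'⟩ := hsec (B.el v w hv4 hw4) v w rfl hw
  have hαv : (α x : G) = ι (v', u') := by
    rw [show x = e ⟨(v, w), hv4, trivial⟩ from Subtype.ext hxe, hβ, hβ' ⟨hv4, trivial⟩]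
  refine hαx ?_
  rw [hαv, ← e']
  have hzz : sr l * zz a * zz a = sr l := by rw [mul_assoc, zz_mul_self, mul_one]
  have hq : r (quarter a) * v * (r (quarter a))⁻¹ = v * zz a := by
    rcases hv with rfl | rfl
    · rw [quarter_conj_sr ha]
    · rw [← conj_mul, quarter_conj_sr ha, zz_comm (r (quarter a)), mul_inv_cancel_right]
  have hwc : r (quarter b) * w * (r (quarter b))⁻¹ = w := by
    rw [(isSmall_zz hw).2, mul_inv_cancel_right]
  have hy : ((B.swap.x hb (B.el v w hv4 hw4) : quad ι l j) : G) = ι (v, w) :=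
    (B.swap.x_apply hb _ (v := w) (w := v) rfl).trans (by rw [hwc]; rfl)
  have hxx : ∀ q : quad ι l j, (q : G) = ι (v, w) → ((B.x ha q : quad ι l j) : G) = ι (v * zz a, w) :=
    fun q hq' => (B.x_apply ha q hq').trans (by rw [hq])
  have h0 : PairSet ι w l (ι (v, w)) := by rcases hv with rfl | rfl <;> [left; right] <;> rfl
  have h1 : PairSet ι w l (ι (v * zz a, w)) := by
    rcases hv with rfl | rfl
    · right; rfl
    · left; rw [hzz]
  rcases B.aut_sylow_cases hp with rfl | ⟨_, rfl⟩ | ⟨_, rfl⟩ | ⟨_, _, rfl⟩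
  · exact h0
  · rw [hxx (B.el v w hv4 hw4) rfl]; exact h1
  · rw [hy]; exact h0
  · rw [MulAut.mul_apply, hxx _ hy]; exact h1

theorem Setting.all_active (S : Setting ι T) (ha : 1 ≤ a) (hb : 1 ≤ b)
    (h2 : ∀ H : Subgroup G, H.index ≠ 2) (i : ZMod (2 ^ (a + 1))) (j : ZMod (2 ^ (b + 1))) :
    Active (S.box i j) := by
  obtain ⟨i₀, j₀, hi₀, hA⟩ := S.exists_active ha h2 (par i)
  obtain ⟨w, -, hw, -, hR⟩ := (S.box i₀ j₀).active_spec ha hA
  obtain ⟨l, hl, α, hα, ho, x, hx, hαx⟩ := S.exists_moving ha hb (hw hb) hi₀ hR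
  exact S.active_conj hl (S.active_of_moving ha hb (hw hb) hα ho hx hαx j)

theorem Setting.exists_graph (S : Setting ι T) (ha : 1 ≤ a) (hb : 1 ≤ b)
    (h2 : ∀ H : Subgroup G, H.index ≠ 2) :
    ∃ f : DD a →* DD b, (∀ d, f d = 1 ∨ f d = zz b) ∧ f (zz a) = 1 ∧
      IsStronglyClosed ((graphSub f).map ι) (T : Subgroup G) := by
  have hspec : ∀ i j, ∃ w, (w = 1 ∨ w = zz b) ∧ Fixes ι (quad ι i j) i w ∧ Reach ι i w := fun i j => by
    obtain ⟨w, -, hw, hF, hR⟩ := (S.box i j).active_spec ha (S.all_active ha hb h2 i j)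
    exact ⟨w, hw hb, hF, hR⟩
  choose W hW hF hR using hspec
  choose rep hrep using exists_par a
  obtain ⟨f, hf, hfz, hfs⟩ := exists_hom ha (fun ε => W (rep ε) 0) fun ε => isSmall_zz (hW _ _)
  have hval : ∀ i j, f (sr i) = W i j := fun i j => by
    rw [hf]
    exact S.reach_unique ha hb (hW _ _) (hW i j) (S.reach_conj (hrep (par i)) (hR _ _)) (hR i j)
  refine ⟨f, fun d => ?_, hfz, S.closed_graph ha f hfs hfz fun i j => (hval i j).symm ▸ hF i j⟩
  have h4 := fun i => (hval i 0).symm ▸ hW i 0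
  cases d with
  | sr k => exact h4 k
  | r k =>
    rw [show (r k : DD a) = sr 0 * sr k by rw [sr_mul_sr, sub_zero], map_mul]
    rcases h4 0 with e | e <;> rcases h4 k with e' | e' <;> rw [e, e'] <;> simp [zz_mul_self]

theorem Setting.factor_pair (S : Setting ι T) (ha : 1 ≤ a) (hb : 1 ≤ b)
    (h2 : ∀ H : Subgroup G, H.index ≠ 2) :
    ∃ R₁ R₂ : Subgroup G, IsInternalDirectProduct R₁ R₂ (T : Subgroup G) ∧
      Nonempty (R₁ ≃* DD a) ∧ Nonempty (R₂ ≃* DD b) ∧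
      IsStronglyClosed R₁ (T : Subgroup G) ∧ IsStronglyClosed R₂ (T : Subgroup G) := by
  obtain ⟨f, hf, hfz, hf'⟩ := S.exists_graph ha hb h2
  obtain ⟨k, hk, hkz, hk'⟩ := S.swap.exists_graph hb ha h2
  have hfk : ∀ d, k (f d) = 1 := fun d => by
    rcases hf d with e | e <;> rw [e]
    · exact map_one k
    · exact hkz
  refine ⟨_, _, ⟨hf'.1, hk'.1, ?_, ?_, ?_⟩, S.graph_equiv f, S.swap.graph_equiv k, hf', hk'⟩
  · rintro _ ⟨p, hp, rfl⟩ _ ⟨⟨y, x⟩, hq, rfl⟩
    rw [swp_apply, ← map_mul, ← map_mul]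
    congr 1
    obtain rfl : x = k y := mem_graphSub.1 hq
    obtain ⟨p1, p2⟩ := p
    obtain rfl : p2 = f p1 := mem_graphSub.1 hp
    exact Prod.ext ((isSmall_zz (hk y)).2 p1) ((isSmall_zz (hf p1)).2 y).symm
  · refine (Subgroup.eq_bot_iff_forall _).2 ?_
    rintro g ⟨⟨⟨p1, p2⟩, hp, e⟩, ⟨⟨y, x⟩, hq, e'⟩⟩
    obtain rfl : x = k y := mem_graphSub.1 hq
    obtain rfl : p2 = f p1 := mem_graphSub.1 hp
    rw [swp_apply] at e'
    have h := S.inj (e.trans e'.symm)
    simp only [Prod.mk.injEq] at h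
    obtain ⟨h1, h2⟩ := h
    have hp1 : p1 = 1 := h1.trans (h2 ▸ hfk p1)
    rw [← e, hp1, map_one, Prod.mk_one_one, map_one]
  · refine le_antisymm (sup_le hf'.1 hk'.1) fun g hg => ?_
    obtain ⟨⟨d, d'⟩, rfl⟩ := S.exists_rep hg
    set p := d * (k d')⁻¹ with hp
    set y := (f p)⁻¹ * d'
    have hy : k y = k d' := by rw [map_mul, map_inv, hfk, inv_one, one_mul]
    rw [show ι (d, d') = ι (p, f p) * swp ι (y, k y) by
      rw [swp_apply, ← map_mul, hy, Prod.mk_mul_mk, mul_inv_cancel_left, hp, inv_mul_cancel_right]]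
    exact mul_mem (Subgroup.mem_sup_left ⟨_, mem_graphSub.2 rfl, rfl⟩)
      (Subgroup.mem_sup_right ⟨_, mem_graphSub.2 rfl, rfl⟩)

end Cfsg.Agent.DihedralPair
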